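import Mathlib
import Cfsg.Agent.S0001

/-!
# Elements of order prime to `p` in a coset of a normal `p`-subgroup (helper944)

`exists_conj_eq` : `U` a finite `p`-subgroup normalised by `t`, `⟨t⟩ ∩ U = 1`, `y ∈ t U` with `y ^ N = 1`, `N` prime to
`p`: `y` is conjugate to `t` by an element of `U`.
-/

set_option autoImplicit false

namespace Cfsg.Agent.H944.CoprimeConj

open Subgroup Pointwise

variable {Y : Type*} [Group Y]

/-- **Schur–Zassenhaus for elements.** -/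
theorem exists_conj_eq [Finite Y] {p N : ℕ} [Fact p.Prime] (hN : N.Coprime p) {U : Subgroup Y} (hU : IsPGroup p U)
    {t y : Y} (ht : t ∈ normalizer (U : Set Y)) (htU : zpowers t ⊓ U = ⊥) (hy : y ^ N = 1) (hyt : t⁻¹ * y ∈ U) :
    ∃ v ∈ U, v * y * v⁻¹ = t := by
  classical
  have hzn : zpowers t ≤ normalizer (U : Set Y) := by
    rw [zpowers_le]; exact ht
  set Γ : Subgroup Y := U ⊔ zpowers t with hΓ
  have hUΓ : U ≤ Γ := le_sup_left
  have htΓ : t ∈ Γ := (le_sup_right : zpowers t ≤ Γ) (mem_zpowers t)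
  have hyΓ : y ∈ Γ := by
    have h1 : y = t * (t⁻¹ * y) := by group
    rw [h1]
    exact mul_mem htΓ (hUΓ hyt)
  have hΓn : Γ ≤ normalizer (U : Set Y) := sup_le le_normalizer hzn
  have hNn : (U.subgroupOf Γ).Normal := by
    rw [normal_subgroupOf_iff_le_normalizer hUΓ]
    exact hΓn
  -- `Γ / U` is generated by the image of `t`, and of `y`
  have hmem : ∀ g ∈ Γ, ∃ u ∈ U, ∃ i : ℤ, g = u * t ^ i := by
    intro g hg
    have h1 : g ∈ ((U ⊔ zpowers t : Subgroup Y) : Set Y) := hg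
    rw [Subgroup.coe_mul_of_right_le_normalizer_left _ _ hzn, Set.mem_mul] at h1
    obtain ⟨u, hu, z, hz, e⟩ := h1
    obtain ⟨i, rfl⟩ := mem_zpowers_iff.1 hz
    exact ⟨u, hu, i, e.symm⟩
  -- the order of `t` is prime to `p`
  have hpow : ∀ i : ℕ, ∃ u ∈ U, y ^ i = t ^ i * u := by
    intro i
    induction i with
    | zero => exact ⟨1, one_mem _, by simp⟩
    | succ i ih =>
      obtain ⟨u, hu, e⟩ := ih
      have h1 : t⁻¹ * u * t ∈ U := by
        have := (mem_normalizer_iff''.1 ht u).1 hu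
        exact this
      refine ⟨t⁻¹ * u * t * (t⁻¹ * y), mul_mem h1 hyt, ?_⟩
      rw [pow_succ, e, pow_succ]
      group
  have htN : t ^ N = 1 := by
    obtain ⟨u, hu, e⟩ := hpow N
    rw [hy] at e
    have h1 : t ^ N ∈ U := by
      have : t ^ N = u⁻¹ := eq_inv_of_mul_eq_one_left e.symm
      rw [this]; exact inv_mem hu
    have h2 : t ^ N ∈ zpowers t ⊓ U := ⟨pow_mem (mem_zpowers t) _, h1⟩
    rw [htU, mem_bot] at h2
    exact h2
  obtain ⟨m, hm⟩ := IsPGroup.iff_card.1 hU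
  have hp : p.Prime := Fact.out
  have hcop : ∀ z : Y, z ^ N = 1 → (Nat.card U).Coprime (Nat.card (zpowers z)) := by
    intro z hz
    rw [hm, Nat.card_zpowers]
    apply Nat.Coprime.pow_left
    exact (Nat.Coprime.coprime_dvd_left (orderOf_dvd_of_pow_eq_one hz) hN).symm
  have hyU : zpowers y ⊓ U = ⊥ := by
    rw [eq_bot_iff]
    intro g hg
    have h1 : orderOf g ∣ Nat.card U := by
      have := orderOf_dvd_natCard (⟨g, hg.2⟩ : U)
      rwa [← Subgroup.orderOf_coe] at this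
    have h2 : orderOf g ∣ Nat.card (zpowers y) := by
      have := orderOf_dvd_natCard (⟨g, hg.1⟩ : zpowers y)
      rwa [← Subgroup.orderOf_coe] at this
    have h3 : orderOf g = 1 := Nat.eq_one_of_dvd_coprimes (hcop y hy) h1 h2
    exact mem_bot.2 (orderOf_eq_one_iff.1 h3)
  -- complements
  have hcompl : ∀ z : Y, z ∈ Γ → zpowers z ⊓ U = ⊥ → (∀ g ∈ Γ, ∃ u ∈ U, ∃ i : ℤ, g = u * z ^ i) →
      IsComplement' (U.subgroupOf Γ) ((zpowers z).subgroupOf Γ) := by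
    intro z hz hzU hg
    apply isComplement'_of_disjoint_and_mul_eq_univ
    · rw [disjoint_iff, eq_bot_iff]
      intro g hg
      have h1 : (g : Y) ∈ zpowers z ⊓ U := ⟨hg.2, hg.1⟩
      rw [hzU, mem_bot] at h1
      exact mem_bot.2 (Subtype.ext h1)
    · rw [Set.eq_univ_iff_forall]
      intro g
      obtain ⟨u, hu, i, e⟩ := hg g g.2
      refine Set.mem_mul.2 ⟨⟨u, hUΓ hu⟩, hu, ⟨z ^ i, zpow_mem hz i⟩, ?_, Subtype.ext e.symm⟩
      exact zpow_mem (mem_zpowers z) i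
  have hmem' : ∀ g ∈ Γ, ∃ u ∈ U, ∃ i : ℤ, g = u * y ^ i := by
    intro g hg
    obtain ⟨u, hu, i, e⟩ := hmem g hg
    -- `t ^ i ≡ y ^ i`
    have hpowz : ∀ i : ℤ, ∃ u ∈ U, t ^ i = u * y ^ i := by
      have hyn : y ∈ normalizer (U : Set Y) := hΓn hyΓ
      intro i
      have key : ∀ j : ℕ, ∃ u ∈ U, t ^ j = u * y ^ j := by
        intro j
        obtain ⟨u, hu, e⟩ := hpow j
        refine ⟨y ^ j * u⁻¹ * (y ^ j)⁻¹, (mem_normalizer_iff.1 (pow_mem hyn j) _).1 (inv_mem hu), ?_⟩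
        rw [e]; group
      rcases Int.eq_nat_or_neg i with ⟨j, rfl | rfl⟩
      · obtain ⟨u, hu, e⟩ := key j
        exact ⟨u, hu, by simpa using e⟩
      · obtain ⟨u, hu, e⟩ := key j
        refine ⟨(y ^ j)⁻¹ * u⁻¹ * (y ^ j), ?_, ?_⟩
        · exact (mem_normalizer_iff''.1 (pow_mem hyn j) _).1 (inv_mem hu)
        · rw [zpow_neg, zpow_neg, zpow_natCast, zpow_natCast, e]; group
    obtain ⟨u', hu', e'⟩ := hpowz i
    exact ⟨u * u', mul_mem hu hu', i, by rw [e, e', mul_assoc]⟩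
  have hC1 := hcompl t htΓ htU hmem
  have hC2 := hcompl y hyΓ hyU hmem'
  have hcopidx : (Nat.card (U.subgroupOf Γ)).Coprime (U.subgroupOf Γ).index := by
    rw [hC1.symm.index_eq_card, Nat.card_congr (subgroupOfEquivOfLe hUΓ).toEquiv,
      Nat.card_congr (subgroupOfEquivOfLe (le_sup_right : zpowers t ≤ Γ)).toEquiv]
    exact hcop t htN
  have hsolv : Group.IsSolvable (U.subgroupOf Γ) ∨ Group.IsSolvable (Γ ⧸ (U.subgroupOf Γ)) := by
    left
    have h1 : IsPGroup p (U.subgroupOf Γ) := hU.comap_subtype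
    have : Group.IsNilpotent (U.subgroupOf Γ) := h1.isNilpotent
    infer_instance
  obtain ⟨g, hg⟩ := Cfsg.Agent.S0001.result (U.subgroupOf Γ) hcopidx hsolv _ _ hC2 hC1
  obtain ⟨u, hu, i, e⟩ := hmem' g g.2
  -- `u y u⁻¹ ∈ ⟨t⟩`
  have h1 : (g : Y) * y * (g : Y)⁻¹ ∈ zpowers t := by
    have h2 : (g * ⟨y, hyΓ⟩ * g⁻¹ : Γ) ∈ MulAut.conj g • ((zpowers y).subgroupOf Γ) := by
      rw [Subgroup.mem_pointwise_smul_iff_inv_smul_mem, ← map_inv, MulAut.smul_def, MulAut.conj_apply, inv_inv]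
      have : g⁻¹ * (g * ⟨y, hyΓ⟩ * g⁻¹) * g = (⟨y, hyΓ⟩ : Γ) := by group
      rw [this]
      exact mem_zpowers y
    rw [hg] at h2
    exact h2
  have h2 : (g : Y) * y * (g : Y)⁻¹ = u * y * u⁻¹ := by
    rw [e]; group
  rw [h2] at h1
  refine ⟨u, hu, ?_⟩
  obtain ⟨j, hj⟩ := mem_zpowers_iff.1 h1
  -- compare modulo `U`
  have h3 : t ^ (j - 1) ∈ zpowers t ⊓ U := by
    refine ⟨zpow_mem (mem_zpowers t) _, ?_⟩
    have h4 : t ^ (j - 1) = t⁻¹ * (u * y * u⁻¹) := by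
      rw [← hj, sub_eq_neg_add, zpow_add, zpow_neg, zpow_one]
    have h5 : t⁻¹ * (u * y * u⁻¹) = (t⁻¹ * u * t) * (t⁻¹ * y) * u⁻¹ := by group
    rw [h4, h5]
    exact U.mul_mem (U.mul_mem ((mem_normalizer_iff''.1 ht u).1 hu) hyt) (U.inv_mem hu)
  rw [htU, mem_bot] at h3
  rw [← hj]
  have h6 : t ^ j = t ^ (j - 1) * t := by
    rw [zpow_sub_one]; group
  rw [h6, h3, one_mul]

end Cfsg.Agent.H944.CoprimeConj
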