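import Mathlib
import Cfsg.Agent.BpExc.TorRgd
import Cfsg.Agent.H944.CoprimeConj

/-!
# Torality of elements of composite order (helper944)

`R : RGD cs h p T n X`, `Y` finite, `GG = ⊤`.

* `card_fix_pair` : the number of chambers fixed by two frame automorphisms;
* `exists_pair_conj` : a frame automorphism `β` and an element `c` with `β c = c`, `c ^ N = 1`, `N` prime to `p`, with a
  common fixed chamber are simultaneously conjugate to `conj t * β`, `conj t₁`, `t, t₁ ∈ T`;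
* `exists_conj_mem_T_coprime` : torality from Lang's theorem for an element `x` with `x ^ N = 1`, `N` prime to `p`.
-/

set_option autoImplicit false
set_option linter.unusedSectionVars false

namespace Cfsg.Agent.H944.TorAny

open CoxeterSystem Cfsg.Agent.ChevalleyStructure.CoxeterGeom Cfsg.Agent.Tits.Roots Cfsg.Agent.Tits.Core
  Cfsg.Agent.Tits.RootComb Cfsg.Agent.Tits.Exchange Cfsg.Agent.Nodes.Reps Cfsg.Agent.Nodes.BNOf
  Cfsg.Agent.Nodes.Comb Cfsg.Agent.Nodes.BNOf.RGD Cfsg.Agent.Nodes.Unique Cfsg.Agent.Nodes.CardSup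
  Cfsg.Agent.Nodes.StabComb Cfsg.Agent.Nodes.Bruhat Cfsg.Agent.Nodes.OppDec Cfsg.Agent.Nodes.LeviDec
  Cfsg.Agent.Nodes.NormalForm Cfsg.Agent.KFacts.RgdOpp Cfsg.Agent.KFacts.RgdAut Cfsg.Agent.KFacts.RgdDiag
  Cfsg.Agent.KFacts.RgdRigid Cfsg.Agent.CpAut.RgdFix Cfsg.Agent.CpAut.RgdCoh Cfsg.Agent.CpAut.RgdConj
  Cfsg.Agent.BpExc.TorRgd Cfsg.Agent.BpExc
open scoped commutatorElement Pointwise

variable {I W Y : Type*} [Fintype I] [DecidableEq I] [Group W] [Group Y] {M : CoxeterMatrix I}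
  {cs : CoxeterSystem M W} {A : I → I → ℤ} {h : IsCartan M A} {p : ℕ} {T : Subgroup Y} {n : I → Y}
  {X : (I → ℤ) → Subgroup Y} (R : RGD cs h p T n X)

include R

/-! ### fixed points of two automorphisms -/

/-- the splitting of a fixed element -/
theorem fix_split [Finite W] {β : MulAut Y} (D : Diag T X β 1) {w : W} {i : I} {s : Set (I → ℤ)}
    (hi : rep cs h w (sr i) ∈ s) (hS : s ⊆ Pos cs h) (hsub : s \ {rep cs h w (sr i)} ⊆ Fut cs h (w * cs.simple i))
    {a b : Y} (ha : a ∈ X (rep cs h w (sr i))) (hb : b ∈ Sup X (s \ {rep cs h w (sr i)}))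
    (hg : β (a * b) = a * b) : β a = a ∧ β b = b := by
  have hinf : X (rep cs h w (sr i)) ⊓ Sup X (s \ {rep cs h w (sr i)}) = ⊥ := by
    rw [eq_bot_iff, ← tail_inf R (w := w) (i := i)]
    exact inf_le_inf_left _ (Sup_mono hsub)
  have hroot : ∀ z ∈ s, Fix β (X z) := fun z hz => fix_X R D (hS hz).1
  have ha' : β a ∈ X (rep cs h w (sr i)) := (hroot _ hi a).2 ha
  have hb' : β b ∈ Sup X (s \ {rep cs h w (sr i)}) :=
    (fix_Sup (fun z hz => hroot z hz.1) b).2 hb
  rw [map_mul] at hg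
  have e2 : a⁻¹ * β a = b * (β b)⁻¹ := by
    rw [eq_mul_inv_iff_mul_eq, mul_assoc, hg, inv_mul_cancel_left]
  have e3 : a⁻¹ * β a ∈ X (rep cs h w (sr i)) ⊓ Sup X (s \ {rep cs h w (sr i)}) :=
    Subgroup.mem_inf.2 ⟨mul_mem (inv_mem ha) ha', by rw [e2]; exact mul_mem hb (inv_mem hb')⟩
  rw [hinf, Subgroup.mem_bot] at e3
  have e4 : β a = a := (inv_mul_eq_one.1 e3).symm
  rw [e4] at hg
  exact ⟨e4, mul_left_cancel hg⟩

theorem card_fix_pair_fut [Finite W] {β τ : MulAut Y} (D : Diag T X β 1) (D' : Diag T X τ 1) (w : W)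
    {s : Finset (I → ℤ)} (hS : (s : Set (I → ℤ)) ⊆ Fut cs h w) (hc : Closed cs h (s : Set (I → ℤ))) :
    Nat.card ↥(Sup X (s : Set (I → ℤ)) ⊓ (fixedSubgroup β ⊓ fixedSubgroup τ)) =
      ∏ x ∈ s, Nat.card ↥(X x ⊓ (fixedSubgroup β ⊓ fixedSubgroup τ)) := by
  classical
  induction hn : (Fut cs h w).ncard generalizing w s with
  | zero =>
    have h1 := (Set.ncard_eq_zero (finite_fut w)).1 hn
    rw [h1, Set.subset_empty_iff, Finset.coe_eq_empty] at hS
    subst hS
    have h2 : Sup X ((∅ : Finset (I → ℤ)) : Set (I → ℤ)) ⊓ (fixedSubgroup β ⊓ fixedSubgroup τ) = ⊥ := by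
      rw [eq_bot_iff]
      refine le_trans inf_le_left (Sup_le fun z hz => ?_)
      simp at hz
    rw [h2, Subgroup.card_bot, Finset.prod_empty]
  | succ k ih =>
    have hne : (Fut cs h w).Nonempty := by
      rw [Set.nonempty_iff_ne_empty]
      intro h1
      rw [h1, Set.ncard_empty] at hn
      omega
    obtain ⟨y, hy⟩ := hne
    obtain ⟨i, hi⟩ := exists_simple hy
    have hcard : (Fut cs h (w * cs.simple i)).ncard = k := by
      rw [fut_mul hi, Set.ncard_sdiff_singleton_of_mem (mem_fut hi), hn]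
      rfl
    have hsub : (s : Set (I → ℤ)) \ {rep cs h w (sr i)} ⊆ Fut cs h (w * cs.simple i) := by
      rw [fut_mul hi]
      exact Set.sdiff_subset_sdiff_left hS
    have hcl := closed_diff hi hS hc
    by_cases hx : rep cs h w (sr i) ∈ s
    · have e1 : ((s.erase (rep cs h w (sr i)) : Finset (I → ℤ)) : Set (I → ℤ)) =
          (s : Set (I → ℤ)) \ {rep cs h w (sr i)} := Finset.coe_erase _ s
      have key := ih (w * cs.simple i) (s := s.erase (rep cs h w (sr i))) (by rw [e1]; exact hsub)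
        (by rw [e1]; exact hcl) hcard
      rw [e1] at key
      rw [← Finset.mul_prod_erase s _ hx, ← key]
      have hpos : (s : Set (I → ℤ)) ⊆ Pos cs h := hS.trans (fut_subset_pos w)
      have hinf : X (rep cs h w (sr i)) ⊓ Sup X ((s : Set (I → ℤ)) \ {rep cs h w (sr i)}) = ⊥ := by
        rw [eq_bot_iff, ← tail_inf R (w := w) (i := i)]
        exact inf_le_inf_left _ (Sup_mono hsub)
      refine card_mul_of_disjoint
        (inf_le_inf_right _ (le_Sup (S := (s : Set (I → ℤ))) (Finset.mem_coe.2 hx)))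
        (inf_le_inf_right _ (Sup_mono Set.sdiff_subset)) ?_ ?_
      · rintro g ⟨hg, hgf, hgf'⟩
        obtain ⟨a, ha, b, hb, rfl⟩ := (mem_peel R hpos hc (Finset.mem_coe.2 hx)).1 hg
        obtain ⟨f1, f2⟩ := fix_split R D (Finset.mem_coe.2 hx) hpos hsub ha hb hgf
        obtain ⟨f3, f4⟩ := fix_split R D' (Finset.mem_coe.2 hx) hpos hsub ha hb hgf'
        exact ⟨a, ⟨ha, f1, f3⟩, b, ⟨hb, f2, f4⟩, rfl⟩
      · rw [eq_bot_iff, ← hinf]
        exact inf_le_inf inf_le_left inf_le_left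
    · have hs : (s : Set (I → ℤ)) \ {rep cs h w (sr i)} = s :=
        Set.sdiff_singleton_eq_self (fun h => hx (Finset.mem_coe.1 h))
      rw [hs] at hsub
      exact ih (w * cs.simple i) hsub hc hcard

theorem card_fix_pair_NW_modEq [Finite W] {β τ : MulAut Y} (D : Diag T X β 1) (D' : Diag T X τ 1) {k : ℕ}
    (hk : ∀ x, IsRoot cs h x → Nat.card ↥(X x ⊓ (fixedSubgroup β ⊓ fixedSubgroup τ)) ≡ 1 [MOD k]) (w : W) :
    Nat.card ↥(Sup X (NW cs h w) ⊓ (fixedSubgroup β ⊓ fixedSubgroup τ)) ≡ 1 [MOD k] := by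
  classical
  have h1 := card_fix_pair_fut R D D' 1 (s := (finite_NW w).toFinset) (by
    rw [fut_one, Set.Finite.coe_toFinset]
    exact fun x hx => ⟨hx.1, hx.2.1⟩) (by
    rw [Set.Finite.coe_toFinset]
    exact closed_NW w)
  rw [Set.Finite.coe_toFinset] at h1
  rw [h1]
  have h2 : ∀ s : Finset (I → ℤ), (∀ x ∈ s, IsRoot cs h x) →
      ∏ x ∈ s, Nat.card ↥(X x ⊓ (fixedSubgroup β ⊓ fixedSubgroup τ)) ≡ 1 [MOD k] := by
    intro s
    induction s using Finset.induction_on with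
    | empty => intro _; rw [Finset.prod_empty]
    | insert a s ha ih =>
      intro hs
      rw [Finset.prod_insert ha]
      have := (hk a (hs a (Finset.mem_insert_self a s))).mul (ih fun x hx => hs x (Finset.mem_insert_of_mem hx))
      rwa [one_mul] at this
  exact h2 _ fun x hx => ((Set.Finite.mem_toFinset _).1 hx).1

section Chambers

variable [Finite Y] [Fact p.Prime]

omit [Finite Y] in
theorem act_cell [Finite W] (hG : GG cs h T X = ⊤) {P : Sylow p Y}
    (hP : (P : Subgroup Y) = RGD.Sup X (RGD.Pos cs h)) {β : MulAut Y} (D : Diag T X β 1) {w : W} {k : Y}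
    (hk : Rp cs R.nsys w k) (v : Y) : β • ((k * v)⁻¹ • P) = (k * β v)⁻¹ • P := by
  have hβP : β • P = P := by
    rw [aut_smul_eq_iff, hP]
    exact fix_Sup fun x hx => fix_X R D hx.1
  have hmv : β • ((k * v)⁻¹ • P) = (β k * β v)⁻¹ • P := by
    rw [aut_smul_smul, hβP, map_inv, map_mul]
  have hT : ∀ {t g : Y}, t ∈ T → (t * g)⁻¹ • P = g⁻¹ • P := by
    intro t g ht
    rw [mul_inv_rev, mul_smul, (smul_eq_iff_mem_B R hG hP).2 (RGD.T_le_B (inv_mem ht))]
  have hkβ : ∃ t ∈ T, β k = t * k := by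
    refine ⟨β k * k⁻¹, ?_, by rw [inv_mul_cancel_right]⟩
    have := (fix_rp R D hk).mul hk.inv
    rw [mul_inv_cancel] at this
    exact this.mem_of_one
  obtain ⟨t, ht, e⟩ := hkβ
  rw [hmv, e, mul_assoc, hT ht]

/-- every chamber is in a cell -/
theorem exists_cell [Finite W] (hG : GG cs h T X = ⊤) {P : Sylow p Y}
    (hP : (P : Subgroup Y) = RGD.Sup X (RGD.Pos cs h)) (S : Sylow p Y) :
    ∃ w : W, ∀ k, Rp cs R.nsys w k → ∃ v ∈ Sup X (NW cs h w), S = (k * v)⁻¹ • P := by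
  obtain ⟨g₀, hg₀⟩ := MulAction.exists_smul_eq Y P S
  obtain ⟨g, rfl⟩ : ∃ g, g₀ = g⁻¹ := ⟨g₀⁻¹, (inv_inv g₀).symm⟩
  have hgG : g ∈ GG cs h T X := by rw [hG]; exact Subgroup.mem_top g
  obtain ⟨w, hw⟩ := (mem_GG R).1 hgG
  obtain ⟨u, hu, k', hk', v, hv, rfl⟩ := exists_normal_form R hw
  refine ⟨w, fun k hk => ⟨v, hv, ?_⟩⟩
  have hT : ∀ {t g : Y}, t ∈ T → (t * g)⁻¹ • P = g⁻¹ • P := by
    intro t g ht
    rw [mul_inv_rev, mul_smul, (smul_eq_iff_mem_B R hG hP).2 (RGD.T_le_B (inv_mem ht))]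
  have h1 : k' * k⁻¹ ∈ T := by
    have := hk'.mul hk.inv
    rw [mul_inv_cancel] at this
    exact this.mem_of_one
  have h2 : u * k' * v = u * ((k' * k⁻¹) * (k * v)) := by group
  rw [← hg₀, h2, mul_inv_rev, mul_smul, (smul_eq_iff_mem_B R hG hP).2 (RGD.U_le_B (inv_mem hu)), hT h1]

/-- the fixed chambers in a cell -/
theorem fix_cell [Finite W] (hG : GG cs h T X = ⊤) {P : Sylow p Y}
    (hP : (P : Subgroup Y) = RGD.Sup X (RGD.Pos cs h)) {β : MulAut Y} (D : Diag T X β 1) {w : W} {k v : Y}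
    (hk : Rp cs R.nsys w k) (hv : v ∈ Sup X (NW cs h w)) (hS : β • ((k * v)⁻¹ • P) = (k * v)⁻¹ • P) : β v = v := by
  rw [act_cell R hG hP D hk] at hS
  have hv' : β v ∈ Sup X (NW cs h w) := (fix_Sup (fun x hx => fix_X R D hx.1) v).2 hv
  exact (cell_inj R hG hP hk hk hv' hv hS).2

/-- **The number of chambers fixed by two frame automorphisms.** -/
theorem card_fix_pair [Fintype W] (hG : GG cs h T X = ⊤) {β τ : MulAut Y} (D : Diag T X β 1) (D' : Diag T X τ 1) :
    Nat.card {S : Sylow p Y // β • S = S ∧ τ • S = S} =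
      ∑ w : W, Nat.card ↥(Sup X (NW cs h w) ⊓ (fixedSubgroup β ⊓ fixedSubgroup τ)) := by
  classical
  obtain ⟨P, hP⟩ := exists_sylow_eq R hG
  have hex : ∀ w : W, ∃ k, Rp cs R.nsys w k := fun w => exists_rp cs R.nsys w
  choose k hk using hex
  let f : (Σ w : W, ↥(Sup X (NW cs h w) ⊓ (fixedSubgroup β ⊓ fixedSubgroup τ))) →
      {S : Sylow p Y // β • S = S ∧ τ • S = S} := fun q =>
    ⟨(k q.1 * q.2)⁻¹ • P, by
      have h1 : β (q.2 : Y) = q.2 := q.2.2.2.1
      rw [act_cell R hG hP D (hk _), h1], by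
      have h1 : τ (q.2 : Y) = q.2 := q.2.2.2.2
      rw [act_cell R hG hP D' (hk _), h1]⟩
  have hf : Function.Bijective f := by
    constructor
    · rintro ⟨w, ⟨v, hv, hvf⟩⟩ ⟨w', ⟨v', hv', hvf'⟩⟩ e
      have e1 : (k w * v)⁻¹ • P = (k w' * v')⁻¹ • P := congrArg Subtype.val e
      obtain ⟨rfl, rfl⟩ := cell_inj R hG hP (hk w) (hk w') hv hv' e1
      rfl
    · rintro ⟨S, hS, hS'⟩
      obtain ⟨w, hw⟩ := exists_cell R hG hP S
      obtain ⟨v, hv, rfl⟩ := hw (k w) (hk w)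
      exact ⟨⟨w, ⟨v, hv, fix_cell R hG hP D (hk w) hv hS, fix_cell R hG hP D' (hk w) hv hS'⟩⟩, rfl⟩
  rw [← Nat.card_congr (Equiv.ofBijective f hf), Nat.card_sigma]

theorem card_fix_pair_modEq [Finite W] (hG : GG cs h T X = ⊤) {β τ : MulAut Y} (D : Diag T X β 1)
    (D' : Diag T X τ 1) {k : ℕ}
    (hk : ∀ x, IsRoot cs h x → Nat.card ↥(X x ⊓ (fixedSubgroup β ⊓ fixedSubgroup τ)) ≡ 1 [MOD k]) :
    Nat.card {S : Sylow p Y // β • S = S ∧ τ • S = S} ≡ Nat.card W [MOD k] := by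
  classical
  have := Fintype.ofFinite W
  rw [card_fix_pair R hG D D']
  have h2 : ∀ s : Finset W, ∑ w ∈ s, Nat.card ↥(Sup X (NW cs h w) ⊓ (fixedSubgroup β ⊓ fixedSubgroup τ)) ≡
      s.card [MOD k] := by
    intro s
    induction s using Finset.induction_on with
    | empty => rw [Finset.sum_empty, Finset.card_empty]
    | insert a s ha ih =>
      rw [Finset.sum_insert ha, Finset.card_insert_of_notMem ha, Nat.add_comm s.card 1]
      exact (card_fix_pair_NW_modEq R D D' hk a).add ih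
  have := h2 Finset.univ
  rwa [Finset.card_univ, ← Nat.card_eq_fintype_card] at this

omit R [Finite Y] [Fact p.Prime] in
/-- the number of fixed chambers of a pair is invariant under conjugation -/
theorem card_fix_pair_conj (e γ δ : MulAut Y) :
    Nat.card {S : Sylow p Y // (e * γ * e⁻¹) • S = S ∧ (e * δ * e⁻¹) • S = S} =
      Nat.card {S : Sylow p Y // γ • S = S ∧ δ • S = S} := by
  have h1 : ∀ (γ : MulAut Y) (S : Sylow p Y), (e * γ * e⁻¹) • S = S ↔ γ • (e⁻¹ • S) = e⁻¹ • S := by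
    intro γ S
    rw [mul_smul, mul_smul, smul_eq_iff_eq_inv_smul]
  refine Nat.card_congr ⟨fun S => ⟨e⁻¹ • S.1, (h1 γ _).1 S.2.1, (h1 δ _).1 S.2.2⟩, fun S => ⟨e • S.1, ?_, ?_⟩,
    fun S => Subtype.ext (smul_inv_smul e S.1), fun S => Subtype.ext (inv_smul_smul e S.1)⟩
  · rw [h1, inv_smul_smul]; exact S.2.1
  · rw [h1, inv_smul_smul]; exact S.2.2

/-! ### simultaneous conjugation to the frame -/

omit [Finite Y] [Fact p.Prime] in
/-- conjugation by an element of the torus is a frame automorphism -/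
theorem diag_conj_T {t : Y} (ht : t ∈ T) : Diag T X (MulAut.conj t) 1 where
  tor x := by
    rw [MulAut.conj_apply]
    constructor
    · intro hx
      have := mul_mem (mul_mem (inv_mem ht) hx) ht
      have e : t⁻¹ * (t * x * t⁻¹) * t = x := by group
      rwa [e] at this
    · intro hx
      exact mul_mem (mul_mem ht hx) (inv_mem ht)
  pos i x := by
    have h1 := R.tor _ (isRoot_sr cs h i) t ht
    have h2 : MulAut.conj t x ∈ cj t (X (sr i)) ↔ x ∈ X (sr i) := by
      rw [mem_cj, MulAut.conj_apply]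
      have e : t⁻¹ * (t * x * t⁻¹) * t = x := by group
      rw [e]
    rw [h1] at h2
    exact h2
  neg i x := by
    have h1 := R.tor _ (isRoot_sr cs h i).neg t ht
    have h2 : MulAut.conj t x ∈ cj t (X (-sr i)) ↔ x ∈ X (-sr i) := by
      rw [mem_cj, MulAut.conj_apply]
      have e : t⁻¹ * (t * x * t⁻¹) * t = x := by group
      rw [e]
    rw [h1] at h2
    exact h2

/-- **Simultaneous conjugation to the frame.** -/
theorem exists_pair_conj [Finite W] (hG : GG cs h T X = ⊤) {β : MulAut Y} (D : Diag T X β 1) {c : Y} {N : ℕ}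
    (hN : N.Coprime p) (hc : c ^ N = 1) (hβc : β c = c) {S : Sylow p Y} (h1 : β • S = S)
    (h2 : MulAut.conj c • S = S) :
    ∃ g : Y, ∃ t ∈ T, ∃ t₁ ∈ T, MulAut.conj g * β * (MulAut.conj g)⁻¹ = MulAut.conj t * β ∧ g * c * g⁻¹ = t₁ := by
  classical
  obtain ⟨P, hP⟩ := exists_sylow_eq R hG
  obtain ⟨w, hw⟩ := exists_cell R hG hP S
  obtain ⟨k, hk⟩ := exists_rp cs R.nsys w
  obtain ⟨v, hv, rfl⟩ := hw k hk
  have hβv := fix_cell R hG hP D hk hv h1
  have ht : k * (β k)⁻¹ ∈ T := by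
    have := hk.mul (fix_rp R D hk).inv
    rw [mul_inv_cancel] at this
    exact this.mem_of_one
  have hconj : ∀ (g : Y) (β : MulAut Y), MulAut.conj g * β * (MulAut.conj g)⁻¹ = MulAut.conj (g * (β g)⁻¹) * β := by
    intro g β
    rw [map_mul, mul_assoc, mul_assoc, map_inv MulAut.conj (β g), ← map_inv, ← map_inv, conj_mul_eq, map_inv]
  have hg1 : MulAut.conj (k * v) * β * (MulAut.conj (k * v))⁻¹ = MulAut.conj (k * (β k)⁻¹) * β := by
    rw [hconj]
    congr 2
    rw [map_mul, hβv, mul_inv_rev]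
    group
  set g := k * v with hg
  set t := k * (β k)⁻¹ with htdef
  set β₁ := MulAut.conj t * β with hβ₁
  have D1 : Diag T X β₁ 1 := by
    have := (diag_conj_T R ht).mul D
    rwa [one_mul] at this
  set y := g * c * g⁻¹ with hydef
  have hyfix : β₁ y = y := by
    rw [← hg1, MulAut.mul_apply, MulAut.mul_apply, ← map_inv, MulAut.conj_apply, MulAut.conj_apply, inv_inv, hydef]
    have e1 : g⁻¹ * (g * c * g⁻¹) * g = c := by group
    rw [e1, hβc]
  have hyN : y ^ N = 1 := by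
    rw [hydef, conj_pow, hc, mul_one, mul_inv_cancel]
  have hyP : y • P = P := by
    have h3 : c • (g⁻¹ • P) = g⁻¹ • P := h2
    rw [hydef, mul_smul, mul_smul, h3, smul_inv_smul]
  have hyB := (smul_eq_iff_mem_B R hG hP).1 hyP
  obtain ⟨t₁, ht₁, u, hu, e⟩ := R.mem_B.1 hyB
  -- both parts are fixed
  have hUfix : Fix β₁ (RGD.Sup X (RGD.Pos cs h)) := fix_Sup fun x hx => fix_X R D1 hx.1
  have hparts : β₁ t₁ = t₁ ∧ β₁ u = u := by
    have h3 := hyfix
    rw [e, map_mul] at h3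
    have h4 : t₁⁻¹ * β₁ t₁ = u * (β₁ u)⁻¹ := by
      rw [eq_mul_inv_iff_mul_eq, mul_assoc, h3, inv_mul_cancel_left]
    have h5 : t₁⁻¹ * β₁ t₁ ∈ RGD.Sup X (RGD.Pos cs h) ⊓ T :=
      ⟨by rw [h4]; exact Subgroup.mul_mem _ hu (Subgroup.inv_mem _ ((hUfix u).2 hu)),
        Subgroup.mul_mem _ (Subgroup.inv_mem _ ht₁) ((D1.tor t₁).2 ht₁)⟩
    rw [U_inf_T R, Subgroup.mem_bot] at h5
    have h6 : β₁ t₁ = t₁ := (inv_mul_eq_one.1 h5).symm
    rw [h6] at h3
    exact ⟨h6, mul_left_cancel h3⟩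
  obtain ⟨v', hv', e'⟩ := CoprimeConj.exists_conj_eq (p := p) hN
    (U := RGD.Sup X (RGD.Pos cs h) ⊓ fixedSubgroup β₁) (t := t₁) (y := y)
    (R.isPGroup_Upos.to_le inf_le_left) (by
      rw [Subgroup.mem_normalizer_iff]
      intro a
      have hn := Subgroup.mem_normalizer_iff.1 (R.T_le_normalizer_U ht₁) a
      constructor
      · rintro ⟨ha, hb⟩
        refine ⟨hn.1 ha, ?_⟩
        show β₁ _ = _
        rw [map_mul, map_mul, map_inv, hparts.1, show β₁ a = a from hb]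
      · rintro ⟨ha, hb⟩
        refine ⟨hn.2 ha, ?_⟩
        have hb' : β₁ (t₁ * a * t₁⁻¹) = t₁ * a * t₁⁻¹ := hb
        rw [map_mul, map_mul, map_inv, hparts.1] at hb'
        exact mul_left_cancel (mul_right_cancel hb')) (by
      rw [eq_bot_iff, ← U_inf_T R]
      rintro a ⟨ha, hb⟩
      exact ⟨hb.1, (Subgroup.zpowers_le.2 ht₁) ha⟩) hyN (by
      rw [e]
      have : t₁⁻¹ * (t₁ * u) = u := by group
      rw [this]
      exact ⟨hu, hparts.2⟩)
  refine ⟨v' * g, t, ht, t₁, ht₁, ?_, ?_⟩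
  · have h3 : MulAut.conj (v' * g) * β * (MulAut.conj (v' * g))⁻¹ =
        MulAut.conj v' * (MulAut.conj g * β * (MulAut.conj g)⁻¹) * (MulAut.conj v')⁻¹ := by
      rw [map_mul]; group
    rw [h3, hg1, hconj]
    have h4 : β₁ v' = v' := hv'.2
    rw [h4, mul_inv_cancel, map_one, one_mul]
  · have h3 : v' * g * c * (v' * g)⁻¹ = v' * y * v'⁻¹ := by
      rw [hydef]; group
    rw [h3, e']

/-- The condition on the fixed points on root groups. -/
def RootCond (cs : CoxeterSystem M W) {A : I → I → ℤ} (h : IsCartan M A) (T : Subgroup Y) (X : (I → ℤ) → Subgroup Y)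
    (β : MulAut Y) (k : ℕ) : Prop :=
  ∀ a, IsRoot cs h a → ∀ t ∈ T, ∀ t₁ ∈ T,
    Nat.card ↥(X a ⊓ (fixedSubgroup (MulAut.conj t * β) ⊓ fixedSubgroup (MulAut.conj t₁))) ≡ 1 [MOD k]

/-- one step of the chain -/
theorem step [Finite W] (hG : GG cs h T X = ⊤) {N : ℕ} (hN : N.Coprime p) {x z : Y} {f : MulAut Y} {J e : ℕ}
    (hx : x ^ N = 1) (hfx : f x = x) (hz : z⁻¹ * (f ^ J) z = x) (D : Diag T X (f ^ J) 1) {l : ℕ} (hl : l.Prime)
    (hk : RootCond cs h T X (f ^ J) (l ^ (e + 1))) (hJ : l ^ e ∣ J) (hW : ¬ l ^ (e + 1) ∣ Nat.card W) {d : ℕ}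
    {S : Sylow p Y} (h1 : (MulAut.conj x * f ^ J) • S = S) (h2 : MulAut.conj (x ^ (d * l)) • S = S) :
    ∃ S : Sylow p Y, (MulAut.conj x * f ^ J) • S = S ∧ MulAut.conj (x ^ d) • S = S := by
  classical
  have hfJx : ∀ j : ℕ, (f ^ j) x = x := by
    intro j
    induction j with
    | zero => rfl
    | succ j ih => rw [pow_succ, MulAut.mul_apply, hfx, ih]
  have hcomm : Commute (MulAut.conj x) f := by
    show MulAut.conj x * f = f * MulAut.conj x
    rw [conj_mul_eq, hfx]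
  have he : MulAut.conj x * f ^ J = (MulAut.conj z)⁻¹ * f ^ J * (MulAut.conj z)⁻¹⁻¹ := by
    rw [inv_inv, mul_assoc, conj_mul_eq, ← mul_assoc, ← map_inv, ← map_mul, hz]
  -- the element `c`
  set c := z * x ^ (d * l) * z⁻¹ with hc
  have hec : MulAut.conj (x ^ (d * l)) = (MulAut.conj z)⁻¹ * MulAut.conj c * (MulAut.conj z)⁻¹⁻¹ := by
    rw [inv_inv, hc, map_mul, map_mul, map_inv]; group
  have hcN : c ^ N = 1 := by
    rw [hc, conj_pow, ← pow_mul, mul_comm, pow_mul, hx, one_pow, mul_one, mul_inv_cancel]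
  have hβz : (f ^ J) z = z * x := by
    rw [← hz]; group
  have hβc : (f ^ J) c = c := by
    rw [hc, map_mul, map_mul, map_inv, map_pow, hfJx, hβz]
    have h3 : x * x ^ (d * l) * x⁻¹ = x ^ (d * l) := by
      rw [← pow_succ', pow_succ]; group
    calc z * x * x ^ (d * l) * (z * x)⁻¹ = z * (x * x ^ (d * l) * x⁻¹) * z⁻¹ := by group
      _ = _ := by rw [h3]
  have h3 : (f ^ J) • (MulAut.conj z • S) = MulAut.conj z • S := by
    have h4 := h1
    rw [he, inv_inv, mul_smul, mul_smul, inv_smul_eq_iff] at h4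
    exact h4
  have h4 : MulAut.conj c • (MulAut.conj z • S) = MulAut.conj z • S := by
    have h5 := h2
    rw [hec, inv_inv, mul_smul, mul_smul, inv_smul_eq_iff] at h5
    exact h5
  obtain ⟨g, t, ht, t₁, ht₁, e1, e2⟩ := exists_pair_conj R hG D hN hcN hβc h3 h4
  -- the number of chambers fixed by the pair
  have hcard : Nat.card {S : Sylow p Y // (MulAut.conj x * f ^ J) • S = S ∧ MulAut.conj (x ^ (d * l)) • S = S} ≡
      Nat.card W [MOD l ^ (e + 1)] := by
    rw [he, hec, card_fix_pair_conj, ← card_fix_pair_conj (MulAut.conj g), e1]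
    have h5 : MulAut.conj g * MulAut.conj c * (MulAut.conj g)⁻¹ = MulAut.conj t₁ := by
      have h6 : ∀ a b : Y, MulAut.conj a * MulAut.conj b * (MulAut.conj a)⁻¹ = MulAut.conj (a * b * a⁻¹) := by
        intro a b
        rw [map_mul, map_mul, map_inv]
      rw [h6, e2]
    rw [h5]
    refine card_fix_pair_modEq R hG ?_ (diag_conj_T R ht₁) fun a ha => hk a ha t ht t₁ ht₁
    have := (diag_conj_T R ht).mul D
    rwa [one_mul] at this
  by_contra hcon
  push Not at hcon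
  set γ := MulAut.conj x * f ^ J with hγ
  set δ := MulAut.conj (x ^ (d * l)) with hδ
  have hγf : Commute γ f := by
    rw [hγ]
    exact hcomm.mul_left ((Commute.refl f).pow_left _)
  have hδf : Commute δ f := by
    rw [hδ, map_pow]
    exact hcomm.pow_left _
  obtain ⟨r, hr⟩ : l ^ e ∣ J * d := Dvd.dvd.mul_right hJ d
  have hγfr : Commute γ (f ^ r) := hγf.pow_right _
  have hδfr : Commute δ (f ^ r) := hδf.pow_right _
  let τ : Equiv.Perm {S : Sylow p Y // γ • S = S ∧ δ • S = S} :=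
    { toFun := fun S => ⟨(f ^ r) • S.1, by rw [← mul_smul, hγfr.eq, mul_smul, S.2.1],
        by rw [← mul_smul, hδfr.eq, mul_smul, S.2.2]⟩
      invFun := fun S => ⟨(f ^ r)⁻¹ • S.1, by rw [← mul_smul, hγfr.inv_right.eq, mul_smul, S.2.1],
        by rw [← mul_smul, hδfr.inv_right.eq, mul_smul, S.2.2]⟩
      left_inv := fun S => Subtype.ext (inv_smul_smul _ S.1)
      right_inv := fun S => Subtype.ext (smul_inv_smul _ S.1) }
  have hτ : ∀ (k : ℕ) (S : {S : Sylow p Y // γ • S = S ∧ δ • S = S}), ((τ ^ k) S).1 = (f ^ (r * k)) • S.1 := by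
    intro k
    induction k with
    | zero => intro S; rw [pow_zero, mul_zero, pow_zero, one_smul]; rfl
    | succ k ih =>
      intro S
      rw [pow_succ, Equiv.Perm.mul_apply, ih, mul_add, mul_one, pow_add, mul_smul]
      rfl
  -- powers of `f ^ J` act as inverse powers of `x`
  have hγpow : ∀ (k : ℕ) (S : Sylow p Y), γ • S = S → γ ^ k • S = S := by
    intro k S hS
    induction k with
    | zero => rw [pow_zero, one_smul]
    | succ k ih => rw [pow_succ, mul_smul, hS, ih]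
  have hfJ : ∀ (k : ℕ) (S : Sylow p Y), γ • S = S → (f ^ (J * k)) • S = (MulAut.conj (x ^ k))⁻¹ • S := by
    intro k S hS
    have h5 : γ ^ k = MulAut.conj (x ^ k) * f ^ (J * k) := by
      rw [hγ, (hcomm.pow_right J).mul_pow, map_pow, pow_mul]
    rw [eq_inv_smul_iff, ← mul_smul, ← h5, hγpow k S hS]
  have hrk : ∀ k : ℕ, r * (l ^ e * k) = J * (d * k) := by
    intro k
    rw [← mul_assoc, ← mul_assoc, hr]; ring
  have h5 := TorCount.dvd_card hl (τ := τ) (j := e) (by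
    ext1 S
    apply Subtype.ext
    have h6 : r * l ^ (e + 1) = J * (d * l) := by
      rw [pow_succ, hrk]
    rw [hτ, h6, hfJ _ _ S.2.1]
    have h7 : (MulAut.conj (x ^ (d * l)))⁻¹ • S.1 = S.1 := by
      rw [inv_smul_eq_iff]
      exact S.2.2.symm
    rw [h7]
    rfl) (by
    intro S hS
    apply hcon S.1 S.2.1
    have h6 := congrArg Subtype.val hS
    have h7 : r * l ^ e = J * d := by
      have := hrk 1
      rwa [mul_one, mul_one] at this
    rw [hτ, h7, hfJ _ _ S.2.1, inv_smul_eq_iff] at h6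
    exact h6.symm)
  exact hW ((Nat.modEq_zero_iff_dvd.1 (hcard.symm.trans (Nat.modEq_zero_iff_dvd.2 h5))))

/-- **Torality from Lang's theorem** for an element of order prime to `p`. -/
theorem exists_conj_mem_T_coprime [Finite W] (hG : GG cs h T X = ⊤) {N : ℕ} (hN0 : N ≠ 0) (hN : N.Coprime p) {x z : Y}
    {f : MulAut Y} {J e : ℕ} (hx : x ^ N = 1) (hfx : f x = x) (hz : z⁻¹ * (f ^ J) z = x) (D : Diag T X (f ^ J) 1)
    (hk : ∀ l : ℕ, l.Prime → l ∣ N → RootCond cs h T X (f ^ J) (l ^ (e + 1)))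
    (hJ : ∀ l : ℕ, l.Prime → l ∣ N → l ^ e ∣ J) (hW : ∀ l : ℕ, l.Prime → l ∣ N → ¬ l ^ (e + 1) ∣ Nat.card W) :
    ∃ g : Y, g * x * g⁻¹ ∈ T := by
  classical
  have he : MulAut.conj x * f ^ J = (MulAut.conj z)⁻¹ * f ^ J * MulAut.conj z := by
    rw [mul_assoc, conj_mul_eq, ← mul_assoc, ← map_inv, ← map_mul, hz]
  -- the start of the chain
  obtain ⟨P, hP⟩ := exists_sylow_eq R hG
  have hβP : (f ^ J) • P = P := by
    rw [aut_smul_eq_iff, hP]
    exact fix_Sup fun x hx => fix_X R D hx.1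
  have hstart : (MulAut.conj x * f ^ J) • ((MulAut.conj z)⁻¹ • P) = (MulAut.conj z)⁻¹ • P := by
    rw [he, mul_smul, mul_smul, smul_inv_smul, hβP]
  have key : ∀ M : ℕ, ∀ d : ℕ, d * M = N → ∃ S : Sylow p Y, (MulAut.conj x * f ^ J) • S = S ∧
      MulAut.conj (x ^ d) • S = S := by
    intro M
    induction M using Nat.strong_induction_on with
    | _ M ih =>
      intro d hd
      have hM0 : M ≠ 0 := by
        rintro rfl
        exact hN0 (by rw [← hd, mul_zero])
      by_cases hM1 : M = 1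
      · subst hM1
        rw [mul_one] at hd
        subst hd
        refine ⟨_, hstart, ?_⟩
        rw [hx, map_one, one_smul]
      · obtain ⟨l, hl, M', rfl⟩ := Nat.exists_prime_and_dvd hM1
        have hM' : 0 < M' := Nat.pos_of_ne_zero fun h => hM0 (by rw [h, mul_zero])
        obtain ⟨S, h1, h2⟩ := ih M' (by nlinarith [hl.two_le]) (d * l) (by rw [← hd]; ring)
        have hlN : l ∣ N := by
          rw [← hd]
          exact Dvd.dvd.mul_left (Dvd.intro _ rfl) _
        exact step R hG hN hx hfx hz D hl (hk l hl hlN) (hJ l hl hlN) (hW l hl hlN) h1 h2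
  obtain ⟨S, -, h2⟩ := key N 1 (one_mul N)
  rw [pow_one] at h2
  obtain ⟨g, -, -, t₁, ht₁, -, e2⟩ := exists_pair_conj R hG (β := 1) Diag.one hN hx rfl (one_smul _ S) h2
  exact ⟨g, by rw [e2]; exact ht₁⟩

end Chambers

end Cfsg.Agent.H944.TorAny
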