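import Mathlib
import Cfsg.Agent.BpExc.RowsUntw
import Cfsg.Agent.H944.TorAny

/-!
# Elements of order prime to `p` of `D.group k` are toral (helper944)

`k` algebraically closed of characteristic `p`, every element of `k` in a finite subfield (`HAlg p k`), `D` one of the
tabulated types: an element `x` of `D.group k` with `x ^ N = 1`, `N` prime to `p`, is conjugate into the diagonal
subgroup `TT D k`.
-/

set_option autoImplicit false
set_option linter.unusedSectionVars false

namespace Cfsg.Agent.H944.TorAnyChev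

open CoxeterSystem Cfsg.Agent.ChevalleyStructure.CoxeterGeom Cfsg.Agent.Tits.Roots Cfsg.Agent.Tits.Core
  Cfsg.Agent.Nodes.Reps Cfsg.Agent.Nodes.BNOf Cfsg.Agent.Nodes.Bruhat
  Cfsg.Agent.Nodes.OppDec Cfsg.Agent.Nodes.RGDChev
  Cfsg.Agent.KFacts.RgdAut Cfsg.Agent.KFacts.RgdDiag Cfsg.Agent.KFacts.RgdRigid
  Cfsg.Agent.KFacts.RgdField Cfsg.Agent.KFacts.RgdChevCoord
  Cfsg.Agent.CpAut.RgdFix Cfsg.Agent.CpAut.RgdSub
open Cfsg.Lie Cfsg.Agent.ChevalleyStructure Cfsg.Agent.ChevalleyStructure.Elts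
  Cfsg.Agent.ChevalleyStructure.NPerm Cfsg.Agent.ChevalleyStructure.CoxeterGeomTypes
  Cfsg.Agent.ChevStructure.FieldMap Cfsg.Agent.BpExc.TorRgd Cfsg.Agent.BpExc.TorAll Cfsg.Agent.BpExc
  Cfsg.Agent.H944.TorAny

universe u

/-- the solutions of `c s ^ q = s` in a finite field: none but zero, or as many as those of `s ^ q = s` -/
theorem card_semilinear {K : Type u} [Field K] {σ : K ≃+* K} {c : K} :
    Nat.card {s : K // c * σ s = s} = 1 ∨ Nat.card {s : K // c * σ s = s} = Nat.card {s : K // σ s = s} := by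
  classical
  by_cases h : ∃ s : K, s ≠ 0 ∧ c * σ s = s
  · right
    obtain ⟨s₀, hs0, hs⟩ := h
    refine Nat.card_congr ⟨fun s => ⟨s.1 / s₀, ?_⟩, fun s => ⟨s.1 * s₀, ?_⟩, fun s => ?_, fun s => ?_⟩
    · have h1 := s.2
      have hσ0 : σ s₀ ≠ 0 := fun h0 => hs0 (by rw [← hs, h0, mul_zero])
      have hc0 : c ≠ 0 := fun h0 => hs0 (by rw [← hs, h0, zero_mul])
      rw [map_div₀, div_eq_div_iff hσ0 hs0]
      have h2 : c * (σ s.1 * s₀) = c * (s.1 * σ s₀) := by
        calc c * (σ s.1 * s₀) = (c * σ s.1) * s₀ := by ring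
          _ = s.1 * (c * σ s₀) := by rw [h1, hs]
          _ = _ := by ring
      exact mul_left_cancel₀ hc0 h2
    · have h1 := s.2
      rw [map_mul, h1]
      calc c * (s.1 * σ s₀) = s.1 * (c * σ s₀) := by ring
        _ = _ := by rw [hs]
    · exact Subtype.ext (div_mul_cancel₀ _ hs0)
    · exact Subtype.ext (mul_div_cancel_right₀ _ hs0)
  · left
    push Not at h
    rw [Nat.card_eq_one_iff_unique]
    refine ⟨⟨fun a b => Subtype.ext ?_⟩, ⟨⟨0, by rw [map_zero, mul_zero]⟩⟩⟩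
    have ha : a.1 = 0 := by
      by_contra h0
      exact h _ h0 a.2
    have hb : b.1 = 0 := by
      by_contra h0
      exact h _ h0 b.2
    rw [ha, hb]

section Main

variable {D : ChevalleyDatum} {l : ℕ} {M : CoxeterMatrix (Fin l)} (hp : IsType D l M)
  (p : ℕ) [Fact p.Prime]

section Fin

variable {K : Type u} [Field K] [Finite K] [CharP K p] {W : Type*} [Group W] (cs : CoxeterSystem M W)

include p in
/-- the condition on root groups for a power of a field automorphism -/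
theorem rootCond (τ : K ≃+* K) (j : ℕ) {n : ℕ} (hn : Nat.card {s : K // (τ ^ j) s = s} ≡ 1 [MOD n]) :
    RootCond cs hp.isCartan (TT D K) (XX D l K) ((fG D τ) ^ j) n := by
  classical
  intro a ha t ht t₁ ht₁
  have C := coords (K := K) hp cs p
  obtain ⟨r, hr, rfl⟩ := (isRoot_iff hp cs a).1 ha
  have key : ∀ (j : ℕ) (s : K), ((fG D τ) ^ j) (xc hp (vec D l r) s) = xc hp (vec D l r) ((τ ^ j) s) := by
    intro j
    induction j with
    | zero => intro s; rfl
    | succ j ih =>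
      intro s
      rw [pow_succ, MulAut.mul_apply, fG_xc hp τ hr, ih, pow_succ]
      rfl
  obtain ⟨hc0, hc⟩ := act hp hr ht
  obtain ⟨hc0', hc'⟩ := act hp hr ht₁
  set c := ch hp (vec D l r) t
  set c₁ := ch hp (vec D l r) t₁
  have hinj := (C.coord _ ha).inj
  -- the fixed points in coordinates
  have hfix : ∀ s : K, xc hp (vec D l r) s ∈ XX D l K (vec D l r) ⊓
      (fixedSubgroup (MulAut.conj t * (fG D τ) ^ j) ⊓ fixedSubgroup (MulAut.conj t₁)) ↔
      c * (τ ^ j) s = s ∧ c₁ * s = s := by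
    intro s
    have h1 : (MulAut.conj t * (fG D τ) ^ j) (xc hp (vec D l r) s) = xc hp (vec D l r) (c * (τ ^ j) s) := by
      rw [MulAut.mul_apply, key, MulAut.conj_apply, hc]
    have h2 : (MulAut.conj t₁) (xc hp (vec D l r) s) = xc hp (vec D l r) (c₁ * s) := by
      rw [MulAut.conj_apply, hc']
    constructor
    · rintro ⟨-, h3, h4⟩
      have h3' : (MulAut.conj t * (fG D τ) ^ j) (xc hp (vec D l r) s) = xc hp (vec D l r) s := h3
      have h4' : (MulAut.conj t₁) (xc hp (vec D l r) s) = xc hp (vec D l r) s := h4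
      rw [h1] at h3'
      rw [h2] at h4'
      exact ⟨hinj h3', hinj h4'⟩
    · rintro ⟨h3, h4⟩
      refine ⟨((C.coord _ ha).mem _).2 ⟨s, rfl⟩, ?_, ?_⟩
      · show (MulAut.conj t * (fG D τ) ^ j) (xc hp (vec D l r) s) = xc hp (vec D l r) s
        rw [h1, h3]
      · show (MulAut.conj t₁) (xc hp (vec D l r) s) = xc hp (vec D l r) s
        rw [h2, h4]
  have hcard : Nat.card ↥(XX D l K (vec D l r) ⊓
      (fixedSubgroup (MulAut.conj t * (fG D τ) ^ j) ⊓ fixedSubgroup (MulAut.conj t₁))) =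
      Nat.card {s : K // c * (τ ^ j) s = s ∧ c₁ * s = s} := by
    symm
    refine Nat.card_congr (Equiv.ofBijective (fun s => ⟨xc hp (vec D l r) s.1, (hfix s.1).2 s.2⟩) ⟨?_, ?_⟩)
    · rintro ⟨s, hs⟩ ⟨s', hs'⟩ e
      exact Subtype.ext (hinj (congrArg Subtype.val e))
    · rintro ⟨y, hy⟩
      obtain ⟨s, rfl⟩ := ((C.coord _ ha).mem y).1 hy.1
      exact ⟨⟨s, (hfix s).1 hy⟩, rfl⟩
  rw [hcard]
  by_cases hc1 : c₁ = 1
  · have h1 : Nat.card {s : K // c * (τ ^ j) s = s ∧ c₁ * s = s} = Nat.card {s : K // c * (τ ^ j) s = s} := by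
      refine Nat.card_congr (Equiv.subtypeEquivRight fun s => ?_)
      rw [hc1, one_mul]
      exact ⟨fun h => h.1, fun h => ⟨h, rfl⟩⟩
    rw [h1]
    rcases card_semilinear (σ := τ ^ j) (c := c) with h2 | h2
    · rw [h2]
    · rw [h2]; exact hn
  · have h1 : Nat.card {s : K // c * (τ ^ j) s = s ∧ c₁ * s = s} = 1 := by
      rw [Nat.card_eq_one_iff_unique]
      have h0 : ∀ s : K, c₁ * s = s → s = 0 := by
        intro s hs
        by_contra h0
        exact hc1 (mul_right_cancel₀ h0 (by rw [hs, one_mul]))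
      exact ⟨⟨fun a b => Subtype.ext (by rw [h0 _ a.2.2, h0 _ b.2.2])⟩,
        ⟨⟨0, by rw [map_zero, mul_zero], mul_zero _⟩⟩⟩
    rw [h1]

end Fin

variable {k : Type u} [Field k] [IsAlgClosed k] [CharP k p]

include hp in
/-- **Every element of order prime to `p` of `D.group k` is conjugate into the diagonal subgroup.** -/
theorem exists_conj_mem_diag (hk : HAlg p k) {x : GL D.Idx k} (hx : x ∈ D.group k) {q : ℕ} (hq0 : q ≠ 0)
    (hqp : q.Coprime p) (hxq : x ^ q = 1) : ∃ g ∈ D.group k, g * x * g⁻¹ ∈ D.diagonalSubgroup k := by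
  have hpp : p.Prime := Fact.out
  have hW := finite_W hp (M.toCoxeterSystem)
  set e := Nat.card M.Group with hedef
  have he : ∀ r : ℕ, r.Prime → r ∣ q → ¬ r ^ (e + 1) ∣ Nat.card M.Group := by
    intro r hr _ hd
    have h1 : Nat.card M.Group < r ^ (Nat.card M.Group + 1) :=
      (Nat.lt_pow_self hr.one_lt).trans (Nat.pow_lt_pow_right hr.one_lt (Nat.lt_succ_self _))
    exact absurd (Nat.le_of_dvd Nat.card_pos hd) (not_le.2 h1)
  obtain ⟨m0, hm0, x0, hx0, hxx0⟩ := exists_level hp p hk hx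
  have hcop : p.Coprime (q ^ (e + 1)) := (Nat.Coprime.pow_left _ hqp).symm
  set m := m0 * (q ^ (e + 1)).totient with hmdef
  have hm : 0 < m := Nat.mul_pos hm0 (Nat.totient_pos.2 (pow_pos (Nat.pos_of_ne_zero hq0) _))
  have hpm : p ^ m ≡ 1 [MOD q ^ (e + 1)] := by
    rw [hmdef, mul_comm, pow_mul]
    have := (Nat.ModEq.pow_totient hcop).pow m0
    rwa [one_pow] at this
  set m1 := m * q ^ e with hm1def
  have hm1 : 0 < m1 := Nat.mul_pos hm (pow_pos (Nat.pos_of_ne_zero hq0) _)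
  obtain ⟨z, hz, hzx⟩ := lang hp p hm1 hx
  obtain ⟨m2, hm2, hz2⟩ := exists_level hp p hk hz
  set N := m2 * m1 with hNdef
  have hN : 0 < N := Nat.mul_pos hm2 hm1
  have h01 : m0 ∣ m := Dvd.intro _ rfl
  have hmm1 : m ∣ m1 := Dvd.intro _ rfl
  have hm1N : m1 ∣ N := Dvd.intro_left _ rfl
  obtain ⟨x', hx', hxx'⟩ := map_group_mono hp p ((h01.trans hmm1).trans hm1N)
    (show x ∈ (D.group ↥(EE p m0 : Subfield k)).map (glm D (EE p m0)) from ⟨x0, hx0, hxx0⟩)
  obtain ⟨z', hz', hzz'⟩ := map_group_mono hp p (show m2 ∣ N from Dvd.intro _ rfl) hz2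
  have hfinN : Finite ↥(EE p N : Subfield k) := finite_EE p hN
  have : CharP ↥(EE p N : Subfield k) p := charP_fixF p _
  have : Finite (GL D.Idx ↥(EE p N : Subfield k)) := inferInstance
  have hGfin : Finite ↥(D.group ↥(EE p N : Subfield k)) := inferInstance
  have R := rgd (K := ↥(EE p N : Subfield k)) hp M.toCoxeterSystem p
  have hG := GG_eq_top (T := TT D ↥(EE p N : Subfield k)) (G1_eq_top (K := ↥(EE p N : Subfield k)) hp M.toCoxeterSystem)
  have hfr : ∀ (j : ℕ) (a : ↥(EE p N : Subfield k)), (((frE p N m) ^ j) a : k) = (a : k) ^ p ^ (m * j) := by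
    intro j
    induction j with
    | zero =>
      intro a
      rw [mul_zero, pow_zero p, pow_one, pow_zero]
      rfl
    | succ j ih =>
      intro a
      rw [pow_succ]
      show (((frE p N m) ^ j) (frE p N m a) : k) = _
      rw [ih, coe_frE, ← pow_mul, ← pow_add, mul_add, mul_one, add_comm]
  have hfixcard : Nat.card {s : ↥(EE p N : Subfield k) // ((frE p N m) ^ q ^ e) s = s} = p ^ m1 := by
    rw [← card_EE p (k := k) hm1]
    refine Nat.card_congr ⟨fun s => ⟨(s.1 : k), ?_⟩, fun s => ⟨⟨s.1, EE_le p hm1N s.2⟩, ?_⟩, fun _ => rfl,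
      fun _ => rfl⟩
    · rw [mem_EE]
      have h2 := congrArg Subtype.val s.2
      rw [hfr] at h2
      exact h2
    · apply Subtype.ext
      rw [hfr]
      exact (mem_EE p).1 s.2
  obtain ⟨g, hg⟩ := exists_conj_mem_T_coprime R hG hq0 hqp (x := ⟨x', hx'⟩) (z := ⟨z', hz'⟩) (f := fG D (frE p N m))
    (J := q ^ e) (e := e)
    (by
      apply Subtype.ext
      apply glm_injective (EE p N)
      show glm D (EE p N) (x' ^ q) = glm D (EE p N) 1
      rw [map_pow, hxx', hxq, map_one])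
    (by
      apply Subtype.ext
      apply Units.ext
      ext a b
      rw [fG_coe]
      show (((x' : Matrix D.Idx D.Idx ↥(EE p N : Subfield k)) a b : ↥(EE p N : Subfield k)) : k) ^ p ^ m =
        (((x' : Matrix D.Idx D.Idx ↥(EE p N : Subfield k)) a b : ↥(EE p N : Subfield k)) : k)
      have h1 : (((x' : Matrix D.Idx D.Idx ↥(EE p N : Subfield k)) a b : ↥(EE p N : Subfield k)) : k) =
          (((x0 : Matrix D.Idx D.Idx ↥(EE p m0 : Subfield k)) a b : ↥(EE p m0 : Subfield k)) : k) := by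
        have h2 : glm D (EE p N) x' = glm D (EE p m0) x0 := hxx'.trans hxx0.symm
        exact congrFun (congrFun (congrArg (fun x : GL D.Idx k => (x : Matrix D.Idx D.Idx k)) h2) a) b
      rw [h1]
      exact (mem_EE p).1 (EE_le p h01 ((x0 : Matrix D.Idx D.Idx ↥(EE p m0 : Subfield k)) a b).2))
    (by
      apply Subtype.ext
      apply glm_injective (EE p N)
      show glm D (EE p N) (z'⁻¹ * ((((fG D (frE p N m)) ^ q ^ e) ⟨z', hz'⟩ : D.group ↥(EE p N : Subfield k)) :
        GL D.Idx ↥(EE p N : Subfield k))) = glm D (EE p N) x'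
      rw [map_mul, map_inv, hxx', hzz', ← hzx]
      congr 1
      apply Units.ext
      ext a b
      rw [glm_coe, Matrix.map_apply, fG_pow_coe]
      show (((frE p N m) ^ q ^ e) ((z' : Matrix D.Idx D.Idx ↥(EE p N : Subfield k)) a b) : k) =
        ((z : Matrix D.Idx D.Idx k).map (iterateFrobenius k p m1)) a b
      rw [hfr, Matrix.map_apply, iterateFrobenius_def]
      congr 1
      exact congrFun (congrFun (congrArg (fun x : GL D.Idx k => (x : Matrix D.Idx D.Idx k)) hzz') a) b)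
    (diag_fG hp p M.toCoxeterSystem (frE p N m) (q ^ e))
    (fun r hr hrq => by
      refine rootCond hp p M.toCoxeterSystem (frE p N m) (q ^ e) ?_
      rw [hfixcard, hm1def, pow_mul]
      have h1 := hpm.pow (q ^ e)
      rw [one_pow] at h1
      exact h1.of_dvd (pow_dvd_pow_of_dvd hrq _))
    (fun r hr hrq => pow_dvd_pow_of_dvd hrq _) he
  refine ⟨glm D (EE p N) (g : GL D.Idx ↥(EE p N : Subfield k)), map_group_le hp p ⟨_, g.2, rfl⟩, ?_⟩
  rw [← hxx', ← map_mul, ← map_inv, ← map_mul]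
  exact glm_diag hp (EE p N) hg

include hp in
/-- The same in the group `D.group k`. -/
theorem exists_conj_mem_TT (hk : HAlg p k) {x : ↥(D.group k)} {q : ℕ} (hq0 : q ≠ 0) (hqp : q.Coprime p)
    (hxq : x ^ q = 1) : ∃ g : ↥(D.group k), g * x * g⁻¹ ∈ TT D k := by
  obtain ⟨g, hg, h⟩ := exists_conj_mem_diag hp p hk x.2 hq0 hqp (congrArg Subtype.val hxq)
  exact ⟨⟨g, hg⟩, h⟩

end Main

end Cfsg.Agent.H944.TorAnyChev
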