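import Cfsg.Agent.H256.SporB
import Cfsg.Agent.NotCT.Orders
import Cfsg.Agent.KFacts.HN.SheetM

/-!
# The `Z*_p` theorem, `p` odd: the row `HN` (helper944, task 7 of helper256)
-/

set_option autoImplicit false

namespace Cfsg.Agent.H944.RowHN

open Subgroup Cfsg Cfsg.Agent.H256.ZBasic Cfsg.Agent.H256.ZRed Cfsg.Agent.H256.ZTool
  Cfsg.Agent.H256.OddInner Cfsg.Agent.H256.Spor
open Cfsg.Agent.KFacts.HN Cfsg.Agent.HN Cfsg.Agent.HN.XStruct Cfsg.Agent.HN.XWords Cfsg.Agent.HN.XQuot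

universe u v

theorem hn0 {p : ℕ} (hp : p.Prime) (hp2 : p ≠ 2) : Row.{u} p Spor.HN := by
  refine row_spor (L := Spor.HN) hp hp2 (Cfsg.Agent.H256.OddInner.hn (K := Spor.HN) ⟨MulEquiv.refl _⟩) fun hfin _ _ _ hc y hy => ?_
  have hf : Fact p.Prime := ⟨hp⟩
  have hpc : p ∣ 3600 := by
    rw [NotCT.Orders.hn (K := Spor.HN) ⟨MulEquiv.refl _⟩] at hc
    obtain ⟨q, hq, hqp⟩ := mem_of_cube hp [(2, 14), (3, 6), (5, 6), (7, 1), (11, 1), (19, 1)] (by decide +kernel)
      (by norm_num) ((dvd_pow_self p three_ne_zero).trans hc)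
    fin_cases hq <;> simp only at hqp <;> subst hqp <;>
      first | exact absurd rfl hp2 | (norm_num; done) | exact absurd hc (by norm_num)
  have h60 : Nat.card A5 = 60 := by
    rw [Nat.card_eq_fintype_card]; decide +kernel
  have hp60 : p ∣ Nat.card A5 := by
    rw [h60]
    have : (3600 : ℕ) = 60 * 60 := by norm_num
    rw [this] at hpc
    rcases hp.dvd_mul.1 hpc with h | h <;> exact h
  obtain ⟨f, hfs, hfρ⟩ := exists_f
  have hPP : PP = centralizer ({W0} : Set Spor.HN) := by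
    ext x
    rw [mem_centralizer_singleton_iff]
    exact mem_PP
  have hdP : p ∣ Nat.card (centralizer ({W0} : Set Spor.HN)) := by
    rw [← hPP]
    have h1 : Nat.card (A5 × A5) ∣ Nat.card MM := Subgroup.card_dvd_of_surjective f hfs
    rw [Nat.card_prod] at h1
    exact (Dvd.dvd.mul_right hp60 _).trans (h1.trans (Subgroup.card_dvd_of_le MM_le_PP))
  obtain ⟨y', h', hy'⟩ := exists_comm hy hp2 W0_ne
    (by
      obtain ⟨S, h1, h2, h3⟩ := sheetE.syl
      exact ⟨S, h1, h2, fun w hw _ => h3 w hw⟩) W0_W0 W0_W0 W0_ne hdP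
  have hidx : ∀ a b : Spor.HN, a * W0 = W0 * a → b * W0 = W0 * b → a ∉ MM → b ∉ MM → a * b ∈ MM :=
    idx_of_rel (Or.inr (by rw [← hPP]; exact relIndex_MM))
  have hyM : y' ∈ MM := mem_of_idx hidx hy' (odd_ord h' hp2)
  have hMt : MM ≠ ⊤ := by
    intro ht
    apply centralizer_ne_top h' W0_ne
    rw [← hPP, eq_top_iff, ← ht]
    exact MM_le_PP
  have hna : ∃ a b : A5, a * b ≠ b * a := by decide +kernel
  have hS5 : IsSimpleGroup A5 := alternatingGroup.isSimpleGroup_five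
  have h1 := hom_eq_one h' hyM hMt hna hp60 ((MonoidHom.fst A5 A5).comp f) (by
    exact Prod.fst_surjective.comp hfs)
  have h2 := hom_eq_one h' hyM hMt hna hp60 ((MonoidHom.snd A5 A5).comp f) (by
    exact Prod.snd_surjective.comp hfs)
  have h3 : f ⟨y', hyM⟩ = 1 := Prod.ext h1 h2
  have h4 : y' ∈ RS := by
    have h5 := hfρ ⟨y', hyM⟩
    rw [h3, map_one] at h5
    exact ⟨⟨y', MM_le_PP hyM⟩, h5.symm, rfl⟩
  obtain ⟨k, hk⟩ := (IsPGroup.iff_orderOf.1 RS_isPGroup) ⟨y', h4⟩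
  have h6 : orderOf y' = 2 ^ k := by
    rw [← hk]; exact (orderOf_injective RS.subtype (subtype_injective _) ⟨y', h4⟩)
  rw [h'.ord] at h6
  have h7 : p ∣ 2 ^ k := by rw [← h6]
  exact hp2 ((Nat.prime_dvd_prime_iff_eq hp Nat.prime_two).1 (hp.dvd_of_dvd_pow h7))

/-- **the row `HN`** -/
theorem hn {K : Type v} [Group K] {p : ℕ} (h : Spor.IsoHN K) (hp : p.Prime) (hp2 : p ≠ 2) : Row.{u} p K := by
  obtain ⟨e⟩ := h
  exact Row.congr e (hn0 hp hp2)

end Cfsg.Agent.H944.RowHN
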