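import Mathlib
import Cfsg.Agent.ChevalleyStructure.E6Min.Forms
import Cfsg.Agent.ChevalleyStructure.E6Min.Adjoint

/-!
# Levels of the diagonal elements of `E₆` in the coordinates of `A₂ A₂ A₂` (helper944)

A function `b` on the 27 coordinates with `b x + b y + b (x ∘ y) = 0` on the 45 triads is given by three triples `X, Y, Z`
with the same sum `s`: `b = X r - Y c`, `Y r - Z c`, `Z r - X c` on the three blocks. The 72 values on the roots are
`X i - X j`, `Y i - Y j`, `Z i - Z j` and `± (X i + Y j + Z k - s)`.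

`core` : for `b` with values in `ZMod m`, `m = 2, 3, 4, 5, 7`, the numbers of the coordinates and of the roots with a given
level (the six zeros of the Cartan subalgebra included) are in the table `TT m`.
-/

set_option autoImplicit false
set_option linter.unusedSectionVars false

namespace Cfsg.Agent.H944.E6T

open Cfsg.Lie
open Cfsg.Agent.ChevalleyStructure
open Cfsg.Agent.ChevalleyStructure.E6Min.Tables Cfsg.Agent.ChevalleyStructure.E6Min.Basic
  Cfsg.Agent.ChevalleyStructure.E6Min.Checks Cfsg.Agent.ChevalleyStructure.E6Min.Adjoint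
  Cfsg.Agent.ChevalleyStructure.E6Min.Forms

/-! ### the tables -/

/-- form number of the root `r` -/
def phi : List ℕ := [19, 20, 51, 48, 45, 42, 39, 36, 55, 58, 61, 56, 59, 62, 6, 3, 33, 30, 27, 64, 67, 70, 73, 76, 79,
  25, 65, 68, 71, 7, 74, 77, 80, 15, 16, 12, 10, 14, 11, 53, 50, 47, 5, 44, 41, 38, 23, 52, 49, 46, 43, 40, 37, 54, 57,
  60, 1, 2, 35, 32, 29, 34, 31, 28, 63, 66, 69, 72, 75, 78, 24, 21]

/-- the numbers of the nine zero forms -/
def psi : List ℕ := [0, 4, 8, 9, 13, 17, 18, 22, 26]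

/-- index of `X i`, `Y i`, `Z i` -/
def ix (b i : ℕ) : ℕ := 3 * b + i

/-- unit coefficient -/
def u1 (a k : ℕ) : ℤ := if k = a then 1 else 0

/-- coefficients of the coordinate with code `x` -/
def cb (x k : ℕ) : ℤ := u1 (3 * (x / 9) + x / 3 % 3) k - u1 (3 * ((x / 9 + 1) % 3) + x % 3) k

/-- coefficients of the form with number `n = 27 t + 9 i + 3 j + l` -/
def cf (n k : ℕ) : ℤ :=
  if n < 27 then u1 (3 * (n / 9) + n / 3 % 3) k - u1 (3 * (n / 9) + n % 3) k
  else if n < 54 then u1 ((n - 27) / 9) k + u1 (3 + (n - 27) / 3 % 3) k + u1 (6 + n % 3) k - u1 9 k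
  else u1 9 k - (u1 ((n - 54) / 9) k + u1 (3 + (n - 54) / 3 % 3) k + u1 (6 + n % 3) k)

/-- difference of the coefficients of root `r` and form `phi r` -/
def df (r k : ℕ) : ℤ := cb (rowN r) k - cb (srN r (rowN r)) k - cf (phi.getD r 0) k

theorem df_all : allLt 72 (fun r => (df r 0 == df r 2) && (df r 1 == df r 2) && (df r 3 == df r 5) &&
    (df r 4 == df r 5) && (df r 6 == df r 8) && (df r 7 == df r 8) &&
    (df r 9 + df r 2 + df r 5 + df r 8 == 0)) = true := by decide +kernel

theorem phi_lt_all : allLt 72 (fun r => Nat.blt (phi.getD r 0) 81) = true := by decide +kernel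

section
variable {A : Type*} [CommRing A]

/-- linear combination of ten parameters -/
def lin (w : ℕ → A) (v : ℕ → ℤ) : A := ∑ k ∈ Finset.range 10, ((v k : ℤ) : A) * w k

theorem lin_sub (w : ℕ → A) (v v' : ℕ → ℤ) : lin w (fun k => v k - v' k) = lin w v - lin w v' := by
  unfold lin
  rw [← Finset.sum_sub_distrib]
  exact Finset.sum_congr rfl fun k _ => by push_cast; ring

theorem lin_u1 (w : ℕ → A) {a : ℕ} (ha : a < 10) : lin w (u1 a) = w a := by
  unfold lin
  rw [Finset.sum_eq_single a]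
  · unfold u1; simp
  · intro k _ hk
    unfold u1; rw [if_neg hk]; simp
  · intro h; exact absurd (Finset.mem_range.2 ha) h

/-- the parameters -/
structure Par (w : ℕ → A) : Prop where
  x : w 0 + w 1 + w 2 = w 9
  y : w 3 + w 4 + w 5 = w 9
  z : w 6 + w 7 + w 8 = w 9

theorem lin_eq_zero {w : ℕ → A} (h : Par w) {v : ℕ → ℤ} (h0 : v 0 = v 2) (h1 : v 1 = v 2) (h3 : v 3 = v 5)
    (h4 : v 4 = v 5) (h6 : v 6 = v 8) (h7 : v 7 = v 8) (h9 : v 9 + v 2 + v 5 + v 8 = 0) : lin w v = 0 := by
  unfold lin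
  simp only [Finset.sum_range_succ, Finset.sum_range_zero, zero_add]
  have h9' : v 9 = -v 2 - v 5 - v 8 := by linarith
  rw [h0, h1, h3, h4, h6, h7, h9']
  push_cast
  linear_combination ((v 2 : ℤ) : A) * h.x + ((v 5 : ℤ) : A) * h.y + ((v 8 : ℤ) : A) * h.z

/-- the value on a root -/
theorem root_eq {w : ℕ → A} (h : Par w) {r : ℕ} (hr : r < 72) :
    lin w (cb (rowN r)) - lin w (cb (srN r (rowN r))) = lin w (cf (phi.getD r 0)) := by
  have h1 := allLt_spec df_all r hr
  simp only [Bool.and_eq_true, beq_iff_eq] at h1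
  obtain ⟨⟨⟨⟨⟨⟨h0, h1⟩, h3⟩, h4⟩, h6⟩, h7⟩, h9⟩ := h1
  have h2 := lin_eq_zero h h0 h1 h3 h4 h6 h7 h9
  have h5 : lin w (df r) = lin w (cb (rowN r)) - lin w (cb (srN r (rowN r))) - lin w (cf (phi.getD r 0)) := by
    unfold df
    rw [lin_sub, lin_sub]
  rw [h5] at h2
  linear_combination h2

/-- the form with number `n` -/
def frm (w : ℕ → A) (n : ℕ) : A :=
  if n < 27 then w (3 * (n / 9) + n / 3 % 3) - w (3 * (n / 9) + n % 3)
  else if n < 54 then w ((n - 27) / 9) + w (3 + (n - 27) / 3 % 3) + w (6 + n % 3) - w 9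
  else w 9 - (w ((n - 54) / 9) + w (3 + (n - 54) / 3 % 3) + w (6 + n % 3))

theorem lin_cf (w : ℕ → A) {n : ℕ} (hn : n < 81) : lin w (cf n) = frm w n := by
  have hadd : ∀ v v' : ℕ → ℤ, lin w (fun k => v k + v' k) = lin w v + lin w v' := by
    intro v v'
    unfold lin
    rw [← Finset.sum_add_distrib]
    exact Finset.sum_congr rfl fun k _ => by push_cast; ring
  unfold frm
  split_ifs with h1 h2
  · have h3 : cf n = fun k => u1 (3 * (n / 9) + n / 3 % 3) k - u1 (3 * (n / 9) + n % 3) k := by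
      funext k; unfold cf; rw [if_pos h1]
    rw [h3, lin_sub, lin_u1 w (by omega), lin_u1 w (by omega)]
  · have h3 : cf n = fun k => (fun k => (fun k => u1 ((n - 27) / 9) k + u1 (3 + (n - 27) / 3 % 3) k) k +
        u1 (6 + n % 3) k) k - u1 9 k := by
      funext k; unfold cf; rw [if_neg h1, if_pos h2]
    rw [h3, lin_sub, hadd, hadd, lin_u1 w (by omega), lin_u1 w (by omega), lin_u1 w (by omega), lin_u1 w (by omega)]
  · have h3 : cf n = fun k => u1 9 k - (fun k => (fun k => u1 ((n - 54) / 9) k + u1 (3 + (n - 54) / 3 % 3) k) k +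
        u1 (6 + n % 3) k) k := by
      funext k; unfold cf; rw [if_neg h1, if_neg h2]
    rw [h3, lin_sub, hadd, hadd, lin_u1 w (by omega), lin_u1 w (by omega), lin_u1 w (by omega), lin_u1 w (by omega)]

/-- coordinate with index `x` -/
theorem lin_cb (w : ℕ → A) {x : ℕ} (hx : x < 27) :
    lin w (cb x) = w (3 * (x / 9) + x / 3 % 3) - w (3 * ((x / 9 + 1) % 3) + x % 3) := by
  show lin w (fun k => u1 _ k - u1 _ k) = _
  rw [lin_sub, lin_u1 w (by omega), lin_u1 w (by omega)]

/-! ### the parameters of a function on the coordinates -/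

/-- the parameters of `b` -/
def par (b : I27 → A) (k : ℕ) : A :=
  if k < 3 then b (0, Fin.ofNat 3 k, 0)
  else if k < 6 then b (0, 0, 0) - b (0, 0, Fin.ofNat 3 k)
  else if k < 9 then -b (1, 0, Fin.ofNat 3 k)
  else b (0, 0, 0) + b (0, 1, 0) + b (0, 2, 0)

/-- the triad relations used -/
theorem tri_all : allLt 27 (fun n =>
    (relN (3 * (n / 3 % 3) + n / 9) (9 + 3 * (n / 9) + n % 3) == 2) &&
    (thN (3 * (n / 3 % 3) + n / 9) (9 + 3 * (n / 9) + n % 3) == 18 + 3 * (n % 3) + n / 3 % 3)) = true := by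
  decide +kernel

theorem det_all : allLt 3 (fun n => (relN (9 * n) (9 * n + 4) == 2) &&
    (thN (9 * n) (9 * n + 4) == 9 * n + 8)) = true := by decide +kernel

variable {b : I27 → A} (hb : ∀ x y, rel x y = 2 → b x + b y + b (th x y) = 0)

include hb in
/-- mixed triads -/
theorem mixed (r c k : Fin 3) : b (0, r, c) + b (1, c, k) + b (2, k, r) = 0 := by
  have h := allLt_spec tri_all (9 * c.val + 3 * r.val + k.val) (by omega)
  have e1 : (9 * c.val + 3 * r.val + k.val) / 3 % 3 = r.val := by omega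
  have e2 : (9 * c.val + 3 * r.val + k.val) / 9 = c.val := by omega
  have e3 : (9 * c.val + 3 * r.val + k.val) % 3 = k.val := by omega
  rw [e1, e2, e3] at h
  simp only [Bool.and_eq_true, beq_iff_eq] at h
  have c1 : E6Min.Tables.code (0, r, c) = 3 * r.val + c.val := by simp [E6Min.Tables.code]
  have c2 : E6Min.Tables.code (1, c, k) = 9 + 3 * c.val + k.val := by simp [E6Min.Tables.code]
  have c3 : E6Min.Tables.code (2, k, r) = 18 + 3 * k.val + r.val := by simp [E6Min.Tables.code]
  have h1 : rel (0, r, c) (1, c, k) = 2 := by unfold rel; rw [c1, c2]; exact h.1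
  have h2 : th (0, r, c) (1, c, k) = (2, k, r) := by
    unfold th; rw [c1, c2, h.2, ← c3, dec_code]
  have h3 := hb _ _ h1
  rwa [h2] at h3

include hb in
/-- the diagonal triads -/
theorem pure3 (n : Fin 3) : b (n, 0, 0) + b (n, 1, 1) + b (n, 2, 2) = 0 := by
  have h := allLt_spec det_all n.val n.isLt
  simp only [Bool.and_eq_true, beq_iff_eq] at h
  have c1 : E6Min.Tables.code (n, 0, 0) = 9 * n.val := by simp [E6Min.Tables.code]
  have c2 : E6Min.Tables.code (n, 1, 1) = 9 * n.val + 4 := by simp [E6Min.Tables.code]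
  have c3 : E6Min.Tables.code (n, 2, 2) = 9 * n.val + 8 := by simp [E6Min.Tables.code]
  have h1 : rel (n, 0, 0) (n, 1, 1) = 2 := by unfold rel; rw [c1, c2]; exact h.1
  have h2 : th (n, 0, 0) (n, 1, 1) = (n, 2, 2) := by
    unfold th; rw [c1, c2, h.2, ← c3, dec_code]
  have h3 := hb _ _ h1
  rwa [h2] at h3

theorem par_x (b : I27 → A) (i : Fin 3) : par b i.val = b (0, i, 0) := by
  unfold par; rw [if_pos i.isLt]; congr; exact Fin.ext (by simp [Fin.ofNat, Nat.mod_eq_of_lt i.isLt])

theorem par_y (b : I27 → A) (i : Fin 3) : par b (3 + i.val) = b (0, 0, 0) - b (0, 0, i) := by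
  unfold par
  rw [if_neg (by omega), if_pos (by omega)]
  congr
  exact Fin.ext (by simp [Fin.ofNat])

theorem par_z (b : I27 → A) (i : Fin 3) : par b (6 + i.val) = -b (1, 0, i) := by
  unfold par
  rw [if_neg (by omega), if_neg (by omega), if_pos (by omega)]
  congr
  exact Fin.ext (by simp [Fin.ofNat]; omega)

include hb in
theorem b_zero (r c : Fin 3) : b (0, r, c) = par b r.val - par b (3 + c.val) := by
  rw [par_x, par_y]
  have h1 := mixed hb r c 0
  have h2 := mixed hb r 0 0
  have h3 := mixed hb 0 c 0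
  have h4 := mixed hb 0 0 0
  linear_combination h1 - h2 - h3 + h4

include hb in
theorem b_one (c k : Fin 3) : b (1, c, k) = par b (3 + c.val) - par b (6 + k.val) := by
  rw [par_y, par_z]
  have h1 := mixed hb 0 c k
  have h2 := mixed hb 0 0 k
  linear_combination h1 - h2

include hb in
theorem b_two (k r : Fin 3) : b (2, k, r) = par b (6 + k.val) - par b r.val := by
  rw [par_x, par_z]
  have h1 := mixed hb r 0 k
  linear_combination h1

include hb in
theorem par_par : Par (par b) := by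
  have x0 := par_x b 0
  have x1 := par_x b 1
  have x2 := par_x b 2
  have y0 := par_y b 0
  have y1 := par_y b 1
  have y2 := par_y b 2
  have z0 := par_z b 0
  have z1 := par_z b 1
  have z2 := par_z b 2
  have e00 := b_zero hb 0 0
  have e11 := b_zero hb 1 1
  have e22 := b_zero hb 2 2
  have f00 := b_one hb 0 0
  have f11 := b_one hb 1 1
  have f22 := b_one hb 2 2
  have p0 := pure3 hb 0
  have p1 := pure3 hb 1
  have s9 : par b 9 = b (0, 0, 0) + b (0, 1, 0) + b (0, 2, 0) := by unfold par; simp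
  simp only [Fin.val_zero, Fin.val_one, Fin.val_two, add_zero, Nat.reduceAdd] at *
  have hx : par b 0 + par b 1 + par b 2 = par b 9 := by rw [x0, x1, x2, s9]
  have hy : par b 3 + par b 4 + par b 5 = par b 9 := by
    rw [← hx]
    linear_combination e00 + e11 + e22 - p0
  refine ⟨hx, hy, ?_⟩
  rw [← hy]
  linear_combination f00 + f11 + f22 - p1

include hb in
/-- the function in terms of the parameters -/
theorem b_eq (x : I27) : b x = lin (par b) (cb (E6Min.Tables.code x)) := by
  rw [lin_cb _ (code_lt x)]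
  obtain ⟨i, r, c⟩ := x
  have e1 : E6Min.Tables.code (i, r, c) / 9 = i.val := by unfold E6Min.Tables.code; simp; omega
  have e2 : E6Min.Tables.code (i, r, c) / 3 % 3 = r.val := by unfold E6Min.Tables.code; simp; omega
  have e3 : E6Min.Tables.code (i, r, c) % 3 = c.val := by unfold E6Min.Tables.code; simp; omega
  rw [e1, e2, e3]
  have hi : i = 0 ∨ i = 1 ∨ i = 2 := (by decide : ∀ i : Fin 3, i = 0 ∨ i = 1 ∨ i = 2) i
  rcases hi with rfl | rfl | rfl
  · have := b_zero hb r c
    simpa using this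
  · have := b_one hb r c
    simpa using this
  · have := b_two hb r c
    simpa using this

include hb in
/-- the value on a root -/
theorem b_root {r : ℕ} (hr : r < 72) : b (row r) - b (sr r (row r)) = frm (par b) (phi.getD r 0) := by
  have h1 : Nat.blt (phi.getD r 0) 81 = true := allLt_spec phi_lt_all r hr
  have h2 : rowN r < 27 := by
    have := allLt_spec row_all r hr
    simp only [Bool.and_eq_true, Nat.blt_eq] at this
    exact this.1.1.1
  rw [← lin_cf _ (Nat.blt_eq.mp h1), ← root_eq (par_par hb) hr, b_eq hb, b_eq hb, code_sr hr]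
  unfold row
  rw [code_dec h2]

end

/-! ## The tables and the check -/

/-- the table for `m = 2`: (multiplicities on `V`, on `L`), 8 bits each -/
def T2 : List (ℕ × ℕ) := [
  (0x100b, 0x202e), (0xc0f, 0x2826), (0x1b, 0x4e)]

/-- the table for `m = 3`: (multiplicities on `V`, on `L`), 8 bits each -/
def T3 : List (ℕ × ℕ) := [
  (0x1b0000, 0x4e), (0x1b00, 0x4e), (0xf0606, 0x151524), (0x60f06, 0x151524), (0x90909, 0x1b1b18),
  (0x90909, 0x18181e), (0x6060f, 0x151524), (0x1b, 0x4e)]

/-- the table for `m = 4`: (multiplicities on `V`, on `L`), 8 bits each -/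
def T4 : List (ℕ × ℕ) := [
  (0x100a0001, 0x1000102e), (0xa1001, 0x1000102e), (0xa0a0205, 0x140a141c), (0xa060605, 0x1014101a),
  (0x8060805, 0x10181016), (0x6060a05, 0x1014101a), (0x20a0a05, 0x140a141c), (0x6080607, 0x14121414),
  (0x6060609, 0x14121414), (0x8020809, 0x1010101e), (0x10000b, 0x20002e), (0xc000f, 0x280026),
  (0x600060f, 0x14021424), (0x1b, 0x4e)]

/-- the table for `m = 5`: (multiplicities on `V`, on `L`), 8 bits each -/
def T5 : List (ℕ × ℕ) := [
  (0xa10010000, 0x100000102e), (0x10000a0100, 0x1010002e), (0x1100a00, 0x100000102e), (0x10a001000, 0x1010002e),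
  (0xa0a050002, 0x140505141c), (0xa000a0502, 0x51414051c), (0x50a000a02, 0x51414051c), (0x50a0a02, 0x140505141c),
  (0x806060304, 0x100d0d1014), (0x608030604, 0xd10100d14), (0x603080604, 0xd10100d14),
  (0x306060804, 0x100d0d1014), (0x60a050105, 0xf0b0b0f1a), (0xa01060505, 0xb0f0f0b1a),
  (0x506060505, 0x100f0f1010), (0x605050605, 0xf10100f10), (0x1050a0605, 0xf0b0b0f1a), (0x506010a05, 0xb0f0f0b1a),
  (0x505050507, 0xf0f0f0f12), (0x108080109, 0x81010081e), (0x306060309, 0xb12120b14), (0x603030609, 0x120b0b1214),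
  (0x801010809, 0x100808101e), (0x606000f, 0x114140124), (0x60000060f, 0x1401011424), (0x1b, 0x4e)]

/-- the table for `m = 7`: (multiplicities on `V`, on `L`), 8 bits each -/
def T7 : List (ℕ × ℕ) := [
  (0x1100a00000000, 0x1000000000102e), (0x50a0a02000000, 0x1405000005141c), (0xa001000010000, 0x10000010002e),
  (0x100000010a0000, 0x101000002e), (0xa0200050a0000, 0x500141400051c), (0x8080108010100, 0x808080808081e),
  (0xa100100, 0x1000000000102e), (0xa000a00050200, 0x14050514001c), (0x20a0a0500, 0x1405000005141c),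
  (0x1010801080800, 0x808080808081e), (0x205000a000a00, 0x14050514001c), (0x10010000a00, 0x10000010002e),
  (0xa0500020a00, 0x500141400051c), (0xa0100001000, 0x101000002e), (0x50a0605000001, 0xf0a01010a0f1a),
  (0xa050005060001, 0xa010f0f010a1a), (0x6000a00050501, 0x10f0a0a0f011a), (0x5060a0501, 0xf0a01010a0f1a),
  (0x505000a000601, 0x10f0a0a0f011a), (0x60500050a01, 0xa010f0f010a1a), (0x6060804010002, 0x10090404091014),
  (0x6060504030102, 0xe090808090e10), (0x6040006080102, 0x9041010040914), (0x6040106050302, 0x9080e0e080910),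
  (0x8000601060402, 0x4100909100414), (0x5010603060402, 0x80e09090e0810), (0x4060306010502, 0x80e09090e0810),
  (0x1080600040602, 0x9041010040914), (0x3050601040602, 0x9080e0e080910), (0x1030405060602, 0xe090808090e10),
  (0x10408060602, 0x10090404091014), (0x4060106000802, 0x4100909100414), (0x4050603030303, 0xc0a0a0a0a0c0e),
  (0x6030503040303, 0xa0c0a0a0c0a0e), (0x5030304060303, 0xa0a0c0c0a0a0e), (0x4040404040403, 0xb0b0b0b0b0b0c),
  (0x3030306050403, 0xc0a0a0a0a0c0e), (0x3060403030503, 0xa0a0c0c0a0a0e), (0x3040305030603, 0xa0c0a0a0c0a0e),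
  (0x3080604020004, 0xc0c05050c0c14), (0x5060204050104, 0xa090b0b090a12), (0x4050506010204, 0xb0a09090a0b12),
  (0x8040003060204, 0xc050c0c050c14), (0x20406080304, 0xc0c05050c0c14), (0x6000802030404, 0x50c0c0c0c0514),
  (0x2010605050404, 0xb0a09090a0b12), (0x6040105020504, 0x90b0a0a0b0912), (0x1050402060504, 0xa090b0b090a12),
  (0x4030208000604, 0x50c0c0c0c0514), (0x5020501040604, 0x90b0a0a0b0912), (0x2060300040804, 0xc050c0c050c14),
  (0x10501050a0005, 0x50b0a0a0b051a), (0x5010a05000105, 0xa050b0b050a1a), (0xa0501050105, 0x50b0a0a0b051a),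
  (0x2060303060205, 0x70c0c0c0c0710), (0x3020606020305, 0xc070c0c070c10), (0x3040404040305, 0xa0c0b0b0c0a0c),
  (0x4030404030405, 0xb0a0c0c0a0b0c), (0x4040303040405, 0xc0b0a0a0b0c0c), (0x100050a010505, 0xa050b0b050a1a),
  (0xa010100050505, 0xb0a05050a0b1a), (0x6030202030605, 0xc0c07070c0c10), (0x5050001010a05, 0xb0a05050a0b1a),
  (0x1050404050107, 0x70e09090e0712), (0x4010505010407, 0x9070e0e070912), (0x5040101040507, 0xe090707090e12),
  (0x60303060009, 0x2120909120214), (0x80101080009, 0x10080810001e), (0x1000808000109, 0x800101000081e),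
  (0x3000606000309, 0x9021212020914), (0x3030303030309, 0xa0a0a0a0a0a12), (0x6030000030609, 0x12090202091214),
  (0x8010000010809, 0x1008000008101e), (0x60600000f, 0x1001414000124), (0x6000006000f, 0x140101140024),
  (0x600000000060f, 0x14010000011424), (0x1b, 0x4e)]

/-- the table for `m` -/
def TT (m : ℕ) : List (ℕ × ℕ) :=
  if m = 2 then T2 else if m = 3 then T3 else if m = 4 then T4 else if m = 5 then T5 else if m = 7 then T7 else []

/-! ### the check -/

/-- `256 ^ (n mod m)` -/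
def pw (m n : ℕ) : ℕ := Nat.pow 256 (Nat.mod n m)

/-- differences of two triples -/
def dd (m x0 x1 x2 y0 y1 y2 : ℕ) : ℕ :=
  Nat.add (Nat.add (Nat.add (pw m (Nat.add x0 (Nat.sub m y0))) (pw m (Nat.add x0 (Nat.sub m y1))))
    (pw m (Nat.add x0 (Nat.sub m y2))))
  (Nat.add (Nat.add (Nat.add (pw m (Nat.add x1 (Nat.sub m y0))) (pw m (Nat.add x1 (Nat.sub m y1))))
    (pw m (Nat.add x1 (Nat.sub m y2))))
  (Nat.add (Nat.add (pw m (Nat.add x2 (Nat.sub m y0))) (pw m (Nat.add x2 (Nat.sub m y1))))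
    (pw m (Nat.add x2 (Nat.sub m y2)))))

/-- `pw` of `e - s` and `s - e` -/
def pm (m s e : ℕ) : ℕ := Nat.add (pw m (Nat.add e (Nat.sub m s))) (pw m (Nat.sub (Nat.add s (Nat.mul 3 m)) e))

/-- the forms `± (x + y + z - s)` -/
def ee (m s x y0 y1 y2 z0 z1 z2 : ℕ) : ℕ :=
  Nat.add (Nat.add (Nat.add (pm m s (Nat.add (Nat.add x y0) z0)) (pm m s (Nat.add (Nat.add x y0) z1)))
    (pm m s (Nat.add (Nat.add x y0) z2)))
  (Nat.add (Nat.add (Nat.add (pm m s (Nat.add (Nat.add x y1) z0)) (pm m s (Nat.add (Nat.add x y1) z1)))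
    (pm m s (Nat.add (Nat.add x y1) z2)))
  (Nat.add (Nat.add (pm m s (Nat.add (Nat.add x y2) z0)) (pm m s (Nat.add (Nat.add x y2) z1)))
    (pm m s (Nat.add (Nat.add x y2) z2))))

/-- packed multiplicities on `V` -/
def nV (m x0 x1 x2 y0 y1 y2 z0 z1 z2 : ℕ) : ℕ :=
  Nat.add (Nat.add (dd m x0 x1 x2 y0 y1 y2) (dd m y0 y1 y2 z0 z1 z2)) (dd m z0 z1 z2 x0 x1 x2)

/-- packed multiplicities on the roots, plus nine zeros -/
def nL (m s x0 x1 x2 y0 y1 y2 z0 z1 z2 : ℕ) : ℕ :=
  Nat.add (Nat.add (Nat.add (dd m x0 x1 x2 x0 x1 x2) (dd m y0 y1 y2 y0 y1 y2)) (dd m z0 z1 z2 z0 z1 z2))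
    (Nat.add (Nat.add (ee m s x0 y0 y1 y2 z0 z1 z2) (ee m s x1 y0 y1 y2 z0 z1 z2)) (ee m s x2 y0 y1 y2 z0 z1 z2))

/-- look up -/
def look (v l : ℕ) : List (ℕ × ℕ) → Bool
  | [] => false
  | p :: t => (Nat.beq p.1 v && Nat.beq (Nat.add p.2 3) l) || look v l t

/-- all sorted triples below `m` with sum `s` -/
def all3 (m s : ℕ) (p : ℕ → ℕ → ℕ → Bool) : Bool :=
  allLt m fun c => allLt (c + 1) fun b => allLt (b + 1) fun a =>
    !(Nat.beq (Nat.mod (Nat.add (Nat.add a b) c) m) s) || p a b c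

/-- the check -/
def chk (m s : ℕ) (T : List (ℕ × ℕ)) : Bool :=
  all3 m s fun x0 x1 x2 => all3 m s fun y0 y1 y2 => all3 m s fun z0 z1 z2 =>
    look (nV m x0 x1 x2 y0 y1 y2 z0 z1 z2) (nL m s x0 x1 x2 y0 y1 y2 z0 z1 z2) T

theorem chk2 : chk 2 0 T2 = true := by decide +kernel
theorem chk30 : chk 3 0 T3 = true := by decide +kernel
theorem chk31 : chk 3 1 T3 = true := by decide +kernel
theorem chk32 : chk 3 2 T3 = true := by decide +kernel
theorem chk4 : chk 4 0 T4 = true := by decide +kernel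
theorem chk5 : chk 5 0 T5 = true := by decide +kernel
theorem chk7 : chk 7 0 T7 = true := by decide +kernel

/-! ## From the check to the statement -/

section
variable {A : Type*} [CommRing A]

/-- sum over the coordinates -/
def sV (W : A → ℕ) (X Y Z : Fin 3 → A) : ℕ :=
  ∑ i, ∑ j, W (X i - Y j) + ∑ i, ∑ j, W (Y i - Z j) + ∑ i, ∑ j, W (Z i - X j)

/-- sum over the roots (and nine zeros) -/
def sL (W : A → ℕ) (X Y Z : Fin 3 → A) (s : A) : ℕ :=
  ∑ i, ∑ j, W (X i - X j) + ∑ i, ∑ j, W (Y i - Y j) + ∑ i, ∑ j, W (Z i - Z j) +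
    ∑ i, ∑ j, ∑ k, (W (X i + Y j + Z k - s) + W (s - (X i + Y j + Z k)))

theorem sV_perm (W : A → ℕ) (X Y Z : Fin 3 → A) (σ τ υ : Equiv.Perm (Fin 3)) :
    sV W (X ∘ σ) (Y ∘ τ) (Z ∘ υ) = sV W X Y Z := by
  unfold sV
  congr 1
  · congr 1
    · rw [← Equiv.sum_comp σ fun i => ∑ j, W (X i - Y j)]
      exact Finset.sum_congr rfl fun i _ => Equiv.sum_comp τ fun j => W (X (σ i) - Y j)
    · rw [← Equiv.sum_comp τ fun i => ∑ j, W (Y i - Z j)]
      exact Finset.sum_congr rfl fun i _ => Equiv.sum_comp υ fun j => W (Y (τ i) - Z j)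
  · rw [← Equiv.sum_comp υ fun i => ∑ j, W (Z i - X j)]
    exact Finset.sum_congr rfl fun i _ => Equiv.sum_comp σ fun j => W (Z (υ i) - X j)

theorem sL_perm (W : A → ℕ) (X Y Z : Fin 3 → A) (s : A) (σ τ υ : Equiv.Perm (Fin 3)) :
    sL W (X ∘ σ) (Y ∘ τ) (Z ∘ υ) s = sL W X Y Z s := by
  unfold sL
  congr 1
  · congr 1
    · congr 1
      · rw [← Equiv.sum_comp σ fun i => ∑ j, W (X i - X j)]
        exact Finset.sum_congr rfl fun i _ => Equiv.sum_comp σ fun j => W (X (σ i) - X j)
      · rw [← Equiv.sum_comp τ fun i => ∑ j, W (Y i - Y j)]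
        exact Finset.sum_congr rfl fun i _ => Equiv.sum_comp τ fun j => W (Y (τ i) - Y j)
    · rw [← Equiv.sum_comp υ fun i => ∑ j, W (Z i - Z j)]
      exact Finset.sum_congr rfl fun i _ => Equiv.sum_comp υ fun j => W (Z (υ i) - Z j)
  · rw [← Equiv.sum_comp σ fun i => ∑ j, ∑ k, (W (X i + Y j + Z k - s) + W (s - (X i + Y j + Z k)))]
    refine Finset.sum_congr rfl fun i _ => ?_
    rw [← Equiv.sum_comp τ fun j => ∑ k, (W (X (σ i) + Y j + Z k - s) + W (s - (X (σ i) + Y j + Z k)))]
    refine Finset.sum_congr rfl fun j _ => ?_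
    exact Equiv.sum_comp υ fun k => (W (X (σ i) + Y (τ j) + Z k - s) + W (s - (X (σ i) + Y (τ j) + Z k)))

theorem sV_shift (W : A → ℕ) (X Y Z : Fin 3 → A) (t : A) :
    sV W (fun i => X i + t) (fun i => Y i + t) (fun i => Z i + t) = sV W X Y Z := by
  unfold sV
  simp only [add_sub_add_right_eq_sub]

theorem sL_shift (W : A → ℕ) (X Y Z : Fin 3 → A) (s t : A) :
    sL W (fun i => X i + t) (fun i => Y i + t) (fun i => Z i + t) (s + 3 * t) = sL W X Y Z s := by
  unfold sL
  simp only [add_sub_add_right_eq_sub]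
  congr 1
  refine Finset.sum_congr rfl fun i _ => Finset.sum_congr rfl fun j _ => Finset.sum_congr rfl fun k _ => ?_
  congr 2 <;> ring

/-! ### from the coordinates to the triples -/

theorem sum_getD (f : ℕ → ℕ) : ∀ l : List ℕ, ∑ r ∈ Finset.range l.length, f (l.getD r 0) = (l.map f).sum
  | [] => by simp
  | a :: l => by
    rw [List.length_cons, Finset.sum_range_succ', List.map_cons, List.sum_cons]
    have h := sum_getD f l
    simp only [List.getD_cons_succ, List.getD_cons_zero]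
    rw [h, add_comm]

theorem phi_perm : (phi ++ psi).Perm (List.range 81) := by decide +kernel

theorem sum27 (g : ℕ → ℕ) : ∑ n ∈ Finset.range 27, g n =
    ∑ i : Fin 3, ∑ j : Fin 3, ∑ k : Fin 3, g (9 * i.val + 3 * j.val + k.val) := by
  simp only [Finset.sum_range_succ, Finset.sum_range_zero, Fin.sum_univ_three, Fin.val_zero, Fin.val_one, Fin.val_two,
    mul_zero, mul_one, zero_add, add_zero, Nat.reduceMul, Nat.reduceAdd]
  ring

variable {b : I27 → A} (hb : ∀ x y, rel x y = 2 → b x + b y + b (th x y) = 0)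

theorem frm_a (w : ℕ → A) (i j k : Fin 3) : frm w (9 * i.val + 3 * j.val + k.val) =
    w (3 * i.val + j.val) - w (3 * i.val + k.val) := by
  unfold frm
  rw [if_pos (by omega)]
  congr 2 <;> omega

theorem frm_p (w : ℕ → A) (i j k : Fin 3) : frm w (27 + (9 * i.val + 3 * j.val + k.val)) =
    w i.val + w (3 + j.val) + w (6 + k.val) - w 9 := by
  unfold frm
  rw [if_neg (by omega), if_pos (by omega), show (27 + (9 * i.val + 3 * j.val + k.val) - 27) / 9 = i.val by omega,
    show (27 + (9 * i.val + 3 * j.val + k.val) - 27) / 3 % 3 = j.val by omega,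
    show (27 + (9 * i.val + 3 * j.val + k.val)) % 3 = k.val by omega]

theorem frm_m (w : ℕ → A) (i j k : Fin 3) : frm w (27 + (27 + (9 * i.val + 3 * j.val + k.val))) =
    w 9 - (w i.val + w (3 + j.val) + w (6 + k.val)) := by
  unfold frm
  rw [if_neg (by omega), if_neg (by omega),
    show (27 + (27 + (9 * i.val + 3 * j.val + k.val)) - 54) / 9 = i.val by omega,
    show (27 + (27 + (9 * i.val + 3 * j.val + k.val)) - 54) / 3 % 3 = j.val by omega,
    show (27 + (27 + (9 * i.val + 3 * j.val + k.val))) % 3 = k.val by omega]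

include hb in
theorem sum_coord (W : A → ℕ) : ∑ x : I27, W (b x) =
    sV W (fun i => par b i.val) (fun i => par b (3 + i.val)) (fun i => par b (6 + i.val)) := by
  rw [Fintype.sum_prod_type, Fin.sum_univ_three]
  unfold sV
  simp only [Fintype.sum_prod_type]
  simp only [b_zero hb, b_one hb, b_two hb]

include hb in
theorem sum_root (W : A → ℕ) : ∑ r ∈ Finset.range 72, W (b (row r) - b (sr r (row r))) + 9 * W 0 =
    sL W (fun i => par b i.val) (fun i => par b (3 + i.val)) (fun i => par b (6 + i.val)) (par b 9) := by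
  have h1 : ∑ r ∈ Finset.range 72, W (b (row r) - b (sr r (row r))) =
      (phi.map fun n => W (frm (par b) n)).sum := by
    rw [← sum_getD (fun n => W (frm (par b) n)) phi]
    show _ = ∑ r ∈ Finset.range 72, _
    refine Finset.sum_congr rfl fun r hr => ?_
    rw [b_root hb (Finset.mem_range.1 hr)]
  have h2 : 9 * W 0 = (psi.map fun n => W (frm (par b) n)).sum := by
    simp only [psi, frm, List.map_cons, List.map_nil, List.sum_cons, List.sum_nil]
    norm_num
    ring
  have h3 := (phi_perm.map fun n => W (frm (par b) n)).sum_eq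
  rw [List.map_append, List.sum_append] at h3
  rw [h1, h2, h3]
  have h4 : ((List.range 81).map fun n => W (frm (par b) n)).sum = ∑ n ∈ Finset.range 81, W (frm (par b) n) := by
    rw [Finset.sum, Finset.range_val, ← Multiset.coe_range, Multiset.map_coe, Multiset.sum_coe]
  rw [h4, show (81 : ℕ) = 27 + (27 + 27) from rfl, Finset.sum_range_add, Finset.sum_range_add, sum27, sum27, sum27]
  simp only [frm_a, frm_p, frm_m]
  unfold sL
  simp only [Finset.sum_add_distrib]
  rw [Fin.sum_univ_three (fun i : Fin 3 => ∑ j : Fin 3, ∑ k : Fin 3, W (par b (3 * i.val + j.val) - par b (3 * i.val + k.val)))]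
  simp only [Fin.val_zero, Fin.val_one, Fin.val_two, mul_zero, mul_one, zero_add, Nat.reduceMul]

end

/-! ### `ZMod m` -/

theorem all3_spec {m s : ℕ} {p : ℕ → ℕ → ℕ → Bool} (h : all3 m s p = true) {a b c : ℕ} (hab : a ≤ b) (hbc : b ≤ c)
    (hc : c < m) (hs : (a + b + c) % m = s) : p a b c = true := by
  have h1 := allLt_spec (allLt_spec (allLt_spec h c hc) b (by omega)) a (by omega)
  rw [Bool.or_eq_true] at h1
  rcases h1 with h1 | h1
  · have h2 : Nat.beq (Nat.mod (Nat.add (Nat.add a b) c) m) s = true := Nat.beq_eq.mpr hs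
    rw [Bool.not_eq_true', h2] at h1
    exact Bool.noConfusion h1
  · exact h1

theorem look_spec {v l : ℕ} : ∀ {T : List (ℕ × ℕ)}, look v l T = true → ∃ p ∈ T, p.1 = v ∧ p.2 + 3 = l
  | [], h => by exact absurd h (by simp [look])
  | p :: t, h => by
    unfold look at h
    rw [Bool.or_eq_true, Bool.and_eq_true] at h
    rcases h with ⟨h1, h2⟩ | h
    · exact ⟨p, List.mem_cons_self, Nat.beq_eq.mp h1, Nat.beq_eq.mp h2⟩
    · obtain ⟨q, hq, h1⟩ := look_spec h
      exact ⟨q, List.mem_cons_of_mem _ hq, h1⟩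

/-- the weight of a level -/
def W8 {m : ℕ} (a : ZMod m) : ℕ := 256 ^ a.val

section
variable {m : ℕ} [NeZero m]

theorem W8_sub (a b : ZMod m) : W8 (a - b) = pw m (Nat.add a.val (Nat.sub m b.val)) := by
  unfold W8 pw
  show 256 ^ _ = 256 ^ ((a.val + (m - b.val)) % m)
  congr 1
  rw [← ZMod.val_natCast, Nat.cast_add, Nat.cast_sub (ZMod.val_lt b).le]
  congr 1
  simp [sub_eq_add_neg]

theorem dd_eq (X Y : Fin 3 → ZMod m) : ∑ i, ∑ j, W8 (X i - Y j) =
    dd m (X 0).val (X 1).val (X 2).val (Y 0).val (Y 1).val (Y 2).val := by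
  simp only [Fin.sum_univ_three, W8_sub]
  rw [Nat.add_assoc]
  rfl

theorem pm_eq {s : ℕ} (hs : s < m) (x y z : ZMod m) :
    W8 (x + y + z - (s : ZMod m)) + W8 ((s : ZMod m) - (x + y + z)) =
      pm m s (Nat.add (Nat.add x.val y.val) z.val) := by
  unfold W8 pm pw
  show 256 ^ _ + 256 ^ _ = 256 ^ ((x.val + y.val + z.val + (m - s)) % m) +
    256 ^ ((s + 3 * m - (x.val + y.val + z.val)) % m)
  have hx := ZMod.val_lt x
  have hy := ZMod.val_lt y
  have hz := ZMod.val_lt z
  rw [← ZMod.val_natCast, ← ZMod.val_natCast]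
  congr 3
  · rw [Nat.cast_add, Nat.cast_sub hs.le]
    simp [sub_eq_add_neg]
  · rw [Nat.cast_sub (by omega)]
    simp

theorem ee_eq {s : ℕ} (hs : s < m) (x : ZMod m) (Y Z : Fin 3 → ZMod m) :
    ∑ j, ∑ k, (W8 (x + Y j + Z k - (s : ZMod m)) + W8 ((s : ZMod m) - (x + Y j + Z k))) =
      ee m s x.val (Y 0).val (Y 1).val (Y 2).val (Z 0).val (Z 1).val (Z 2).val := by
  simp only [Fin.sum_univ_three, pm_eq hs]
  rw [Nat.add_assoc]
  rfl

theorem sV_eq (X Y Z : Fin 3 → ZMod m) : sV W8 X Y Z =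
    nV m (X 0).val (X 1).val (X 2).val (Y 0).val (Y 1).val (Y 2).val (Z 0).val (Z 1).val (Z 2).val := by
  unfold sV
  rw [dd_eq, dd_eq, dd_eq]
  rfl

theorem sL_eq {s : ℕ} (hs : s < m) (X Y Z : Fin 3 → ZMod m) : sL W8 X Y Z (s : ZMod m) =
    nL m s (X 0).val (X 1).val (X 2).val (Y 0).val (Y 1).val (Y 2).val (Z 0).val (Z 1).val (Z 2).val := by
  unfold sL
  rw [dd_eq, dd_eq, dd_eq]
  have h : ∑ i, ∑ j, ∑ k, (W8 (X i + Y j + Z k - (s : ZMod m)) + W8 ((s : ZMod m) - (X i + Y j + Z k))) =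
      ∑ i, ee m s (X i).val (Y 0).val (Y 1).val (Y 2).val (Z 0).val (Z 1).val (Z 2).val :=
    Finset.sum_congr rfl fun i _ => ee_eq hs (X i) Y Z
  rw [h, Fin.sum_univ_three]
  rfl

/-- the sorted triple -/
theorem exists_sort (X : Fin 3 → ZMod m) : ∃ σ : Equiv.Perm (Fin 3), (X (σ 0)).val ≤ (X (σ 1)).val ∧
    (X (σ 1)).val ≤ (X (σ 2)).val := by
  have h := Tuple.monotone_sort (fun i => (X i).val)
  exact ⟨Tuple.sort (fun i => (X i).val), h (by decide : (0 : Fin 3) ≤ 1), h (by decide : (1 : Fin 3) ≤ 2)⟩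

theorem sum_mod (X : Fin 3 → ZMod m) {s : ℕ} (hs : s < m) (σ : Equiv.Perm (Fin 3))
    (h : X 0 + X 1 + X 2 = (s : ZMod m)) : ((X (σ 0)).val + (X (σ 1)).val + (X (σ 2)).val) % m = s := by
  rw [← ZMod.val_natCast, Nat.cast_add, Nat.cast_add]
  simp only [ZMod.natCast_val, ZMod.cast_id', id_eq]
  have h1 := Equiv.sum_comp σ X
  rw [Fin.sum_univ_three, Fin.sum_univ_three, h] at h1
  rw [h1, ZMod.val_natCast, Nat.mod_eq_of_lt hs]

theorem core_nat {s : ℕ} (hs : s < m) {T : List (ℕ × ℕ)} (hT : chk m s T = true) (X Y Z : Fin 3 → ZMod m)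
    (hX : X 0 + X 1 + X 2 = (s : ZMod m)) (hY : Y 0 + Y 1 + Y 2 = (s : ZMod m))
    (hZ : Z 0 + Z 1 + Z 2 = (s : ZMod m)) :
    ∃ p ∈ T, p.1 = sV W8 X Y Z ∧ p.2 + 3 = sL W8 X Y Z (s : ZMod m) := by
  obtain ⟨σ, hσ1, hσ2⟩ := exists_sort X
  obtain ⟨τ, hτ1, hτ2⟩ := exists_sort Y
  obtain ⟨υ, hυ1, hυ2⟩ := exists_sort Z
  rw [← sV_perm W8 X Y Z σ τ υ, ← sL_perm W8 X Y Z _ σ τ υ, sV_eq, sL_eq hs]
  have h1 := all3_spec (all3_spec (all3_spec hT hσ1 hσ2 (ZMod.val_lt _) (sum_mod X hs σ hX))
    hτ1 hτ2 (ZMod.val_lt _) (sum_mod Y hs τ hY)) hυ1 hυ2 (ZMod.val_lt _) (sum_mod Z hs υ hZ)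
  exact look_spec h1

/-- the sums for a function on the coordinates are in the table -/
theorem core_sum (hm : m = 2 ∨ m = 3 ∨ m = 4 ∨ m = 5 ∨ m = 7) {b : I27 → ZMod m}
    (hb : ∀ x y, rel x y = 2 → b x + b y + b (th x y) = 0) :
    ∃ p ∈ TT m, p.1 = ∑ x : I27, W8 (b x) ∧
      p.2 = ∑ r ∈ Finset.range 72, W8 (b (row r) - b (sr r (row r))) + 6 := by
  have hP := par_par hb
  have h1 : ∃ p ∈ TT m, p.1 = ∑ x : I27, W8 (b x) ∧
      p.2 + 3 = ∑ r ∈ Finset.range 72, W8 (b (row r) - b (sr r (row r))) + 9 * W8 (0 : ZMod m) := by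
    rw [sum_coord hb, sum_root hb]
    by_cases h3 : m = 3
    · subst h3
      have hs : ((par b 9).val : ZMod 3) = par b 9 := by simp
      have hlt := ZMod.val_lt (par b 9)
      have hc : chk 3 (par b 9).val T3 = true := by
        have : (par b 9).val = 0 ∨ (par b 9).val = 1 ∨ (par b 9).val = 2 := by omega
        rcases this with h | h | h
        · rw [h]; exact chk30
        · rw [h]; exact chk31
        · rw [h]; exact chk32
      have h2 := core_nat hlt hc (fun i => par b i.val) (fun i => par b (3 + i.val)) (fun i => par b (6 + i.val))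
        (by rw [hs]; exact hP.x) (by rw [hs]; exact hP.y) (by rw [hs]; exact hP.z)
      rw [hs] at h2
      exact h2
    · obtain ⟨t, ht⟩ : ∃ t : ZMod m, par b 9 + 3 * t = ((0 : ℕ) : ZMod m) := by
        have key : ∀ s : ZMod m, ∃ t : ZMod m, s + 3 * t = ((0 : ℕ) : ZMod m) := by
          rcases hm with rfl | rfl | rfl | rfl | rfl
          · decide
          · exact absurd rfl h3
          · decide
          · decide
          · decide
        exact key _
      have hc : chk m 0 (TT m) = true := by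
        rcases hm with rfl | rfl | rfl | rfl | rfl
        · exact chk2
        · exact absurd rfl h3
        · exact chk4
        · exact chk5
        · exact chk7
      rw [← sV_shift W8 _ _ _ t, ← sL_shift W8 _ _ _ _ t, ht]
      refine core_nat (Nat.pos_of_ne_zero (NeZero.ne m)) hc _ _ _ ?_ ?_ ?_
      · rw [← ht]
        have := hP.x
        show par b 0 + t + (par b 1 + t) + (par b 2 + t) = _
        linear_combination this
      · rw [← ht]
        have := hP.y
        show par b 3 + t + (par b 4 + t) + (par b 5 + t) = _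
        linear_combination this
      · rw [← ht]
        have := hP.z
        show par b 6 + t + (par b 7 + t) + (par b 8 + t) = _
        linear_combination this
  obtain ⟨p, hp, h2, h3⟩ := h1
  refine ⟨p, hp, h2, ?_⟩
  have h4 : W8 (0 : ZMod m) = 1 := by unfold W8; simp
  rw [h4] at h3
  omega

end

/-! ### digits -/

/-- the digit number `j` -/
def dg (n j : ℕ) : ℕ := n / 256 ^ j % 256

theorem dg_sum : ∀ (m : ℕ) (c : ℕ → ℕ), (∀ i < m, c i < 256) → ∀ j < m,
    dg (∑ i ∈ Finset.range m, c i * 256 ^ i) j = c j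
  | 0, _, _, j, hj => absurd hj (Nat.not_lt_zero j)
  | m + 1, c, hc, j, hj => by
    have h1 : ∑ i ∈ Finset.range (m + 1), c i * 256 ^ i =
        c 0 + 256 * ∑ i ∈ Finset.range m, c (i + 1) * 256 ^ i := by
      rw [Finset.sum_range_succ', Finset.mul_sum, pow_zero, mul_one, add_comm]
      congr 1
      refine Finset.sum_congr rfl fun i _ => ?_
      rw [pow_succ]; ring
    have h0 := hc 0 (Nat.succ_pos m)
    rw [h1]
    unfold dg
    cases j with
    | zero => rw [pow_zero, Nat.div_one, Nat.add_mul_mod_self_left, Nat.mod_eq_of_lt h0]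
    | succ j =>
      have h2 := dg_sum m (fun i => c (i + 1)) (fun i hi => hc (i + 1) (by omega)) j (by omega)
      unfold dg at h2
      rw [pow_succ', ← Nat.div_div_eq_div_mul, Nat.add_mul_div_left _ _ (by norm_num : 0 < 256),
        Nat.div_eq_of_lt h0, zero_add, h2]

/-- sum over the levels -/
theorem sum_levels {ι : Type*} {m : ℕ} [NeZero m] (s : Finset ι) (f : ι → ZMod m) :
    ∑ x ∈ s, W8 (f x) = ∑ i ∈ Finset.range m, (s.filter fun x => (f x).val = i).card * 256 ^ i := by
  rw [← Finset.sum_fiberwise_of_maps_to (s := s) (t := Finset.range m) (g := fun x => (f x).val)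
    (fun x _ => Finset.mem_range.2 (ZMod.val_lt _))]
  refine Finset.sum_congr rfl fun i _ => ?_
  rw [Finset.sum_congr rfl (g := fun _ => 256 ^ i), Finset.sum_const, smul_eq_mul]
  intro x hx
  unfold W8
  rw [(Finset.mem_filter.1 hx).2]

/-- **The numbers of the coordinates and roots with given level.** -/
theorem core {m : ℕ} (hm : m = 2 ∨ m = 3 ∨ m = 4 ∨ m = 5 ∨ m = 7) {b : I27 → ZMod m}
    (hb : ∀ x y, rel x y = 2 → b x + b y + b (th x y) = 0) :
    ∃ p ∈ TT m, ∀ j < m, ((Finset.univ : Finset I27).filter fun x => (b x).val = j).card = dg p.1 j ∧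
      (if j = 0 then 6 else 0) +
        ((Finset.univ : Finset (Fin 72)).filter fun r => (b (row r.val) - b (sr r.val (row r.val))).val = j).card =
        dg p.2 j := by
  have hm0 : NeZero m := ⟨by omega⟩
  obtain ⟨p, hp, h1, h2⟩ := core_sum hm hb
  refine ⟨p, hp, fun j hj => ⟨?_, ?_⟩⟩
  · rw [h1, sum_levels, dg_sum m _ _ j hj]
    intro i _
    refine lt_of_le_of_lt (Finset.card_filter_le _ _) ?_
    rw [Finset.card_univ]
    decide
  · have h3 : p.2 = ∑ i ∈ Finset.range m, ((if i = 0 then 6 else 0) +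
        ((Finset.univ : Finset (Fin 72)).filter fun r =>
          (b (row r.val) - b (sr r.val (row r.val))).val = i).card) * 256 ^ i := by
      rw [h2, Finset.sum_range fun r => W8 (b (row r) - b (sr r (row r))), sum_levels]
      simp only [add_mul, Finset.sum_add_distrib]
      rw [add_comm]
      congr 1
      rw [Finset.sum_eq_single 0]
      · simp
      · intro i _ hi; rw [if_neg hi, zero_mul]
      · intro h; exact absurd (Finset.mem_range.2 (Nat.pos_of_ne_zero hm0.out)) h
    rw [h3, dg_sum m _ _ j hj]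
    intro i _
    have h4 : ((Finset.univ : Finset (Fin 72)).filter fun r =>
          (b (row r.val) - b (sr r.val (row r.val))).val = i).card ≤ 72 :=
      (Finset.card_filter_le _ _).trans (by rw [Finset.card_univ, Fintype.card_fin])
    split_ifs <;> omega

end Cfsg.Agent.H944.E6T
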