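import Mathlib
import Cfsg.Agent.H944.TorAnyChev
import Cfsg.Agent.S1033
import Cfsg.Agent.S1034
import Cfsg.Agent.ChevalleyStructure.TorusRange

/-!
# Root values of the elements of order prime to `p` (helper944)

`D` one of the tabulated types of rank `l`, `F` a finite field of characteristic `p`, `x ∈ D.group F` with `x ^ N = 1`,
`N` prime to `p`. Over an algebraic closure `x` is conjugate to a diagonal element `t`, and `t` takes the value
`ζ ^ ⟨s, v⟩` on the root `s`, for a vector `v : Fin l → ZMod N`, `ζ` a primitive `N`-th root of unity.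
`exists_vals` : such a `v`, with

* `x ^ d = 1 ↔ d • v = 0`,
* the multiset of the values `⟨s, v⟩`, `s` running over the roots, is invariant under multiplication by `#F`, and by every
  `a` such that `x` is conjugate to `x ^ a`.
-/

set_option autoImplicit false
set_option linter.unusedSectionVars false

namespace Cfsg.Agent.H944.RootVals

open Cfsg.Agent.ChevalleyStructure.CoxeterGeom Cfsg.Agent.Tits.Roots
  Cfsg.Agent.Nodes.Reps Cfsg.Agent.Nodes.BNOf Cfsg.Agent.Nodes.RGDChev Cfsg.Agent.KFacts.RgdChevCoord
open Cfsg.Lie Cfsg.Agent.ChevalleyStructure Cfsg.Agent.ChevalleyStructure.Elts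
  Cfsg.Agent.ChevalleyStructure.RootVecTab
  Cfsg.Agent.ChevalleyStructure.CoxeterGeomTypes
  Cfsg.Agent.BpExc.TorAll Cfsg.Agent.BpExc.TorChev
open Cfsg.Agent.GpExc.Field (glMap emb coe_emb coe_glMap emb_injective)

universe u

variable {D : ChevalleyDatum} {l : ℕ} {M : CoxeterMatrix (Fin l)} (hp : IsType D l M)

/-! ### the diagonal form of the torus elements -/

include hp in
/-- a torus element as a diagonal matrix -/
theorem TT_diag {K : Type u} [Field K] {t : ↥(D.group K)} (ht : t ∈ TT D K) :
    ∃ c : Fin l → Kˣ, (((t : ↥(D.group K)) : GL D.Idx K) : Matrix D.Idx D.Idx K) =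
      Matrix.diagonal (Sum.elim (fun _ => (1 : K)) (fun s : Fin D.nroots =>
        ((∏ i, c i ^ (vec D l s i) : Kˣ) : K))) := by
  classical
  let S : Subgroup ↥(D.group K) :=
    { carrier := {t | ∃ c : Fin l → Kˣ, (((t : ↥(D.group K)) : GL D.Idx K) : Matrix D.Idx D.Idx K) =
        Matrix.diagonal (Sum.elim (fun _ => (1 : K)) (fun s : Fin D.nroots =>
          ((∏ i, c i ^ (vec D l s i) : Kˣ) : K)))}
      one_mem' := by
        refine ⟨1, ?_⟩
        rw [Subgroup.coe_one, Units.val_one]
        ext i j
        rcases i with i | i <;> rcases j with j | j <;>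
          simp [Matrix.diagonal_apply, Matrix.one_apply]
      mul_mem' := by
        rintro a b ⟨c, hc⟩ ⟨d, hd⟩
        refine ⟨c * d, ?_⟩
        rw [Subgroup.coe_mul, Units.val_mul, hc, hd, Matrix.diagonal_mul_diagonal]
        congr 1
        funext i
        rcases i with i | i
        · simp
        · simp only [Sum.elim_inr, Pi.mul_apply]
          rw [← Units.val_mul, ← Finset.prod_mul_distrib]
          congr 1
          refine Finset.prod_congr rfl fun j _ => ?_
          rw [mul_zpow]
      inv_mem' := by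
        rintro a ⟨c, hc⟩
        refine ⟨c⁻¹, ?_⟩
        have h1 : (((a : ↥(D.group K)) : GL D.Idx K) : Matrix D.Idx D.Idx K) *
            Matrix.diagonal (Sum.elim (fun _ => (1 : K)) (fun s : Fin D.nroots =>
              ((∏ i, (c⁻¹) i ^ (vec D l s i) : Kˣ) : K))) = 1 := by
          rw [hc, Matrix.diagonal_mul_diagonal, ← Matrix.diagonal_one]
          congr 1
          funext i
          rcases i with i | i
          · simp
          · simp only [Sum.elim_inr, Pi.inv_apply]
            rw [← Units.val_mul, ← Finset.prod_mul_distrib]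
            have : ∀ j ∈ (Finset.univ : Finset (Fin l)), c j ^ vec D l i j * (c j)⁻¹ ^ vec D l i j = 1 := by
              intro j _
              rw [inv_zpow, mul_inv_cancel]
            rw [Finset.prod_congr rfl this, Finset.prod_const_one, Units.val_one]
        rw [Subgroup.coe_inv, Matrix.coe_units_inv]
        exact Matrix.inv_eq_right_inv h1 }
  have h1 : TT D K ≤ S := by
    refine (TT_le hp).trans ?_
    rw [Subgroup.closure_le]
    rintro g ⟨j, a, ha, rfl⟩
    refine ⟨fun i => (Units.mk0 a ha) ^ (cartanOf D l j i), ?_⟩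
    have h2 : (((hc hp j a : ↥(D.group K)) : GL D.Idx K) : Matrix D.Idx D.Idx K) = D.hMat K (D.simple j) a := by
      show ((hG hp.inList (D.simple j) a : GL D.Idx K) : Matrix D.Idx D.Idx K) = _
      exact coe_hG hp.inList _ _
    rw [h2, Cfsg.Agent.S1033.result (F := K) D hp.inList j (lt_rank hp j) a ha]
    congr 1
    funext s
    rcases s with s | s
    · simp
    · simp only [Sum.elim_inr]
      rw [← pairing_vec hp j s.2]
      have h3 : ∀ (n : Fin l → ℤ) (S : Finset (Fin l)), ∏ i ∈ S, (Units.mk0 a ha) ^ (n i) =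
          (Units.mk0 a ha) ^ (∑ i ∈ S, n i) := by
        intro n S
        induction S using Finset.induction_on with
        | empty => simp
        | insert b S hb ih => rw [Finset.prod_insert hb, Finset.sum_insert hb, zpow_add, ih]
      have h4 : ∏ i, ((Units.mk0 a ha) ^ (cartanOf D l j i)) ^ (vec D l s i) =
          (Units.mk0 a ha) ^ (pairing (cartanOf D l) j (vec D l s)) := by
        have h5 : ∀ i ∈ (Finset.univ : Finset (Fin l)), ((Units.mk0 a ha) ^ (cartanOf D l j i)) ^ (vec D l s i) =
            (Units.mk0 a ha) ^ (cartanOf D l j i * vec D l s i) := fun i _ => (zpow_mul _ _ _).symm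
        rw [Finset.prod_congr rfl h5, h3]
        rfl
      rw [h4, Units.val_zpow_eq_zpow_val, Units.val_mk0]
  exact h1 ht

/-! ### multisets of diagonal entries -/

/-- conjugate diagonal matrices have the same entries -/
theorem diag_multiset {ι K : Type*} [Fintype ι] [DecidableEq ι] [Field K] {d e : ι → K}
    (h : (Matrix.diagonal d).charpoly = (Matrix.diagonal e).charpoly) :
    Finset.univ.val.map d = Finset.univ.val.map e := by
  rw [Matrix.charpoly_diagonal, Matrix.charpoly_diagonal] at h
  have h1 := congrArg Polynomial.roots h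
  have key : ∀ f : ι → K, (∏ i, (Polynomial.X - Polynomial.C (f i))).roots = Finset.univ.val.map f := by
    intro f
    have := Polynomial.roots_multiset_prod_X_sub_C (Finset.univ.val.map f)
    rw [Multiset.map_map] at this
    exact this
  rwa [key, key] at h1

/-- cancel the part of the Cartan subalgebra -/
theorem cancel_inl {α β K : Type*} [Fintype α] [Fintype β] [Field K] {f g : β → K}
    (h : (Finset.univ : Finset (α ⊕ β)).val.map (Sum.elim (fun _ => (1 : K)) f) =
      (Finset.univ : Finset (α ⊕ β)).val.map (Sum.elim (fun _ => (1 : K)) g)) :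
    (Finset.univ : Finset β).val.map f = (Finset.univ : Finset β).val.map g := by
  classical
  have key : ∀ f : β → K, (Finset.univ : Finset (α ⊕ β)).val.map (Sum.elim (fun _ => (1 : K)) f) =
      (Finset.univ : Finset α).val.map (fun _ => (1 : K)) + (Finset.univ : Finset β).val.map f := by
    intro f
    rw [← Finset.univ_disjSum_univ, Finset.val_disjSum, Multiset.disjSum, Multiset.map_add, Multiset.map_map,
      Multiset.map_map]
    rfl
  rw [key, key] at h
  exact add_left_cancel h

/-- The multiset of the root values of a vector. -/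
def ms (D : ChevalleyDatum) (l : ℕ) {R : Type*} [CommRing R] (v : Fin l → R) : Multiset R :=
  (Finset.univ : Finset (Fin D.nroots)).val.map fun s : Fin D.nroots => ∑ i, (vec D l s i : R) * v i

/-- The vector `v` describes the element `x` with `x ^ N = 1`. -/
structure Vals {F : Type*} [Field F] (x : ↥(D.group F)) (N : ℕ) (v : Fin l → ZMod N) : Prop where
  ord : ∀ d : ℕ, (∀ i, (d : ZMod N) * v i = 0) ↔ x ^ d = 1
  frob : ms D l v = (ms D l v).map (fun a => (Nat.card F : ZMod N) * a)
  conj : ∀ a : ℕ, (∃ g : ↥(D.group F), g * x * g⁻¹ = x ^ a) → ms D l v = (ms D l v).map (fun b => (a : ZMod N) * b)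

/-- every element of an algebraic closure of a finite field lies in a finite field -/
theorem hAlg_closure (p : ℕ) [Fact p.Prime] (F : Type u) [Field F] [Finite F] [CharP F p] :
    HAlg p (AlgebraicClosure F) := by
  intro a
  have hint : IsIntegral F a := (Algebra.IsAlgebraic.isAlgebraic a).isIntegral
  have hfd : FiniteDimensional F (IntermediateField.adjoin F {a}) := IntermediateField.adjoin.finiteDimensional hint
  have hfin : Finite (IntermediateField.adjoin F {a}) := Module.finite_of_finite F
  have : Fintype (IntermediateField.adjoin F {a}) := Fintype.ofFinite _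
  have hch : CharP (IntermediateField.adjoin F {a}) p := charP_of_injective_algebraMap
    (algebraMap F (IntermediateField.adjoin F {a})).injective p
  obtain ⟨⟨m, hm⟩, hp', hcard⟩ := FiniteField.card (IntermediateField.adjoin F {a}) p
  have h1 := FiniteField.pow_card (⟨a, IntermediateField.mem_adjoin_simple_self F a⟩ :
    IntermediateField.adjoin F {a})
  rw [hcard] at h1
  exact ⟨m, hm, congrArg Subtype.val h1⟩

include hp in
/-- **Root values of an element of order prime to `p`.** -/
theorem exists_vals (p : ℕ) [Fact p.Prime] {F : Type u} [Field F] [Finite F] [CharP F p] {x : ↥(D.group F)} {N : ℕ}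
    (hN0 : N ≠ 0) (hN : N.Coprime p) (hx : x ^ N = 1) : ∃ v : Fin l → ZMod N, Vals (l := l) x N v := by
  classical
  have : NeZero N := ⟨hN0⟩
  have : Fintype F := Fintype.ofFinite F
  set k := AlgebraicClosure F with hk
  have hkch : CharP k p := charP_of_injective_algebraMap (algebraMap F k).injective p
  have hk' : HAlg p k := hAlg_closure p F
  set f : F →+* k := algebraMap F k with hf
  set x' : ↥(D.group k) := emb hp.inList f x with hx'
  have hxN : x' ^ N = 1 := by rw [hx', ← map_pow, hx, map_one]
  obtain ⟨g, hg⟩ := Cfsg.Agent.H944.TorAnyChev.exists_conj_mem_TT hp p hk' hN0 hN hxN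
  set t := g * x' * g⁻¹ with ht
  obtain ⟨c, hc⟩ := TT_diag hp hg
  have htN : t ^ N = 1 := by rw [ht, conj_pow, hxN, mul_one, mul_inv_cancel]
  -- the powers of `t`
  have hpow : ∀ d : ℕ, (((t ^ d : ↥(D.group k)) : GL D.Idx k) : Matrix D.Idx D.Idx k) =
      Matrix.diagonal (Sum.elim (fun _ => (1 : k)) (fun s : Fin D.nroots =>
        ((∏ i, c i ^ (vec D l s i) : kˣ) : k) ^ d)) := by
    intro d
    rw [Subgroup.coe_pow, Units.val_pow_eq_pow_val, hc, Matrix.diagonal_pow]
    congr 1
    funext i
    rcases i with i | i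
    · simp
    · simp
  -- the value on the simple roots
  have hsimple : ∀ j : Fin l, ∃ s : Fin D.nroots, (∏ i, c i ^ (vec D l s i) : kˣ) = c j := by
    intro j
    have hlt := NPerm.simple_lt hp.inList (lt_rank hp j)
    refine ⟨⟨D.simple j, hlt⟩, ?_⟩
    show (∏ i, c i ^ (vec D l (D.simple j) i) : kˣ) = c j
    rw [vec_simple hp j, Finset.prod_eq_single j]
    · rw [sr_self, zpow_one]
    · intro i _ hij
      rw [sr_ne hij, zpow_zero]
    · intro h
      exact absurd (Finset.mem_univ j) h
  have hcN : ∀ d : ℕ, t ^ d = 1 ↔ ∀ j, c j ^ d = 1 := by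
    intro d
    constructor
    · intro h1 j
      obtain ⟨s, hs⟩ := hsimple j
      have h2 := hpow d
      rw [h1, Subgroup.coe_one, Units.val_one] at h2
      have h3 := congrFun (congrFun h2 (Sum.inr s)) (Sum.inr s)
      rw [Matrix.one_apply_eq, Matrix.diagonal_apply_eq, Sum.elim_inr, hs, ← Units.val_pow_eq_pow_val] at h3
      exact Units.ext h3.symm
    · intro h1
      apply Subtype.ext
      apply Units.ext
      rw [hpow, Subgroup.coe_one, Units.val_one, ← Matrix.diagonal_one]
      congr 1
      funext i
      rcases i with i | i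
      · rfl
      · rw [Sum.elim_inr, ← Units.val_pow_eq_pow_val, ← Finset.prod_pow]
        have : ∀ j ∈ (Finset.univ : Finset (Fin l)), (c j ^ vec D l i j) ^ d = 1 := by
          intro j _
          rw [← zpow_natCast, ← zpow_mul, mul_comm, zpow_mul, zpow_natCast, h1, one_zpow]
        rw [Finset.prod_congr rfl this, Finset.prod_const_one, Units.val_one]
  have hcN' : ∀ j, c j ^ N = 1 := (hcN N).1 htN
  -- a primitive root of unity
  have hNk : ((N : ℕ) : k) ≠ 0 := by
    intro h0
    have h1 : p ∣ N := (CharP.cast_eq_zero_iff k p N).1 h0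
    have h2 : p ∣ 1 := by
      rw [← hN]
      exact Nat.dvd_gcd h1 dvd_rfl
    exact (Fact.out : p.Prime).one_lt.ne' (Nat.dvd_one.1 h2)
  have : NeZero ((N : ℕ) : k) := ⟨hNk⟩
  obtain ⟨ζ, hζ⟩ : ∃ ζ : k, IsPrimitiveRoot ζ N := HasEnoughRootsOfUnity.exists_primitiveRoot k N
  have hζu : IsPrimitiveRoot (hζ.toRootsOfUnity : kˣ) N := by
    rw [IsPrimitiveRoot.coe_units_iff.symm]
    exact hζ
  set z : kˣ := (hζ.toRootsOfUnity : kˣ) with hz
  have hex : ∀ j, ∃ a : ℕ, z ^ a = c j := by
    intro j
    have h1 : ((c j : kˣ) : k) ^ N = 1 := by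
      rw [← Units.val_pow_eq_pow_val, hcN' j, Units.val_one]
    obtain ⟨a, -, ha⟩ := hζ.eq_pow_of_pow_eq_one h1
    refine ⟨a, Units.ext ?_⟩
    rw [Units.val_pow_eq_pow_val, ← ha]
    rfl
  choose a ha using hex
  let v : Fin l → ZMod N := fun j => (a j : ZMod N)
  -- the values
  let pw : ZMod N → k := fun b => ((z ^ b.val : kˣ) : k)
  have hzpow : ∀ m : ℤ, z ^ m = z ^ ((m : ZMod N).val) := by
    intro m
    rw [← zpow_natCast, ZMod.val_intCast]
    have h1 : z ^ (N : ℤ) = 1 := by rw [zpow_natCast]; exact hζu.pow_eq_one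
    conv_lhs => rw [← Int.emod_add_mul_ediv m N]
    rw [zpow_add, zpow_mul, h1, one_zpow, mul_one]
  have hpw_inj : Function.Injective pw := by
    intro b b' h
    have h1 : z ^ b.val = z ^ b'.val := Units.ext h
    exact ZMod.val_injective N (hζu.pow_inj (ZMod.val_lt b) (ZMod.val_lt b') h1)
  have hval : ∀ s : Fin D.nroots, ((∏ i, c i ^ (vec D l s i) : kˣ) : k) =
      pw (∑ i, (vec D l s i : ZMod N) * v i) := by
    intro s
    have h1 : ∏ i, c i ^ (vec D l s i) = z ^ (∑ i, vec D l s i * (a i : ℤ)) := by
      have h2 : ∀ S : Finset (Fin l), ∏ i ∈ S, c i ^ (vec D l s i) = z ^ (∑ i ∈ S, vec D l s i * (a i : ℤ)) := by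
        intro S
        induction S using Finset.induction_on with
        | empty => simp
        | insert b S hb ih =>
          rw [Finset.prod_insert hb, Finset.sum_insert hb, zpow_add, ih, ← ha b, mul_comm (vec D l s b), zpow_mul,
            zpow_natCast]
      exact h2 _
    rw [h1, hzpow]
    congr 3
    push_cast
    rfl
  have hpwmul : ∀ (m : ℕ) (b : ZMod N), pw b ^ m = pw ((m : ZMod N) * b) := by
    intro m b
    show (((z ^ b.val : kˣ) : k)) ^ m = ((z ^ ((m : ZMod N) * b).val : kˣ) : k)
    rw [← Units.val_pow_eq_pow_val, ← pow_mul]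
    congr 1
    have h1 := hzpow ((b.val * m : ℕ) : ℤ)
    rw [zpow_natCast] at h1
    rw [h1]
    congr 2
    push_cast
    rw [ZMod.natCast_zmod_val, mul_comm]
  -- multisets
  have hms : ∀ m : ℕ, (Finset.univ : Finset (Fin D.nroots)).val.map
      (fun s : Fin D.nroots => ((∏ i, c i ^ (vec D l s i) : kˣ) : k) ^ m) = ((ms D l v).map (fun b => (m : ZMod N) * b)).map pw := by
    intro m
    unfold ms
    rw [Multiset.map_map, Multiset.map_map]
    refine Multiset.map_congr rfl fun s _ => ?_
    simp only [Function.comp_apply]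
    rw [hval, hpwmul]
  have hms1 : (Finset.univ : Finset (Fin D.nroots)).val.map
      (fun s : Fin D.nroots => ((∏ i, c i ^ (vec D l s i) : kˣ) : k)) = (ms D l v).map pw := by
    unfold ms
    rw [Multiset.map_map]
    refine Multiset.map_congr rfl fun s _ => ?_
    exact hval s
  -- the characteristic polynomial of `t`
  have hchart : ∀ d : ℕ, (((t ^ d : ↥(D.group k)) : GL D.Idx k) : Matrix D.Idx D.Idx k).charpoly =
      ((((x ^ d : ↥(D.group F)) : GL D.Idx F) : Matrix D.Idx D.Idx F).charpoly).map f := by
    intro d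
    have h1 : t ^ d = g * x' ^ d * g⁻¹ := by rw [ht, conj_pow]
    rw [h1, Subgroup.coe_mul, Subgroup.coe_mul, Subgroup.coe_inv, Units.val_mul, Units.val_mul,
      Matrix.coe_units_inv]
    have h2 := Matrix.charpoly_units_conj ((g : GL D.Idx k)) (((x' ^ d : ↥(D.group k)) : GL D.Idx k) : Matrix D.Idx D.Idx k)
    rw [h2, ← Matrix.charpoly_map]
    congr 1
    rw [hx', ← map_pow, coe_emb, coe_glMap]
  refine ⟨v, ⟨?_, ?_, ?_⟩⟩
  · intro d
    have h1 : x ^ d = 1 ↔ t ^ d = 1 := by
      have h2 : t ^ d = g * x' ^ d * g⁻¹ := by rw [ht, conj_pow]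
      rw [h2, conj_eq_one_iff, hx', ← map_pow]
      constructor
      · intro h; rw [h, map_one]
      · intro h
        exact emb_injective hp.inList f (by rw [h, map_one])
    rw [h1, hcN]
    refine forall_congr' fun j => ?_
    have h3 : c j ^ d = z ^ (((d : ZMod N) * v j).val) := by
      rw [← ha j, ← pow_mul]
      have h4 := hzpow ((a j * d : ℕ) : ℤ)
      rw [zpow_natCast] at h4
      rw [h4]
      congr 2
      show (((a j * d : ℕ) : ℤ) : ZMod N) = (d : ZMod N) * (a j : ZMod N)
      push_cast
      rw [mul_comm]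
    rw [h3]
    constructor
    · intro h; rw [h, ZMod.val_zero, pow_zero]
    · intro h
      have h5 : z ^ (((d : ZMod N) * v j).val) = z ^ (0 : ZMod N).val := by rw [h, ZMod.val_zero, pow_zero]
      have h6 := hζu.pow_inj (ZMod.val_lt _) (ZMod.val_lt _) h5
      exact ZMod.val_injective N h6
  · -- Frobenius
    have hq : Nat.card F = Fintype.card F := Nat.card_eq_fintype_card
    obtain ⟨⟨m, hm⟩, hp', hcard⟩ := FiniteField.card F p
    simp only [PNat.mk_coe] at hcard
    let φ : k →+* k := iterateFrobenius k p m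
    have hφf : ∀ b : F, φ (f b) = f b := by
      intro b
      show iterateFrobenius k p m (f b) = f b
      rw [iterateFrobenius_def, ← map_pow, ← hcard, FiniteField.pow_card]
    have h1 := hchart 1
    rw [pow_one, pow_one] at h1
    have h2 : ((((t : ↥(D.group k)) : GL D.Idx k) : Matrix D.Idx D.Idx k).map φ).charpoly =
        (((t : ↥(D.group k)) : GL D.Idx k) : Matrix D.Idx D.Idx k).charpoly := by
      rw [Matrix.charpoly_map, h1, Polynomial.map_map]
      congr 1
      ext b
      exact hφf b
    rw [hc, Matrix.diagonal_map (map_zero φ)] at h2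
    have h3 := diag_multiset h2
    have h4 : (φ ∘ Sum.elim (fun _ : Fin D.rank => (1 : k)) (fun s : Fin D.nroots => ((∏ i, c i ^ (vec D l s i) : kˣ) : k))) =
        Sum.elim (fun _ : Fin D.rank => (1 : k)) (fun s : Fin D.nroots => ((∏ i, c i ^ (vec D l s i) : kˣ) : k) ^ (Nat.card F)) := by
      funext i
      rcases i with i | i
      · simp
      · simp only [Function.comp_apply, Sum.elim_inr]
        show iterateFrobenius k p m _ = _
        rw [iterateFrobenius_def, hq, hcard]
    have h3' : (Finset.univ : Finset (Fin D.rank ⊕ Fin D.nroots)).val.map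
        (φ ∘ Sum.elim (fun _ => (1 : k)) (fun s : Fin D.nroots => ((∏ i, c i ^ (vec D l s i) : kˣ) : k))) =
        (Finset.univ : Finset (Fin D.rank ⊕ Fin D.nroots)).val.map
        (Sum.elim (fun _ => (1 : k)) (fun s : Fin D.nroots => ((∏ i, c i ^ (vec D l s i) : kˣ) : k))) := h3
    rw [h4] at h3'
    have h5 := cancel_inl h3'
    rw [hms1, hms] at h5
    exact (Multiset.map_injective hpw_inj h5).symm
  · -- conjugation
    rintro b ⟨g', hg'⟩
    have h1 := hchart 1
    rw [pow_one, pow_one] at h1
    have h2 : (((t ^ b : ↥(D.group k)) : GL D.Idx k) : Matrix D.Idx D.Idx k).charpoly =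
        (((t : ↥(D.group k)) : GL D.Idx k) : Matrix D.Idx D.Idx k).charpoly := by
      rw [hchart, h1, ← hg', Subgroup.coe_mul, Subgroup.coe_mul, Subgroup.coe_inv, Units.val_mul, Units.val_mul,
        Matrix.coe_units_inv, Matrix.charpoly_units_conj]
    rw [hpow, hc] at h2
    have h3 := cancel_inl (diag_multiset h2)
    rw [hms1, hms] at h3
    exact (Multiset.map_injective hpw_inj h3).symm

end Cfsg.Agent.H944.RootVals
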