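import Mathlib
import Cfsg.Agent.H163.E6.Defs
import Cfsg.Agent.H944.RootVals
import Cfsg.Agent.H944.E6Lev
import Cfsg.Agent.H952.F4.Chg

/-!
# Class tables of the elements of order 2, 3, 4, 5, 7 of `E₆` (helper944)

* `exists_diag` : `x ∈ Zgrp K` (`K` algebraically closed) of order prime to `p` is conjugate to a diagonal element
  `diag d`; its image in the adjoint group is diagonal with the entries `1` and `d (row r) / d (sr r (row r))`; and
  `d x d y d (x ∘ y) = 1` for the 45 triads;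
* `exists_mult` : the joint multiplicities of the eigenvalues on `V` and `L` are in the table `TT m`;
* `tab_of`, `tab_descend`, `Tor.tab_closed`, `Tor.tab` : the structure `Tab` of `H163/E6/Defs.lean`.
-/

set_option autoImplicit false

namespace Cfsg.Agent.H944.E6T

open Cfsg.Lie Module
open scoped Matrix
open Cfsg.Agent.ChevalleyStructure Cfsg.Agent.ChevalleyStructure.Elts Cfsg.Agent.ChevalleyStructure.RootVecTab
open Cfsg.Agent.ChevalleyStructure.E6Min.Tables Cfsg.Agent.ChevalleyStructure.E6Min.Basic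
  Cfsg.Agent.ChevalleyStructure.E6Min.Checks Cfsg.Agent.ChevalleyStructure.E6Min.Checks2
  Cfsg.Agent.ChevalleyStructure.E6Min.Adjoint Cfsg.Agent.ChevalleyStructure.E6Min.Forms
  Cfsg.Agent.ChevalleyStructure.E6Min.Elim Cfsg.Agent.ChevalleyStructure.E6Min.Inv
open Cfsg.Agent.BpExc.TorAll Cfsg.Agent.BpExc.TorChev
open Cfsg.Agent.Tits.Roots Cfsg.Agent.Nodes.BNOf Cfsg.Agent.Nodes.RGDChev Cfsg.Agent.KFacts.RgdChevCoord
open Cfsg.Agent.ChevalleyStructure.CoxeterGeom Cfsg.Agent.ChevalleyStructure.CoxeterGeomTypes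

universe u

theorem typeE6 : IsType chevE6 6 CoxeterMatrix.E₆ := by simp [IsType, typeList]

theorem inE6 : InList chevE6 := by simp [InList]

/-- two coordinates are separated by the support of some `N_r` -/
theorem sep_all : allLt 27 (fun i => allLt 27 fun j => (i == j) ||
    !(allLt 72 fun r => (sgN r i == 0) || !(sgN r j == 0))) = true := by decide +kernel

theorem exists_of_not_allLt {n : ℕ} {p : ℕ → Bool} (h : allLt n p = false) : ∃ k < n, p k = false := by
  by_contra hne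
  push Not at hne
  rw [allLt_intro (fun k hk => Bool.of_not_eq_false (hne k hk))] at h
  exact Bool.noConfusion h

theorem sep {x y : I27} (h : x ≠ y) : ∃ r < 72, sg r x ≠ 0 ∧ sg r y = 0 := by
  have h1 := allLt_spec (allLt_spec sep_all _ (code_lt x)) _ (code_lt y)
  simp only [Bool.or_eq_true, beq_iff_eq, Bool.not_eq_true'] at h1
  rcases h1 with h1 | h1
  · exact absurd (code_injective h1) h
  · obtain ⟨r, hr, h2⟩ := exists_of_not_allLt h1
    simp only [Bool.or_eq_false_iff, beq_eq_false_iff_ne, Bool.not_eq_false', beq_iff_eq] at h2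
    exact ⟨r, hr, h2.1, h2.2⟩

section
variable {K : Type u} [Field K]

/-- the combination with one coefficient -/
theorem comb_single (r : Fin chevE6.nroots) (a : K) :
    comb (fun row => if row = Sum.inr r then a else 0) = a • Nm K r.val := by
  rw [comb_def, Finset.sum_eq_single (Sum.inr r)]
  · rw [if_pos rfl]; rfl
  · intro u _ hu; rw [if_neg hu, zero_smul]
  · intro h; exact absurd (Finset.mem_univ _) h

theorem Nm_ne_zero {r : ℕ} (hr : r < 72) : Nm K r ≠ 0 := by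
  intro h
  have h1 := congrFun (congrFun h (row r)) (sr r (row r))
  rw [Nm_apply, if_pos rfl, Matrix.zero_apply] at h1
  have h2 := sg_sq r (row r) (row_spec hr).1
  have h3 : ((sg r (row r) : ℤ) : K) * ((sg r (row r) : ℤ) : K) = 1 := by
    rw [← Int.cast_mul, h2, Int.cast_one]
  rw [h1, zero_mul] at h3
  exact zero_ne_one h3

theorem sg_cast_ne_zero {r : ℕ} {x : I27} (h : sg r x ≠ 0) : ((sg r x : ℤ) : K) ≠ 0 := by
  intro h1
  have h2 := sg_sq r x h
  have h3 : ((sg r x : ℤ) : K) * ((sg r x : ℤ) : K) = 1 := by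
    rw [← Int.cast_mul, h2, Int.cast_one]
  rw [h1, zero_mul] at h3
  exact zero_ne_one h3

/-- if the image in the adjoint group is diagonal, the element itself is diagonal -/
theorem diag_of_ad {t : ↥(Zgrp K)} {e : Fin chevE6.nroots → K}
    (ht : (((ad K t : ↥(chevE6.group K)) : GL chevE6.Idx K) : Matrix chevE6.Idx chevE6.Idx K) =
      Matrix.diagonal (Sum.elim (fun _ => (1 : K)) e)) :
    ∃ d : I27 → Kˣ, ((t : GL I27 K) : Matrix I27 I27 K) = Matrix.diagonal (fun x => (d x : K)) ∧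
      (∀ r : Fin chevE6.nroots, e r = (d (row r.val) : K) * ((d (sr r.val (row r.val)))⁻¹ : Kˣ)) := by
  classical
  set T : Matrix I27 I27 K := ((t : GL I27 K) : Matrix I27 I27 K) with hT
  have h1 : ∀ r : Fin chevE6.nroots, T * Nm K r.val = e r • (Nm K r.val * T) := by
    intro r
    have h2 := ad_P t (Sum.inr r)
    rw [ht] at h2
    have h3 : (fun row => (Matrix.diagonal (Sum.elim (fun _ : Fin chevE6.rank => (1 : K)) e) : Matrix chevE6.Idx
        chevE6.Idx K) row (Sum.inr r)) = fun row => if row = Sum.inr r then e r else 0 := by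
      funext row
      rw [Matrix.diagonal_apply]
      by_cases h : row = Sum.inr r
      · rw [if_pos h, if_pos h, h, Sum.elim_inr]
      · rw [if_neg h, if_neg h]
    rw [h3, comb_single, smul_mul_assoc] at h2
    exact h2
  have hTi : T * ((((t : GL I27 K)⁻¹ : GL I27 K)) : Matrix I27 I27 K) = 1 := by
    rw [hT, ← Units.val_mul, mul_inv_cancel, Units.val_one]
  have hNT : ∀ r : Fin chevE6.nroots, Nm K r.val * T ≠ 0 := by
    intro r h
    have h2 : Nm K r.val * (T * ((((t : GL I27 K)⁻¹ : GL I27 K)) : Matrix I27 I27 K)) = 0 := by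
      rw [← mul_assoc, h, zero_mul]
    rw [hTi, mul_one] at h2
    exact Nm_ne_zero (lt72 r) h2
  have hTN : ∀ r : Fin chevE6.nroots, T * Nm K r.val ≠ 0 := by
    intro r h
    have h2 : ((((t : GL I27 K)⁻¹ : GL I27 K)) : Matrix I27 I27 K) * (T * Nm K r.val) = 0 := by
      rw [h, mul_zero]
    rw [← mul_assoc, hT, ← Units.val_mul, inv_mul_cancel, Units.val_one, one_mul] at h2
    exact Nm_ne_zero (lt72 r) h2
  have he0 : ∀ r : Fin chevE6.nroots, e r ≠ 0 := by
    intro r h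
    exact hTN r (by rw [h1 r, h, zero_smul])
  -- opposite roots
  have hopp : ∀ r s : Fin chevE6.nroots, s.val = 71 - r.val → e r * e s = 1 := by
    intro r s hs
    have h2 : T * (Nm K r.val * Nm K s.val * Nm K r.val) =
        (e r * e s * e r) • (Nm K r.val * Nm K s.val * Nm K r.val * T) := by
      calc T * (Nm K r.val * Nm K s.val * Nm K r.val) = (T * Nm K r.val) * Nm K s.val * Nm K r.val := by
            simp only [mul_assoc]
        _ = e r • (Nm K r.val * (T * Nm K s.val) * Nm K r.val) := by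
            rw [h1 r, smul_mul_assoc, smul_mul_assoc, mul_assoc (Nm K r.val) T]
        _ = e r • e s • (Nm K r.val * Nm K s.val * (T * Nm K r.val)) := by
            rw [h1 s, mul_smul_comm, smul_mul_assoc, ← mul_assoc (Nm K r.val), mul_assoc _ T]
        _ = e r • e s • e r • (Nm K r.val * Nm K s.val * Nm K r.val * T) := by
            rw [h1 r, mul_smul_comm, ← mul_assoc]
        _ = _ := by rw [smul_smul, smul_smul, mul_assoc]
    rw [hs, Nm_mul_opp_mul (lt72 r), h1 r] at h2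
    have h3 := smul_left_injective K (hNT r) h2
    have h4 : e r * (e r * e s) = e r * 1 := by linear_combination -h3
    exact mul_left_cancel₀ (he0 r) h4
  -- `T` commutes with the diagonal matrices `N_r N_{-r}`
  have hcomm : ∀ (r : ℕ), r < 72 → ∀ x y, T x y * ((ind r y : ℤ) : K) = ((ind r x : ℤ) : K) * T x y := by
    intro r hr x y
    have hs : 71 - r < 72 := by omega
    have h2 : T * (Nm K r * Nm K (71 - r)) = (Nm K r * Nm K (71 - r)) * T := by
      calc T * (Nm K r * Nm K (71 - r)) = (T * Nm K r) * Nm K (71 - r) := (mul_assoc _ _ _).symm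
        _ = e ⟨r, hr⟩ • (Nm K r * (T * Nm K (71 - r))) := by
            rw [h1 ⟨r, hr⟩, smul_mul_assoc, mul_assoc]
        _ = e ⟨r, hr⟩ • e ⟨71 - r, hs⟩ • (Nm K r * (Nm K (71 - r) * T)) := by
            rw [h1 ⟨71 - r, hs⟩, mul_smul_comm]
        _ = (Nm K r * Nm K (71 - r)) * T := by
            rw [smul_smul, hopp ⟨r, hr⟩ ⟨71 - r, hs⟩ rfl, one_smul, mul_assoc]
    rw [Nm_mul_opp hr] at h2
    have h3 := congrFun (congrFun h2 x) y
    rwa [Matrix.mul_diagonal, Matrix.diagonal_mul] at h3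
  have hoff : ∀ x y, x ≠ y → T x y = 0 := by
    intro x y hxy
    obtain ⟨r, hr, h2, h3⟩ := sep hxy
    have h4 := hcomm r hr x y
    rw [ind_of_ne h2, ind_of_eq h3, Int.cast_zero, Int.cast_one, mul_zero, one_mul] at h4
    exact h4.symm
  have hTd : T = Matrix.diagonal (fun x => T x x) := by
    ext x y
    rw [Matrix.diagonal_apply]
    split_ifs with h
    · rw [h]
    · exact hoff x y h
  have hne : ∀ x, T x x ≠ 0 := by
    intro x h
    have h2 := congrFun (congrFun hTi x) x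
    rw [hTd, Matrix.diagonal_mul, h, zero_mul, Matrix.one_apply_eq] at h2
    exact zero_ne_one h2
  refine ⟨fun x => Units.mk0 (T x x) (hne x), ?_, ?_⟩
  · exact hTd
  · intro r
    have h2 := congrFun (congrFun (h1 r) (row r.val)) (sr r.val (row r.val))
    rw [hTd, Matrix.diagonal_mul, Matrix.smul_apply, Matrix.mul_diagonal, Nm_apply, if_pos rfl, smul_eq_mul] at h2
    have h3 : ((sg r.val (row r.val) : ℤ) : K) ≠ 0 := sg_cast_ne_zero (row_spec (lt72 r)).1
    rw [Units.val_inv_eq_inv_val, Units.val_mk0, Units.val_mk0, eq_mul_inv_iff_mul_eq₀ (hne _)]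
    apply mul_right_cancel₀ h3
    linear_combination -h2

/-- relations of the entries on the triads -/
theorem diag_triad {t : ↥(Zgrp K)} {d : I27 → Kˣ}
    (hd : ((t : GL I27 K) : Matrix I27 I27 K) = Matrix.diagonal (fun x => (d x : K))) {m k : I27} (h : rel m k = 2) :
    d m * d k * d (th m k) = 1 := by
  have h1 : ∀ x, ((t : GL I27 K) : Matrix I27 I27 K) *ᵥ E6Min.Forms.e K x = (d x : K) • E6Min.Forms.e K x := by
    intro x
    rw [hd]
    ext y
    rw [Matrix.mulVec_diagonal, Pi.smul_apply, smul_eq_mul, e_apply]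
    by_cases h : y = x
    · rw [h]
    · rw [if_neg h, mul_zero, mul_zero]
  have h2 := E6Min.Torus.diag_rel (Zgrp_le K t.2) h1 h
  exact Units.ext (by rw [Units.val_mul, Units.val_mul, h2, Units.val_one])

variable [IsAlgClosed K]

/-- **Diagonal form of the elements of order prime to `p`.** -/
theorem exists_diag (p : ℕ) [Fact p.Prime] [CharP K p] (hK : HAlg p K) {m : ℕ} (hm0 : m ≠ 0) (hm : m.Coprime p)
    {x : ↥(Zgrp K)} (hx : x ^ m = 1) :
    ∃ (g : ↥(Zgrp K)) (d : I27 → Kˣ),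
      ((((g * x * g⁻¹ : ↥(Zgrp K)) : GL I27 K)) : Matrix I27 I27 K) = Matrix.diagonal (fun x => (d x : K)) ∧
      (((ad K (g * x * g⁻¹) : ↥(chevE6.group K)) : GL chevE6.Idx K) : Matrix chevE6.Idx chevE6.Idx K) =
        Matrix.diagonal (Sum.elim (fun _ => (1 : K))
          (fun r : Fin chevE6.nroots => (((d (row r.val) * (d (sr r.val (row r.val)))⁻¹ : Kˣ)) : K))) ∧
      (∀ i, d i ^ m = 1) ∧
      (∀ m k, rel m k = 2 → d m * d k * d (th m k) = 1) := by
  obtain ⟨g', hg'⟩ := Cfsg.Agent.H944.TorAnyChev.exists_conj_mem_TT typeE6 p hK hm0 hm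
    (show (ad K x) ^ m = 1 by rw [← map_pow, hx, map_one])
  obtain ⟨g, rfl⟩ := ad_surjective (F := K) g'
  obtain ⟨c, hc⟩ := Cfsg.Agent.H944.RootVals.TT_diag typeE6 hg'
  have h1 : ad K g * ad K x * (ad K g)⁻¹ = ad K (g * x * g⁻¹) := by rw [map_mul, map_mul, map_inv]
  rw [h1] at hc
  obtain ⟨d, hd, he⟩ := diag_of_ad hc
  refine ⟨g, d, hd, ?_, ?_, fun m k h => diag_triad hd h⟩
  · rw [hc]
    congr 1
    funext i
    rcases i with i | i
    · rfl
    · rw [Sum.elim_inr, Sum.elim_inr, he i, Units.val_mul]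
  · intro i
    have h2 : (g * x * g⁻¹) ^ m = 1 := by rw [conj_pow, hx, mul_one, mul_inv_cancel]
    have h3 := congrArg (fun y : ↥(Zgrp K) => (((y : GL I27 K)) : Matrix I27 I27 K)) h2
    simp only [Subgroup.coe_pow, Units.val_pow_eq_pow_val, Subgroup.coe_one, Units.val_one] at h3
    rw [hd, Matrix.diagonal_pow] at h3
    have h4 := congrFun (congrFun h3 i) i
    rw [Matrix.diagonal_apply_eq, Matrix.one_apply_eq] at h4
    exact Units.ext (by rw [Units.val_pow_eq_pow_val, Units.val_one]; exact h4)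

end

end Cfsg.Agent.H944.E6T

namespace Cfsg.Agent.H944.E6T


open Cfsg Cfsg.Lie Module
open Cfsg.Agent.ChevalleyStructure Cfsg.Agent.ChevalleyStructure.Elts
open Cfsg.Agent.ChevalleyStructure.E6Min.Tables Cfsg.Agent.ChevalleyStructure.E6Min.Basic
  Cfsg.Agent.ChevalleyStructure.E6Min.Adjoint Cfsg.Agent.ChevalleyStructure.E6Min.Forms
open Cfsg.Agent.H952.F4 (ev es matRep)
open Cfsg.Agent.H163.E6 (V L)
open Cfsg.Agent.BpExc.TorAll

universe u

/-! ### linear algebra -/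

theorem ev_diag {K ι : Type*} [Field K] [Fintype ι] [DecidableEq ι] [DecidableEq K] (d : ι → K) (μ : K)
    {T : Module.End K (ι → K)} (hT : T = Matrix.toLin' (Matrix.diagonal d)) :
    ev T μ = (Finset.univ.filter fun i => d i = μ).card := by
  subst hT
  unfold ev
  have h1 : Module.End.eigenspace (Matrix.toLin' (Matrix.diagonal d)) μ =
      LinearMap.ker (Matrix.toLin' (Matrix.diagonal fun i => d i - μ)) := by
    rw [Module.End.eigenspace_def]
    congr 1
    refine LinearMap.ext fun v => funext fun i => ?_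
    rw [LinearMap.sub_apply, Pi.sub_apply, Matrix.toLin'_apply, Matrix.toLin'_apply, Matrix.mulVec_diagonal,
      Matrix.mulVec_diagonal, sub_mul]
    rfl
  rw [h1]
  have h2 := LinearMap.finrank_range_add_finrank_ker (Matrix.toLin' (Matrix.diagonal fun i => d i - μ))
  have h3 : finrank K ↥(LinearMap.range (Matrix.toLin' (Matrix.diagonal fun i => d i - μ))) =
      Fintype.card {i // d i - μ ≠ 0} := by
    have := Matrix.rank_diagonal (fun i => d i - μ)
    rw [Matrix.rank, ← Matrix.toLin'_apply'] at this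
    exact this
  rw [h3, Module.finrank_fintype_fun_eq_card] at h2
  have h4 : Fintype.card {i // d i - μ ≠ 0} = (Finset.univ.filter fun i => ¬ d i = μ).card := by
    rw [Fintype.card_subtype]
    congr 1
    ext i
    simp [sub_eq_zero]
  have h5 := Finset.card_filter_add_card_filter_not (s := (Finset.univ : Finset ι)) (fun i => d i = μ)
  rw [Finset.card_univ] at h5
  omega

theorem trace_diag {K ι : Type*} [Field K] [Fintype ι] [DecidableEq ι] (d : ι → K)
    {T : Module.End K (ι → K)} (hT : T = Matrix.toLin' (Matrix.diagonal d)) :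
    LinearMap.trace K (ι → K) T = ∑ i, d i := by
  rw [hT, Matrix.trace_toLin'_eq, Matrix.trace_diagonal]

section conj

variable {K M G : Type*} [Field K] [AddCommGroup M] [Module K M] [Group G]

theorem ev_conj (ρ : Representation K G M) (g x : G) (μ : K) : ev (ρ (g * x * g⁻¹)) μ = ev (ρ x) μ := by
  unfold ev
  let e : M ≃ₗ[K] M := LinearEquiv.ofLinearMap (ρ g) (ρ g⁻¹)
    (by rw [← Module.End.mul_eq_comp, ← map_mul, mul_inv_cancel, map_one]; rfl)
    (by rw [← Module.End.mul_eq_comp, ← map_mul, inv_mul_cancel, map_one]; rfl)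
  have h1 : Module.End.eigenspace (ρ (g * x * g⁻¹)) μ = (Module.End.eigenspace (ρ x) μ).map (e : M →ₗ[K] M) := by
    ext v
    rw [Submodule.mem_map, Module.End.mem_eigenspace_iff]
    constructor
    · intro h
      refine ⟨ρ g⁻¹ v, ?_, ?_⟩
      · rw [Module.End.mem_eigenspace_iff]
        have h2 : ρ x (ρ g⁻¹ v) = ρ g⁻¹ (ρ (g * x * g⁻¹) v) := by
          rw [← Module.End.mul_apply, ← Module.End.mul_apply, ← map_mul, ← map_mul]
          congr 2
          group
        rw [h2, h, map_smul]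
      · show ρ g (ρ g⁻¹ v) = v
        rw [← Module.End.mul_apply, ← map_mul, mul_inv_cancel, map_one]
        rfl
    · rintro ⟨w, hw, rfl⟩
      rw [Module.End.mem_eigenspace_iff] at hw
      show ρ (g * x * g⁻¹) (ρ g w) = μ • ρ g w
      have h2 : ρ (g * x * g⁻¹) (ρ g w) = ρ g (ρ x w) := by
        rw [← Module.End.mul_apply, ← Module.End.mul_apply, ← map_mul, ← map_mul]
        congr 2
        group
      rw [h2, hw, map_smul]
  rw [h1]
  exact LinearEquiv.finrank_map_eq e _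

theorem trace_conj (ρ : Representation K G M) (g x : G) :
    LinearMap.trace K M (ρ (g * x * g⁻¹)) = LinearMap.trace K M (ρ x) := by
  rw [map_mul ρ, map_mul ρ, mul_assoc, LinearMap.trace_mul_comm, mul_assoc, ← map_mul ρ, inv_mul_cancel, map_one,
    mul_one]

end conj

/-- sum over the fibres -/
theorem sum_fib {K ι : Type*} [Field K] [DecidableEq K] [Fintype ι] {ζ : K} {m : ℕ} (hζ : IsPrimitiveRoot ζ m)
    (hm : m ≠ 0) (d : ι → K) (hd : ∀ i, d i ^ m = 1) :
    ∑ i, d i = ∑ j ∈ Finset.range m, ((Finset.univ.filter fun i => d i = ζ ^ j).card : K) * ζ ^ j := by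
  have : NeZero m := ⟨hm⟩
  have h1 : ∀ i, ∃ j < m, ζ ^ j = d i := fun i => by
    obtain ⟨j, hj, h⟩ := hζ.eq_pow_of_pow_eq_one (hd i)
    exact ⟨j, hj, h⟩
  choose e he1 he2 using h1
  have h2 : ∀ i j, j < m → (d i = ζ ^ j ↔ e i = j) := by
    intro i j hj
    rw [← he2 i]
    constructor
    · intro h
      exact hζ.pow_inj (he1 i) hj h
    · rintro rfl
      rfl
  rw [← Finset.sum_fiberwise_of_maps_to (s := Finset.univ) (t := Finset.range m) (g := e)
    (fun i _ => Finset.mem_range.2 (he1 i)) d]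
  refine Finset.sum_congr rfl fun j hj => ?_
  have h3 : (Finset.univ.filter fun i => d i = ζ ^ j) = Finset.univ.filter fun i => e i = j := by
    ext i
    simp only [Finset.mem_filter, Finset.mem_univ, true_and]
    exact h2 i j (Finset.mem_range.1 hj)
  rw [h3, Finset.sum_congr rfl (g := fun _ => ζ ^ j), Finset.sum_const, nsmul_eq_mul]
  intro i hi
  rw [← (Finset.mem_filter.1 hi).2]
  exact (he2 i).symm

/-- powers of roots of unity -/
theorem pow_eq_pow_iff_of_coprime {K : Type*} [Field K] {m k : ℕ} (hk : k.Coprime m) {d e : K} (hd : d ^ m = 1)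
    (he : e ^ m = 1) (hm : m ≠ 0) : d ^ k = e ^ k ↔ d = e := by
  constructor
  · intro h
    have he0 : e ≠ 0 := by
      rintro rfl
      rw [zero_pow hm] at he
      exact zero_ne_one he
    have h1 : (d / e) ^ k = 1 := by rw [div_pow, h, div_self (pow_ne_zero _ he0)]
    have h2 : (d / e) ^ m = 1 := by rw [div_pow, hd, he, div_self one_ne_zero]
    have h3 : (d / e) ^ (Nat.gcd k m) = 1 := by
      have h4 := orderOf_dvd_of_pow_eq_one h1
      have h5 := orderOf_dvd_of_pow_eq_one h2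
      exact orderOf_dvd_iff_pow_eq_one.1 (Nat.dvd_gcd h4 h5)
    rw [hk, pow_one] at h3
    exact (div_eq_one_iff_eq he0).1 h3
  · rintro rfl
    rfl

/-- facts on a module with diagonal action of a conjugate -/
theorem diag_facts {ι G K : Type*} [Field K] [Fintype ι] [DecidableEq ι] [DecidableEq K] [Group G]
    (σ : Representation K G (ι → K)) {x g : G} {m : ℕ} {ζ : K} (hζ : IsPrimitiveRoot ζ m) (hm : m ≠ 0) {d : ι → K}
    (hd : ∀ k : ℕ, σ ((g * x * g⁻¹) ^ k) = Matrix.toLin' (Matrix.diagonal fun i => d i ^ k)) (hdm : ∀ i, d i ^ m = 1) :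
    (∀ μ : K, ev (σ x) μ = (Finset.univ.filter fun i => d i = μ).card) ∧
    (LinearMap.trace K _ (σ x) = ∑ j ∈ Finset.range m, (ev (σ x) (ζ ^ j) : K) * ζ ^ j) ∧
    (∀ k j, k.Coprime m → ev (σ (x ^ k)) (ζ ^ (k * j)) = ev (σ x) (ζ ^ j)) ∧
    (m = 4 → ev (σ (x * x)) 1 = ev (σ x) 1 + ev (σ x) (ζ ^ 2)) := by
  have hk : ∀ (k : ℕ) (μ : K), ev (σ (x ^ k)) μ = (Finset.univ.filter fun i => d i ^ k = μ).card := by
    intro k μ
    rw [← ev_conj σ g (x ^ k) μ, ← conj_pow]
    exact ev_diag _ _ (hd k)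
  have h1 : ∀ μ : K, ev (σ x) μ = (Finset.univ.filter fun i => d i = μ).card := by
    intro μ
    have := hk 1 μ
    simpa only [pow_one] using this
  refine ⟨h1, ?_, ?_, ?_⟩
  · rw [← trace_conj σ g x]
    have h2 := hd 1
    simp only [pow_one] at h2
    rw [trace_diag d h2, sum_fib hζ hm d hdm]
    exact Finset.sum_congr rfl fun j _ => by rw [h1]
  · intro k j hkm
    rw [hk, h1]
    congr 1
    ext i
    simp only [Finset.mem_filter, Finset.mem_univ, true_and]
    rw [mul_comm, pow_mul]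
    exact pow_eq_pow_iff_of_coprime hkm (hdm i) (by rw [← pow_mul, mul_comm, pow_mul, hζ.pow_eq_one, one_pow]) hm
  · rintro rfl
    have h2 := hk 2 1
    rw [pow_two] at h2
    rw [h2, h1, h1]
    have sq_one_iff : ∀ {d : K}, d ^ 2 = 1 ↔ d = 1 ∨ d = -1 := by
      intro d
      rw [← sub_eq_zero, show d ^ 2 - 1 = (d - 1) * (d + 1) by ring, mul_eq_zero, sub_eq_zero,
        add_eq_zero_iff_eq_neg]
    have hζ2 : ζ ^ 2 = -1 := by
      have h3 : (ζ ^ 2) ^ 2 = 1 := by rw [← pow_mul]; exact hζ.pow_eq_one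
      rcases sq_one_iff.1 h3 with h4 | h4
      · exact absurd h4 (hζ.pow_ne_one_of_pos_of_lt (by norm_num) (by norm_num))
      · exact h4
    have hne : (1 : K) ≠ ζ ^ 2 := fun h => hζ.pow_ne_one_of_pos_of_lt (by norm_num) (by norm_num) h.symm
    rw [← Finset.card_union_of_disjoint]
    · congr 1
      ext i
      simp only [Finset.mem_filter, Finset.mem_univ, true_and, Finset.mem_union]
      rw [hζ2, sq_one_iff]
    · rw [Finset.disjoint_filter]
      intro i _ h3 h4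
      exact hne (h3.symm.trans h4)

/-- an endomorphism whose fixed space is everything -/
theorem eq_one_of_ev {K M G : Type*} [Field K] [AddCommGroup M] [Module K M] [FiniteDimensional K M] [Group G]
    (σ : Representation K G M) {x : G} (h : ev (σ x) 1 = finrank K M) : σ x = 1 := by
  have h1 : Module.End.eigenspace (σ x) (1 : K) = ⊤ := Submodule.eq_top_of_finrank_eq h
  refine LinearMap.ext fun v => ?_
  have h2 : v ∈ Module.End.eigenspace (σ x) (1 : K) := by rw [h1]; trivial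
  rw [Module.End.mem_eigenspace_iff, one_smul] at h2
  rw [h2]
  rfl

/-! ### the multiplicities -/

variable {K : Type u} [Field K]

theorem V_injective {x : ↥(Zgrp K)} (h : V K x = 1) : x = 1 := by
  apply Subtype.ext
  apply Units.ext
  have h1 : Matrix.toLin' ((x : GL I27 K) : Matrix I27 I27 K) = Matrix.toLin' (1 : Matrix I27 I27 K) := by
    rw [Matrix.toLin'_one]
    exact h
  exact Matrix.toLin'.injective h1

theorem L_injective {x : ↥(Zgrp K)} (h : L K x = 1) : ad K x = 1 := by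
  apply Subtype.ext
  apply Units.ext
  have h1 : Matrix.toLin' (((ad K x : ↥(chevE6.group K)) : GL chevE6.Idx K) : Matrix chevE6.Idx chevE6.Idx K) =
      Matrix.toLin' (1 : Matrix chevE6.Idx chevE6.Idx K) := by
    rw [Matrix.toLin'_one]
    exact h
  exact Matrix.toLin'.injective h1

/-- The multiplicities of the eigenvalues `ζ ^ j` of `x` on `V` and on `L` are `dg v j`, `dg l j`. -/
structure Mult (m : ℕ) (ζ : K) (x : ↥(Zgrp K)) (v l : ℕ) : Prop where
  evV : ∀ j < m, ev (V K x) (ζ ^ j) = dg v j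
  evL : ∀ j < m, ev (L K x) (ζ ^ j) = dg l j
  trV : LinearMap.trace K _ (V K x) = ∑ j ∈ Finset.range m, (dg v j : K) * ζ ^ j
  trL : LinearMap.trace K _ (L K x) = ∑ j ∈ Finset.range m, (dg l j : K) * ζ ^ j
  conjV : ∀ k, k.Coprime m → (∃ g, g * x * g⁻¹ = x ^ k) → ∀ j < m, dg v (k * j % m) = dg v j
  conjL : ∀ k, k.Coprime m → (∃ g, g * x * g⁻¹ = x ^ k) → ∀ j < m, dg l (k * j % m) = dg l j
  sqV : m = 4 → ev (V K (x * x)) 1 = dg v 0 + dg v 2
  sqL : m = 4 → ev (L K (x * x)) 1 = dg l 0 + dg l 2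

/-- **Multiplicities of the eigenvalues of the elements of order prime to `p`.** -/
theorem exists_mult [IsAlgClosed K] (p : ℕ) [Fact p.Prime] [CharP K p] (hK : HAlg p K) {m : ℕ}
    (hm : m = 2 ∨ m = 3 ∨ m = 4 ∨ m = 5 ∨ m = 7) (hmp : m.Coprime p) {ζ : K}
    (hζ : IsPrimitiveRoot ζ m) {x : ↥(Zgrp K)} (hx : x ^ m = 1) :
    ∃ q ∈ TT m, Mult m ζ x q.1 q.2 := by
  classical
  have hm0 : m ≠ 0 := by omega
  have hne : NeZero m := ⟨hm0⟩
  obtain ⟨g, d, hdV, hdL, hdm, htri⟩ := exists_diag p hK hm0 hmp hx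
  set t := g * x * g⁻¹ with ht
  have hζ0 : ζ ≠ 0 := hζ.ne_zero hm0
  let z : Kˣ := Units.mk0 ζ hζ0
  have hzu : IsPrimitiveRoot z m := by
    rw [← IsPrimitiveRoot.coe_units_iff]
    exact hζ
  have hex : ∀ i, ∃ a < m, z ^ a = d i := by
    intro i
    have h1 : ((d i : Kˣ) : K) ^ m = 1 := by
      rw [← Units.val_pow_eq_pow_val, hdm i, Units.val_one]
    obtain ⟨a, ha', ha⟩ := hζ.eq_pow_of_pow_eq_one h1
    refine ⟨a, ha', Units.ext ?_⟩
    rw [Units.val_pow_eq_pow_val, ← ha]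
    rfl
  choose a ha' ha using hex
  let b : I27 → ZMod m := fun i => (a i : ZMod m)
  have hzp : ∀ n : ℤ, z ^ n = z ^ ((n : ZMod m).val) := by
    intro n
    rw [← zpow_natCast, ZMod.val_intCast]
    have h1 : z ^ (m : ℤ) = 1 := by rw [zpow_natCast]; exact hzu.pow_eq_one
    conv_lhs => rw [← Int.emod_add_mul_ediv n m]
    rw [zpow_add, zpow_mul, h1, one_zpow, mul_one]
  have hzinj : ∀ {c c' : ZMod m}, z ^ c.val = z ^ c'.val → c = c' := by
    intro c c' h
    exact ZMod.val_injective m (hzu.pow_inj (ZMod.val_lt _) (ZMod.val_lt _) h)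
  have hdb : ∀ i, d i = z ^ (b i).val := by
    intro i
    rw [← ha i, ← zpow_natCast, hzp]
    simp [b]
  have hb : ∀ x y, rel x y = 2 → b x + b y + b (th x y) = 0 := by
    intro x y hxy
    have h1 := htri x y hxy
    apply hzinj
    rw [hdb, hdb, hdb, ← pow_add, ← pow_add] at h1
    rw [ZMod.val_zero, pow_zero, ← h1, ← zpow_natCast z ((b x).val + (b y).val + (b (th x y)).val), hzp]
    congr 2
    push_cast
    simp
  obtain ⟨q, hq, hcore⟩ := core hm hb
  refine ⟨q, hq, ?_⟩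
  -- the entries
  set dV : I27 → K := fun i => (d i : K) with hdVd
  set dL : chevE6.Idx → K := Sum.elim (fun _ => (1 : K))
    (fun r : Fin chevE6.nroots => (((d (row r.val) * (d (sr r.val (row r.val)))⁻¹ : Kˣ)) : K)) with hdLd
  have hLroot : ∀ r : Fin chevE6.nroots, d (row r.val) * (d (sr r.val (row r.val)))⁻¹ =
      z ^ (b (row r.val) - b (sr r.val (row r.val))).val := by
    intro r
    rw [hdb, hdb, ← zpow_natCast z (b (row r.val)).val, ← zpow_natCast z (b (sr r.val (row r.val))).val, ← zpow_neg,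
      ← zpow_add, hzp]
    congr 2
    push_cast
    simp [sub_eq_add_neg]
  have hV : ∀ k : ℕ, V K (t ^ k) = Matrix.toLin' (Matrix.diagonal fun i => dV i ^ k) := by
    intro k
    show Matrix.toLin' (((t ^ k : ↥(Zgrp K)) : GL I27 K) : Matrix I27 I27 K) = _
    rw [Subgroup.coe_pow, Units.val_pow_eq_pow_val, hdV, Matrix.diagonal_pow]
    rfl
  have hL : ∀ k : ℕ, L K (t ^ k) = Matrix.toLin' (Matrix.diagonal fun i => dL i ^ k) := by
    intro k
    show Matrix.toLin' (((ad K (t ^ k) : ↥(chevE6.group K)) : GL chevE6.Idx K) : Matrix chevE6.Idx chevE6.Idx K) = _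
    rw [map_pow, Subgroup.coe_pow, Units.val_pow_eq_pow_val, hdL, Matrix.diagonal_pow]
    rfl
  have hzm : ∀ c : ZMod m, ((z ^ c.val : Kˣ) : K) ^ m = 1 := by
    intro c
    rw [← Units.val_pow_eq_pow_val, ← pow_mul, mul_comm, pow_mul, hzu.pow_eq_one, one_pow, Units.val_one]
  have hζz : ∀ j : ℕ, ζ ^ j = ((z ^ j : Kˣ) : K) := fun j => by
    rw [Units.val_pow_eq_pow_val]
    rfl
  obtain ⟨v1, v2, v3, v4⟩ := diag_facts (V K) hζ hm0 (x := x) (g := g) (d := dV) hV (fun i => by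
    rw [hdVd]; show (d i : K) ^ m = 1; rw [hdb]; exact hzm _)
  obtain ⟨l1, l2, l3, l4⟩ := diag_facts (L K) hζ hm0 (x := x) (g := g) (d := dL) hL (by
    intro i
    rcases i with i | i
    · exact one_pow _
    · rw [hdLd, Sum.elim_inr, hLroot]; exact hzm _)
  have eV : ∀ j < m, ev (V K x) (ζ ^ j) = dg q.1 j := by
    intro j hj
    rw [v1, ← (hcore j hj).1]
    refine congrArg Finset.card (Finset.filter_congr fun i _ => ?_)
    rw [hζz]
    change ((d i : Kˣ) : K) = _ ↔ _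
    rw [hdb]
    constructor
    · intro h
      exact hzu.pow_inj (ZMod.val_lt _) hj (Units.ext h)
    · intro h
      rw [h]
  have eL : ∀ j < m, ev (L K x) (ζ ^ j) = dg q.2 j := by
    intro j hj
    rw [l1, ← (hcore j hj).2, Finset.card_filter, Fintype.sum_sum_type, ← Finset.card_filter, ← Finset.card_filter]
    congr 1
    · show (Finset.univ.filter fun i : Fin chevE6.rank => (1 : K) = ζ ^ j).card = _
      by_cases h : j = 0
      · subst h
        rw [if_pos rfl, Finset.filter_true_of_mem, Finset.card_univ, Fintype.card_fin]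
        · rfl
        · intro i _
          exact (pow_zero ζ).symm
      · rw [if_neg h, Finset.filter_false_of_mem, Finset.card_empty]
        intro i _ h'
        exact hζ.pow_ne_one_of_pos_of_lt h hj h'.symm
    · show (Finset.univ.filter fun r : Fin 72 => _).card = (Finset.univ.filter fun r : Fin 72 => _).card
      refine congrArg Finset.card (Finset.filter_congr fun r _ => ?_)
      rw [hζz]
      change (((d (row r.val) * (d (sr r.val (row r.val)))⁻¹ : Kˣ)) : K) = _ ↔ _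
      rw [hLroot r]
      constructor
      · intro h
        exact hzu.pow_inj (ZMod.val_lt _) hj (Units.ext h)
      · intro h
        rw [h]
  have hmod : ∀ n : ℕ, ζ ^ n = ζ ^ (n % m) := by
    intro n
    conv_lhs => rw [← Nat.mod_add_div n m, pow_add, pow_mul, hζ.pow_eq_one, one_pow, mul_one]
  refine ⟨eV, eL, ?_, ?_, ?_, ?_, ?_, ?_⟩
  · rw [v2]
    exact Finset.sum_congr rfl fun j hj => by rw [eV j (Finset.mem_range.1 hj)]
  · rw [l2]
    exact Finset.sum_congr rfl fun j hj => by rw [eL j (Finset.mem_range.1 hj)]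
  · rintro k hk ⟨h, hh⟩ j hj
    rw [← eV j hj, ← eV _ (Nat.mod_lt _ (Nat.pos_of_ne_zero hm0)), ← hmod, ← v3 k j hk, ← hh, ev_conj]
  · rintro k hk ⟨h, hh⟩ j hj
    rw [← eL j hj, ← eL _ (Nat.mod_lt _ (Nat.pos_of_ne_zero hm0)), ← hmod, ← l3 k j hk, ← hh, ev_conj]
  · intro h4
    rw [v4 h4, ← eV 0 (by omega), ← eV 2 (by omega), pow_zero]
  · intro h4
    rw [l4 h4, ← eL 0 (by omega), ← eL 2 (by omega), pow_zero]

end Cfsg.Agent.H944.E6T

namespace Cfsg.Agent.H944.E6T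


open Cfsg Cfsg.Lie Module
open Cfsg.Agent.ChevalleyStructure Cfsg.Agent.ChevalleyStructure.Elts
open Cfsg.Agent.ChevalleyStructure.E6Min.Tables Cfsg.Agent.ChevalleyStructure.E6Min.Basic
  Cfsg.Agent.ChevalleyStructure.E6Min.Adjoint
open Cfsg.Agent.H952.F4 (ev es matRep)
open Cfsg.Agent.H163.E6 (V L LK Tab)
open Cfsg.Agent.BpExc.TorAll

universe u

/-! ### reading the tables -/

theorem spec2 : ∀ q ∈ TT 2, dg q.1 0 = 27 ∨
    (dg q.1 0 = 15 ∧ dg q.1 1 = 12 ∧ dg q.2 0 = 38 ∧ dg q.2 1 = 40) ∨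
    (dg q.1 0 = 11 ∧ dg q.1 1 = 16 ∧ dg q.2 0 = 46 ∧ dg q.2 1 = 32) := by decide +kernel

theorem spec3 : ∀ q ∈ TT 3, dg q.2 0 = 78 ∨
    (dg q.1 0 = 15 ∧ dg q.1 1 = 6 ∧ dg q.1 2 = 6 ∧ dg q.2 0 = 36 ∧ dg q.2 1 = 21 ∧ dg q.2 2 = 21) ∨
    (dg q.1 0 = 9 ∧ dg q.1 1 = 9 ∧ dg q.1 2 = 9 ∧ dg q.2 0 = 30 ∧ dg q.2 1 = 24 ∧ dg q.2 2 = 24) ∨
    (dg q.1 0 = 9 ∧ dg q.1 1 = 9 ∧ dg q.1 2 = 9 ∧ dg q.2 0 = 24 ∧ dg q.2 1 = 27 ∧ dg q.2 2 = 27) ∨
    (dg q.1 0 = 6 ∧ dg q.1 1 = 15 ∧ dg q.1 2 = 6 ∧ dg q.2 0 = 36 ∧ dg q.2 1 = 21 ∧ dg q.2 2 = 21) ∨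
    (dg q.1 0 = 6 ∧ dg q.1 1 = 6 ∧ dg q.1 2 = 15 ∧ dg q.2 0 = 36 ∧ dg q.2 1 = 21 ∧ dg q.2 2 = 21) := by
  decide +kernel

theorem spec3r : ∀ q ∈ TT 3, dg q.1 2 = dg q.1 1 → dg q.1 0 ≠ 6 := by decide +kernel

theorem spec4 : ∀ q ∈ TT 4, dg q.1 0 + dg q.1 2 = 27 ∨
    (dg q.1 0 + dg q.1 2 = 15 ∧ dg q.2 0 + dg q.2 2 = 38 ∧ dg q.1 0 = 15 ∧ dg q.1 2 = 0 ∧ dg q.2 0 = 36 ∧
      dg q.2 2 = 2) ∨
    (dg q.1 0 + dg q.1 2 = 11 ∧ dg q.2 0 + dg q.2 2 = 46 ∧ dg q.1 0 = 9 ∧ dg q.1 2 = 2 ∧ dg q.2 0 = 30 ∧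
      dg q.2 2 = 16) ∨
    (dg q.1 0 + dg q.1 2 = 15 ∧ dg q.2 0 + dg q.2 2 = 38 ∧ dg q.1 0 = 9 ∧ dg q.1 2 = 6 ∧ dg q.2 0 = 20 ∧
      dg q.2 2 = 18) ∨
    (dg q.1 0 + dg q.1 2 = 15 ∧ dg q.2 0 + dg q.2 2 = 38 ∧ dg q.1 0 = 7 ∧ dg q.1 2 = 8 ∧ dg q.2 0 = 20 ∧
      dg q.2 2 = 18) ∨
    (dg q.1 0 + dg q.1 2 = 11 ∧ dg q.2 0 + dg q.2 2 = 46 ∧ dg q.1 0 = 5 ∧ dg q.1 2 = 6 ∧ dg q.2 0 = 22 ∧
      dg q.2 2 = 24) ∨
    (dg q.1 0 + dg q.1 2 = 15 ∧ dg q.2 0 + dg q.2 2 = 38 ∧ dg q.1 0 = 5 ∧ dg q.1 2 = 10 ∧ dg q.2 0 = 28 ∧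
      dg q.2 2 = 10) ∨
    (dg q.1 0 + dg q.1 2 = 11 ∧ dg q.2 0 + dg q.2 2 = 46 ∧ dg q.1 0 = 5 ∧ dg q.1 2 = 6 ∧ dg q.2 0 = 26 ∧
      dg q.2 2 = 20) ∨
    (dg q.1 0 + dg q.1 2 = 11 ∧ dg q.2 0 + dg q.2 2 = 46 ∧ dg q.1 0 = 1 ∧ dg q.1 2 = 10 ∧ dg q.2 0 = 46 ∧
      dg q.2 2 = 0) := by decide +kernel

theorem spec4r : ∀ q ∈ TT 4, dg q.1 3 = dg q.1 1 → dg q.1 0 + dg q.1 2 = 27 ∨
    (dg q.1 0 + dg q.1 2 = 15 ∧ dg q.1 0 = 15 ∧ dg q.1 1 = 6 ∧ dg q.1 2 = 0 ∧ dg q.1 3 = 6 ∧
      dg q.2 0 = 36 ∧ dg q.2 1 = 20 ∧ dg q.2 2 = 2 ∧ dg q.2 3 = 20) ∨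
    (dg q.1 0 + dg q.1 2 = 11 ∧ dg q.1 0 = 9 ∧ dg q.1 1 = 8 ∧ dg q.1 2 = 2 ∧ dg q.1 3 = 8 ∧
      dg q.2 0 = 30 ∧ dg q.2 1 = 16 ∧ dg q.2 2 = 16 ∧ dg q.2 3 = 16) ∨
    (dg q.1 0 + dg q.1 2 = 15 ∧ dg q.1 0 = 9 ∧ dg q.1 1 = 6 ∧ dg q.1 2 = 6 ∧ dg q.1 3 = 6 ∧
      dg q.2 0 = 20 ∧ dg q.2 1 = 20 ∧ dg q.2 2 = 18 ∧ dg q.2 3 = 20) ∨
    (dg q.1 0 + dg q.1 2 = 15 ∧ dg q.1 0 = 7 ∧ dg q.1 1 = 6 ∧ dg q.1 2 = 8 ∧ dg q.1 3 = 6 ∧
      dg q.2 0 = 20 ∧ dg q.2 1 = 20 ∧ dg q.2 2 = 18 ∧ dg q.2 3 = 20) ∨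
    (dg q.1 0 + dg q.1 2 = 11 ∧ dg q.1 0 = 5 ∧ dg q.1 1 = 8 ∧ dg q.1 2 = 6 ∧ dg q.1 3 = 8 ∧
      dg q.2 0 = 22 ∧ dg q.2 1 = 16 ∧ dg q.2 2 = 24 ∧ dg q.2 3 = 16) := by decide +kernel

theorem spec5 : ∀ q ∈ TT 5, dg q.1 4 = dg q.1 1 → dg q.1 3 = dg q.1 2 → dg q.1 0 = 27 ∨
    (dg q.1 0 = 15 ∧ dg q.2 0 = 36) ∨ (dg q.1 0 = 9 ∧ dg q.2 0 = 30) ∨
    (dg q.1 0 = 9 ∧ dg q.2 0 = 20) ∨ (dg q.1 0 = 7 ∧ dg q.2 0 = 18) ∨
    (dg q.1 0 = 5 ∧ dg q.2 0 = 16) := by decide +kernel

theorem spec5e1 : ∀ q ∈ TT 5, dg q.1 4 = dg q.1 1 → dg q.1 3 = dg q.1 2 → dg q.1 0 = 15 →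
    (dg q.1 1 = 6 ∧ dg q.1 2 = 0) ∨ (dg q.1 1 = 0 ∧ dg q.1 2 = 6) := by decide +kernel

theorem spec5e2 : ∀ q ∈ TT 5, dg q.1 4 = dg q.1 1 → dg q.1 3 = dg q.1 2 → dg q.1 0 = 9 → dg q.2 0 = 30 →
    (dg q.1 1 = 8 ∧ dg q.1 2 = 1) ∨ (dg q.1 1 = 1 ∧ dg q.1 2 = 8) := by decide +kernel

theorem spec5e3 : ∀ q ∈ TT 5, dg q.1 4 = dg q.1 1 → dg q.1 3 = dg q.1 2 → dg q.1 0 = 9 → dg q.2 0 = 20 →
    (dg q.1 1 = 6 ∧ dg q.1 2 = 3) ∨ (dg q.1 1 = 3 ∧ dg q.1 2 = 6) := by decide +kernel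

theorem spec5e4 : ∀ q ∈ TT 5, dg q.1 4 = dg q.1 1 → dg q.1 3 = dg q.1 2 → dg q.1 0 = 7 →
    dg q.1 1 = 5 ∧ dg q.2 1 = 15 := by decide +kernel

theorem spec5e5 : ∀ q ∈ TT 5, dg q.1 4 = dg q.1 1 → dg q.1 3 = dg q.1 2 → dg q.1 0 = 5 →
    (dg q.1 1 = 6 ∧ dg q.1 2 = 5 ∧ dg q.2 1 = 15 ∧ dg q.2 2 = 16) ∨
      (dg q.1 1 = 5 ∧ dg q.1 2 = 6 ∧ dg q.2 1 = 16 ∧ dg q.2 2 = 15) := by decide +kernel

theorem spec5r : ∀ q ∈ TT 5, dg q.1 2 = dg q.1 1 → dg q.1 4 = dg q.1 2 → dg q.1 1 = dg q.1 3 → dg q.1 0 = 27 ∨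
    (dg q.1 0 = 7 ∧ dg q.1 1 = 5 ∧ dg q.1 2 = 5 ∧ dg q.1 3 = 5 ∧ dg q.1 4 = 5 ∧
      dg q.2 0 = 18 ∧ dg q.2 1 = 15 ∧ dg q.2 2 = 15 ∧ dg q.2 3 = 15 ∧ dg q.2 4 = 15) := by decide +kernel

theorem spec7r : ∀ q ∈ TT 7, dg q.1 2 = dg q.1 1 → dg q.1 4 = dg q.1 2 → dg q.1 6 = dg q.1 3 →
    dg q.1 3 = dg q.1 5 → dg q.1 0 = 27 ∨
    (dg q.1 0 = 9 ∧ dg q.1 1 = 3 ∧ dg q.1 2 = 3 ∧ dg q.1 3 = 3 ∧ dg q.1 4 = 3 ∧ dg q.1 5 = 3 ∧ dg q.1 6 = 3 ∧
      dg q.2 0 = 18 ∧ dg q.2 1 = 10 ∧ dg q.2 2 = 10 ∧ dg q.2 3 = 10 ∧ dg q.2 4 = 10 ∧ dg q.2 5 = 10 ∧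
      dg q.2 6 = 10) ∨
    (dg q.1 0 = 3 ∧ dg q.1 1 = 4 ∧ dg q.1 2 = 4 ∧ dg q.1 3 = 4 ∧ dg q.1 4 = 4 ∧ dg q.1 5 = 4 ∧ dg q.1 6 = 4 ∧
      dg q.2 0 = 12 ∧ dg q.2 1 = 11 ∧ dg q.2 2 = 11 ∧ dg q.2 3 = 11 ∧ dg q.2 4 = 11 ∧ dg q.2 5 = 11 ∧
      dg q.2 6 = 11) ∨
    (dg q.1 0 = 0 ∧ dg q.2 0 = 30 ∧ dg q.2 1 = 8 ∧ dg q.2 2 = 8 ∧ dg q.2 3 = 8 ∧ dg q.2 4 = 8 ∧ dg q.2 5 = 8 ∧
      dg q.2 6 = 8) := by decide +kernel

/-! ### algebraically closed fields -/

section closed

variable {K : Type u} [Field K]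

theorem V_one_of_ev {x : ↥(Zgrp K)} (h : ev (V K x) 1 = 27) : x = 1 := by
  apply V_injective
  apply eq_one_of_ev
  rw [h, Module.finrank_fintype_fun_eq_card]
  rfl

theorem ad_one_of_ev {x : ↥(Zgrp K)} (h : ev (L K x) 1 = 78) : ad K x = 1 := by
  apply L_injective
  apply eq_one_of_ev
  rw [h, Module.finrank_fintype_fun_eq_card]
  rfl

variable [IsAlgClosed K] (p : ℕ) [Fact p.Prime] [CharP K p] (hK : HAlg p K)

include p in
theorem exists_prim {m : ℕ} (hmp : m.Coprime p) : ∃ ζ : K, IsPrimitiveRoot ζ m := by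
  have hNk : ((m : ℕ) : K) ≠ 0 := by
    intro h0
    have h1 : p ∣ m := (CharP.cast_eq_zero_iff K p m).1 h0
    have h2 : p ∣ 1 := by
      rw [← hmp]
      exact Nat.dvd_gcd h1 dvd_rfl
    exact (Fact.out : p.Prime).one_lt.ne' (Nat.dvd_one.1 h2)
  have : NeZero ((m : ℕ) : K) := ⟨hNk⟩
  exact HasEnoughRootsOfUnity.exists_primitiveRoot K m

omit [Fact p.Prime] in
theorem cop {r : ℕ} (hr : r.Prime) [hp : Fact p.Prime] (h : p ≠ r) : r.Coprime p :=
  (Nat.coprime_primes hr hp.out).2 (Ne.symm h)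

theorem cop4 (h : p ≠ 2) : (4 : ℕ).Coprime p := by
  have := Nat.Coprime.pow_left 2 (cop p Nat.prime_two h)
  exact this

theorem inv_eq_pow {G : Type*} [Group G] {x : G} {m : ℕ} (hx : x ^ (m + 1) = 1) : x⁻¹ = x ^ m := by
  rw [inv_eq_iff_mul_eq_one, ← pow_succ', hx]

omit [IsAlgClosed K] in
theorem sq_neg {ζ : K} (hζ : IsPrimitiveRoot ζ 4) : ζ ^ 2 = -1 := by
  have h3 : (ζ ^ 2) ^ 2 = 1 := by rw [← pow_mul]; exact hζ.pow_eq_one
  have h5 : (ζ ^ 2 - 1) * (ζ ^ 2 + 1) = 0 := by linear_combination h3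
  rcases mul_eq_zero.1 h5 with h4 | h4
  · exact absurd (sub_eq_zero.1 h4) (hζ.pow_ne_one_of_pos_of_lt (by norm_num) (by norm_num))
  · exact eq_neg_of_add_eq_zero_left h4

include hK in
/-- **The class tables over an algebraically closed field.** -/
theorem tab_of : Tab p K where
  two := by
    intro hp x hx1 hx
    have hc := cop p Nat.prime_two hp
    obtain ⟨ζ, hζ⟩ := exists_prim (K := K) p hc
    obtain ⟨q, hq, M⟩ := exists_mult p hK (by simp) hc hζ (show x ^ 2 = 1 by rw [pow_two, hx])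
    have hn : ζ = -1 := hζ.eq_neg_one_of_two_right
    have e0 := M.evV 0 (by norm_num)
    have f0 := M.evL 0 (by norm_num)
    have tV := M.trV
    have tL := M.trL
    rw [pow_zero] at e0 f0
    simp only [Finset.sum_range_succ, Finset.sum_range_zero, pow_zero, pow_one, zero_add, mul_one] at tV tL
    rcases spec2 q hq with h | ⟨h1, h2, h3, h4⟩ | ⟨h1, h2, h3, h4⟩
    · rw [h] at e0
      exact absurd (V_one_of_ev e0) hx1
    · left
      rw [tV, tL, e0, f0, h1, h2, h3, h4, hn]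
      refine ⟨rfl, rfl, ?_, ?_⟩ <;> push_cast <;> ring
    · right
      rw [tV, tL, e0, f0, h1, h2, h3, h4, hn]
      refine ⟨rfl, rfl, ?_, ?_⟩ <;> push_cast <;> ring
  three := by
    intro hp x hx1 hx
    have hc := cop p Nat.prime_three hp
    obtain ⟨ζ, hζ⟩ := exists_prim (K := K) p hc
    obtain ⟨q, hq, M⟩ := exists_mult p hK (by simp) hc hζ hx
    have hs := hζ.geom_sum_eq_zero (by norm_num)
    simp only [Finset.sum_range_succ, Finset.sum_range_zero, pow_zero, pow_one, zero_add] at hs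
    have e0 := M.evV 0 (by norm_num)
    have f0 := M.evL 0 (by norm_num)
    have tV := M.trV
    have tL := M.trL
    rw [pow_zero] at e0 f0
    simp only [Finset.sum_range_succ, Finset.sum_range_zero, pow_zero, pow_one, zero_add, mul_one] at tV tL
    have h9 : (9 : K) ≠ 0 := by
      intro h
      have h1 : ((9 : ℕ) : K) = 0 := by exact_mod_cast h
      have h2 : p ∣ 3 ^ 2 := (CharP.cast_eq_zero_iff K p 9).1 h1
      exact hp ((Nat.prime_dvd_prime_iff_eq Fact.out Nat.prime_three).1 ((Fact.out : p.Prime).dvd_of_dvd_pow h2))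
    have hζ1 : ζ ≠ 1 := by
      have := hζ.pow_ne_one_of_pos_of_lt (l := 1) (by norm_num) (by norm_num)
      rwa [pow_one] at this
    have hζ2 : ζ ^ 2 ≠ 1 := hζ.pow_ne_one_of_pos_of_lt (by norm_num) (by norm_num)
    rcases spec3 q hq with h | ⟨h1, h2, h3, h4, h5, h6⟩ | ⟨h1, h2, h3, h4, h5, h6⟩ | ⟨h1, h2, h3, h4, h5, h6⟩ |
      ⟨h1, h2, h3, h4, h5, h6⟩ | ⟨h1, h2, h3, h4, h5, h6⟩
    · rw [h] at f0
      exact absurd (ad_one_of_ev f0) hx1
    · left
      rw [tV, tL, e0, f0, h1, h2, h3, h4, h5, h6]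
      refine ⟨rfl, rfl, ?_, ?_⟩
      · push_cast; linear_combination (6 : K) * hs
      · push_cast; linear_combination (21 : K) * hs
    · right; left
      rw [tV, tL, e0, f0, h1, h2, h3, h4, h5, h6]
      refine ⟨rfl, rfl, ?_, ?_⟩
      · push_cast; linear_combination (9 : K) * hs
      · push_cast; linear_combination (24 : K) * hs
    · right; right; left
      rw [tV, tL, e0, f0, h1, h2, h3, h4, h5, h6]
      refine ⟨rfl, rfl, ?_, ?_⟩
      · push_cast; linear_combination (9 : K) * hs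
      · push_cast; linear_combination (27 : K) * hs
    · right; right; right
      rw [tV, tL, e0, f0, h1, h2, h3, h4, h5, h6]
      refine ⟨rfl, rfl, ?_, ?_⟩
      · intro h
        push_cast at h
        have h7 : (9 : K) * (ζ - 1) = 0 := by linear_combination h - (6 : K) * hs
        rcases mul_eq_zero.1 h7 with h8 | h8
        · exact h9 h8
        · exact hζ1 (sub_eq_zero.1 h8)
      · push_cast; linear_combination (21 : K) * hs
    · right; right; right
      rw [tV, tL, e0, f0, h1, h2, h3, h4, h5, h6]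
      refine ⟨rfl, rfl, ?_, ?_⟩
      · intro h
        push_cast at h
        have h7 : (9 : K) * (ζ ^ 2 - 1) = 0 := by linear_combination h - (6 : K) * hs
        rcases mul_eq_zero.1 h7 with h8 | h8
        · exact h9 h8
        · exact hζ2 (sub_eq_zero.1 h8)
      · push_cast; linear_combination (21 : K) * hs
  three_real := by
    rintro hp x hx1 hx ⟨g, hg⟩
    have hc := cop p Nat.prime_three hp
    obtain ⟨ζ, hζ⟩ := exists_prim (K := K) p hc
    obtain ⟨q, hq, M⟩ := exists_mult p hK (by simp) hc hζ hx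
    have e0 := M.evV 0 (by norm_num)
    rw [pow_zero] at e0
    rw [e0]
    have h1 := M.conjV 2 (by norm_num) ⟨g, by rw [hg]; exact inv_eq_pow hx⟩ 1 (by norm_num)
    exact spec3r q hq h1
  four := by
    intro hp x hx1 hx
    have hc := cop4 p hp
    obtain ⟨ζ, hζ⟩ := exists_prim (K := K) p hc
    obtain ⟨q, hq, M⟩ := exists_mult p hK (by simp) hc hζ hx
    have hs := sq_neg hζ
    have e0 := M.evV 0 (by norm_num)
    have f0 := M.evL 0 (by norm_num)
    have e2 := M.evV 2 (by norm_num)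
    have f2 := M.evL 2 (by norm_num)
    rw [pow_zero] at e0 f0
    rw [hs] at e2 f2
    rw [M.sqV rfl, M.sqL rfl, e0, e2, f0, f2]
    rcases spec4 q hq with h | h
    · exfalso
      apply hx1
      apply V_one_of_ev
      rw [M.sqV rfl, h]
    · exact h
  four_real := by
    rintro hp x hx1 hx ⟨g, hg⟩
    have hc := cop4 p hp
    obtain ⟨ζ, hζ⟩ := exists_prim (K := K) p hc
    obtain ⟨q, hq, M⟩ := exists_mult p hK (by simp) hc hζ hx
    have hs := sq_neg hζ
    have e0 := M.evV 0 (by norm_num)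
    have f0 := M.evL 0 (by norm_num)
    have tV := M.trV
    have tL := M.trL
    rw [pow_zero] at e0 f0
    simp only [Finset.sum_range_succ, Finset.sum_range_zero, pow_zero, pow_one, zero_add, mul_one] at tV tL
    have h1 := M.conjV 3 (by norm_num) ⟨g, by rw [hg]; exact inv_eq_pow hx⟩ 1 (by norm_num)
    rw [M.sqV rfl, e0, f0]
    rcases spec4r q hq h1 with h | ⟨a0, a1, a2, a3, a4, a5, a6, a7, a8⟩ | ⟨a0, a1, a2, a3, a4, a5, a6, a7, a8⟩ |
      ⟨a0, a1, a2, a3, a4, a5, a6, a7, a8⟩ | ⟨a0, a1, a2, a3, a4, a5, a6, a7, a8⟩ |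
      ⟨a0, a1, a2, a3, a4, a5, a6, a7, a8⟩
    · exfalso
      apply hx1
      apply V_one_of_ev
      rw [M.sqV rfl, h]
    · left
      rw [tV, tL, a0, a1, a2, a3, a4, a5, a6, a7, a8]
      refine ⟨rfl, rfl, rfl, ?_, ?_⟩
      · push_cast; linear_combination (6 * ζ) * hs
      · push_cast; linear_combination (2 + 20 * ζ) * hs
    · right; left
      rw [tV, tL, a0, a1, a2, a3, a4, a5, a6, a7, a8]
      refine ⟨rfl, rfl, rfl, ?_, ?_⟩
      · push_cast; linear_combination (2 + 8 * ζ) * hs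
      · push_cast; linear_combination (16 + 16 * ζ) * hs
    · right; right; left
      rw [tV, tL, a0, a1, a2, a3, a4, a5, a6, a7, a8]
      refine ⟨rfl, rfl, rfl, ?_, ?_⟩
      · push_cast; linear_combination (6 + 6 * ζ) * hs
      · push_cast; linear_combination (18 + 20 * ζ) * hs
    · right; right; right; left
      rw [tV, tL, a0, a1, a2, a3, a4, a5, a6, a7, a8]
      refine ⟨rfl, rfl, rfl, ?_, ?_⟩
      · push_cast; linear_combination (8 + 6 * ζ) * hs
      · push_cast; linear_combination (18 + 20 * ζ) * hs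
    · right; right; right; right
      rw [tV, tL, a0, a1, a2, a3, a4, a5, a6, a7, a8]
      refine ⟨rfl, rfl, rfl, ?_, ?_⟩
      · push_cast; linear_combination (6 + 8 * ζ) * hs
      · push_cast; linear_combination (24 + 16 * ζ) * hs
  four_i := by
    rintro hp x hx ⟨g, hg⟩ i hi
    have hc := cop4 p hp
    have h2 : (-1 : K) ≠ 1 := by
      intro h
      have h1 : ((2 : ℕ) : K) = 0 := by push_cast; linear_combination -h
      have h2 : p ∣ 2 := (CharP.cast_eq_zero_iff K p 2).1 h1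
      exact hp ((Nat.prime_dvd_prime_iff_eq Fact.out Nat.prime_two).1 h2)
    have hζ : IsPrimitiveRoot i 4 := by
      have h3 : orderOf i = 2 ^ (1 + 1) := orderOf_eq_prime_pow (x := i) (p := 2) (n := 1)
        (by rw [pow_one, pow_two, hi]; exact h2)
        (by show i ^ 4 = 1; rw [show i ^ 4 = (i * i) * (i * i) by ring, hi]; ring)
      have h4 := IsPrimitiveRoot.orderOf i
      rwa [h3] at h4
    obtain ⟨q, hq, M⟩ := exists_mult p hK (by simp) hc hζ hx
    have e1 := M.evV 1 (by norm_num)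
    have e3 := M.evV 3 (by norm_num)
    have h1 := M.conjV 3 (by norm_num) ⟨g, by rw [hg]; exact inv_eq_pow hx⟩ 1 (by norm_num)
    have h3 : i ^ 3 = -i := by rw [pow_succ, pow_two, hi]; ring
    rw [pow_one] at e1
    rw [h3] at e3
    rw [e1, e3]
    exact h1.symm
  five := by
    rintro hp x hx1 hx ⟨g, hg⟩
    have hc := cop p Nat.prime_five hp
    obtain ⟨ζ, hζ⟩ := exists_prim (K := K) p hc
    obtain ⟨q, hq, M⟩ := exists_mult p hK (by simp) hc hζ hx
    have e0 := M.evV 0 (by norm_num)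
    have f0 := M.evL 0 (by norm_num)
    rw [pow_zero] at e0 f0
    have hr : g * x * g⁻¹ = x ^ 4 := by rw [hg]; exact inv_eq_pow hx
    have h1 := M.conjV 4 (by norm_num) ⟨g, hr⟩ 1 (by norm_num)
    have h2 := M.conjV 4 (by norm_num) ⟨g, hr⟩ 2 (by norm_num)
    rw [e0, f0]
    rcases spec5 q hq h1 h2 with h | h
    · rw [h] at e0
      exact absurd (V_one_of_ev e0) hx1
    · exact h
  five_eig := by
    rintro hp x hx ⟨g, hg⟩ μ hμ1 hμ5
    have hc := cop p Nat.prime_five hp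
    have hζ : IsPrimitiveRoot μ 5 := by
      have h3 : orderOf μ = 5 := orderOf_eq_prime hμ5 hμ1
      have h4 := IsPrimitiveRoot.orderOf μ
      rwa [h3] at h4
    obtain ⟨q, hq, M⟩ := exists_mult p hK (by simp) hc hζ hx
    have e0 := M.evV 0 (by norm_num)
    have f0 := M.evL 0 (by norm_num)
    have e1 := M.evV 1 (by norm_num)
    have f1 := M.evL 1 (by norm_num)
    have e2 := M.evV 2 (by norm_num)
    have f2 := M.evL 2 (by norm_num)
    rw [pow_zero] at e0 f0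
    rw [pow_one] at e1 f1
    have hr : g * x * g⁻¹ = x ^ 4 := by rw [hg]; exact inv_eq_pow hx
    have h1 := M.conjV 4 (by norm_num) ⟨g, hr⟩ 1 (by norm_num)
    have h2 := M.conjV 4 (by norm_num) ⟨g, hr⟩ 2 (by norm_num)
    rw [e0, f0, e1, f1, e2, f2]
    exact ⟨spec5e1 q hq h1 h2, spec5e2 q hq h1 h2, spec5e3 q hq h1 h2, spec5e4 q hq h1 h2, spec5e5 q hq h1 h2⟩
  five_rat := by
    rintro hp x hx1 hx ⟨g, hg⟩
    have hc := cop p Nat.prime_five hp
    obtain ⟨ζ, hζ⟩ := exists_prim (K := K) p hc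
    obtain ⟨q, hq, M⟩ := exists_mult p hK (by simp) hc hζ hx
    have hs := hζ.geom_sum_eq_zero (by norm_num)
    simp only [Finset.sum_range_succ, Finset.sum_range_zero, pow_zero, pow_one, zero_add] at hs
    have e0 := M.evV 0 (by norm_num)
    have f0 := M.evL 0 (by norm_num)
    have tV := M.trV
    have tL := M.trL
    rw [pow_zero] at e0 f0
    simp only [Finset.sum_range_succ, Finset.sum_range_zero, pow_zero, pow_one, zero_add, mul_one] at tV tL
    have h1 := M.conjV 2 (by norm_num) ⟨g, hg⟩ 1 (by norm_num)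
    have h2 := M.conjV 2 (by norm_num) ⟨g, hg⟩ 2 (by norm_num)
    have h3 := M.conjV 2 (by norm_num) ⟨g, hg⟩ 3 (by norm_num)
    rcases spec5r q hq h1 h2 h3 with h | ⟨a0, a1, a2, a3, a4, b0, b1, b2, b3, b4⟩
    · rw [h] at e0
      exact absurd (V_one_of_ev e0) hx1
    · rw [tV, tL, e0, f0, a0, a1, a2, a3, a4, b0, b1, b2, b3, b4]
      refine ⟨rfl, rfl, ?_, ?_⟩
      · push_cast; linear_combination (5 : K) * hs
      · push_cast; linear_combination (15 : K) * hs
  seven_rat := by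
    rintro hp x hx1 hx ⟨g, hg⟩
    have hc := cop p (by norm_num : (7 : ℕ).Prime) hp
    obtain ⟨ζ, hζ⟩ := exists_prim (K := K) p hc
    obtain ⟨q, hq, M⟩ := exists_mult p hK (by simp) hc hζ hx
    have hs := hζ.geom_sum_eq_zero (by norm_num)
    simp only [Finset.sum_range_succ, Finset.sum_range_zero, pow_zero, pow_one, zero_add] at hs
    have e0 := M.evV 0 (by norm_num)
    have f0 := M.evL 0 (by norm_num)
    have tV := M.trV
    have tL := M.trL
    rw [pow_zero] at e0 f0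
    simp only [Finset.sum_range_succ, Finset.sum_range_zero, pow_zero, pow_one, zero_add, mul_one] at tV tL
    have h1 := M.conjV 2 (by norm_num) ⟨g, hg⟩ 1 (by norm_num)
    have h2 := M.conjV 2 (by norm_num) ⟨g, hg⟩ 2 (by norm_num)
    have h3 := M.conjV 2 (by norm_num) ⟨g, hg⟩ 3 (by norm_num)
    have h5 := M.conjV 2 (by norm_num) ⟨g, hg⟩ 5 (by norm_num)
    rcases spec7r q hq h1 h2 h3 h5 with h | ⟨a0, a1, a2, a3, a4, a5, a6, b0, b1, b2, b3, b4, b5, b6⟩ |
      ⟨a0, a1, a2, a3, a4, a5, a6, b0, b1, b2, b3, b4, b5, b6⟩ | ⟨a0, b0, b1, b2, b3, b4, b5, b6⟩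
    · rw [h] at e0
      exact absurd (V_one_of_ev e0) hx1
    · left
      rw [tV, tL, e0, f0, a0, a1, a2, a3, a4, a5, a6, b0, b1, b2, b3, b4, b5, b6]
      refine ⟨rfl, rfl, ?_, ?_⟩
      · push_cast; linear_combination (3 : K) * hs
      · push_cast; linear_combination (10 : K) * hs
    · right; left
      rw [tV, tL, e0, f0, a0, a1, a2, a3, a4, a5, a6, b0, b1, b2, b3, b4, b5, b6]
      refine ⟨rfl, rfl, ?_, ?_⟩
      · push_cast; linear_combination (4 : K) * hs
      · push_cast; linear_combination (11 : K) * hs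
    · right; right
      rw [tL, e0, f0, a0, b0, b1, b2, b3, b4, b5, b6]
      refine ⟨rfl, rfl, ?_⟩
      push_cast; linear_combination (8 : K) * hs

end closed

/-! ### change of fields -/

section chg

variable {F K : Type u} [Field F] [Field K] (f : F →+* K)

theorem zM_map (r : ℕ) (t : F) : (zM r t).map f = zM r (f t) := by
  ext x y
  simp only [zM_def, Matrix.map_apply, Matrix.add_apply, Matrix.smul_apply, Nm_apply, Matrix.one_apply, map_add,
    smul_eq_mul, map_mul, apply_ite f, map_one, map_zero, map_intCast]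

/-- the map of matrices -/
def gm : GL I27 F →* GL I27 K := Units.map (f.mapMatrix : Matrix I27 I27 F →+* Matrix I27 I27 K).toMonoidHom

theorem coe_gm (g : GL I27 F) : ((gm f g : GL I27 K) : Matrix I27 I27 K) = (g : Matrix I27 I27 F).map f := rfl

theorem gm_mem {g : GL I27 F} (hg : g ∈ Zgrp F) : gm f g ∈ Zgrp K := by
  have h : Zgrp F ≤ (Zgrp K).comap (gm f) := by
    unfold Zgrp
    rw [Subgroup.closure_le]
    rintro g ⟨r, t, hr, hg⟩
    refine Subgroup.subset_closure ⟨r, f t, hr, ?_⟩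
    rw [coe_gm, hg, zM_map]
  exact h hg

/-- **The homomorphism of the simply connected groups given by a homomorphism of fields.** -/
def jm : ↥(Zgrp F) →* ↥(Zgrp K) := ((gm f).comp (Zgrp F).subtype).codRestrict (Zgrp K) fun g => gm_mem f g.2

theorem coe_jm (g : ↥(Zgrp F)) : (((jm f g : ↥(Zgrp K)) : GL I27 K) : Matrix I27 I27 K) =
    ((g : GL I27 F) : Matrix I27 I27 F).map f := rfl

theorem jm_injective : Function.Injective (jm f) := by
  intro a b hab
  apply Subtype.ext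
  apply Units.ext
  have h1 : ((a : GL I27 F) : Matrix I27 I27 F).map f = ((b : GL I27 F) : Matrix I27 I27 F).map f := by
    rw [← coe_jm, ← coe_jm, hab]
  exact Matrix.map_injective f.injective h1

theorem B_map (c : chevE6.Idx) : (B F c).map f = B K c := by
  rcases c with i | r
  · rw [B_inl, B_inl]
    ext x y
    simp only [Matrix.map_apply, Hm_apply, apply_ite f, map_zero, map_intCast]
  · rw [B_inr, B_inr]
    ext x y
    simp only [Matrix.map_apply, Nm_apply, apply_ite f, map_zero, map_intCast]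

theorem comb_map (c : chevE6.Idx → F) : (comb c).map f = comb (fun i => f (c i)) := by
  ext x y
  rw [Matrix.map_apply, comb_def, comb_def, Matrix.sum_apply, Matrix.sum_apply, map_sum]
  refine Finset.sum_congr rfl fun i _ => ?_
  rw [Matrix.smul_apply, Matrix.smul_apply, smul_eq_mul, smul_eq_mul, map_mul, ← B_map f i, Matrix.map_apply]

/-- compatibility with the adjoint representation -/
theorem ad_jm (g : ↥(Zgrp F)) : ad K (jm f g) = Cfsg.Agent.GpExc.Field.emb inE6 f (ad F g) := by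
  apply Subtype.ext
  apply Units.ext
  refine P_unique (g := ((jm f g : ↥(Zgrp K)) : GL I27 K)) (ad_P (jm f g)) ?_
  intro col
  have h : (((g : GL I27 F) : Matrix I27 I27 F) * B F col).map f = (comb (fun row =>
      ((((ad F g : ↥(chevE6.group F)) : GL chevE6.Idx F) : Matrix chevE6.Idx chevE6.Idx F)) row col) *
        ((g : GL I27 F) : Matrix I27 I27 F)).map f := congrArg (fun X : Matrix I27 I27 F => X.map f) (ad_P g col)
  rw [Matrix.map_mul, Matrix.map_mul, B_map, comb_map] at h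
  rw [coe_jm, h]
  rfl

theorem ev_V (g : ↥(Zgrp F)) (μ : F) : ev (V K (jm f g)) (f μ) = ev (V F g) μ :=
  H815.F4Chg.ev_map f ((g : GL I27 F) : Matrix I27 I27 F) μ

theorem trace_V (g : ↥(Zgrp F)) : LinearMap.trace K _ (V K (jm f g)) = f (LinearMap.trace F _ (V F g)) :=
  H815.F4Chg.trace_map f ((g : GL I27 F) : Matrix I27 I27 F)

theorem L_jm (g : ↥(Zgrp F)) : L K (jm f g) = Matrix.toLin'
    ((((ad F g : ↥(chevE6.group F)) : GL chevE6.Idx F) : Matrix chevE6.Idx chevE6.Idx F).map f) := by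
  rw [Cfsg.Agent.H163.E6.L_eq, ad_jm]
  rfl

theorem ev_L (g : ↥(Zgrp F)) (μ : F) : ev (L K (jm f g)) (f μ) = ev (L F g) μ := by
  rw [L_jm]
  exact H815.F4Chg.ev_map f _ μ

theorem trace_L (g : ↥(Zgrp F)) : LinearMap.trace K _ (L K (jm f g)) = f (LinearMap.trace F _ (L F g)) := by
  rw [L_jm]
  exact H815.F4Chg.trace_map f _

include f in
/-- **Descent of the class tables.** -/
theorem tab_descend (p : ℕ) (T : Tab p K) : Tab p F := by
  have hfi : Function.Injective f := f.injective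
  have eV1 : ∀ x, ev (V K (jm f x)) 1 = ev (V F x) 1 := fun x => by rw [← ev_V f, map_one]
  have eL1 : ∀ x, ev (L K (jm f x)) 1 = ev (L F x) 1 := fun x => by rw [← ev_L f, map_one]
  have eVn : ∀ x, ev (V K (jm f x)) (-1) = ev (V F x) (-1) := fun x => by rw [← ev_V f, map_neg, map_one]
  have eLn : ∀ x, ev (L K (jm f x)) (-1) = ev (L F x) (-1) := fun x => by rw [← ev_L f, map_neg, map_one]
  have ne : ∀ {x : ↥(Zgrp F)}, x ≠ 1 → jm f x ≠ 1 := fun h h' => h (jm_injective f (by rw [h', map_one]))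
  have nead : ∀ {x : ↥(Zgrp F)}, ad F x ≠ 1 → ad K (jm f x) ≠ 1 := fun h h' => by
    rw [ad_jm] at h'
    exact h (Cfsg.Agent.GpExc.Field.emb_injective inE6 f (by rw [h', map_one]))
  have po : ∀ {x : ↥(Zgrp F)} {k : ℕ}, x ^ k = 1 → (jm f x) ^ k = 1 := fun h => by rw [← map_pow, h, map_one]
  have ct : ∀ {a : F} (n : ℤ), f a = (n : K) → a = n := fun {a} n h => hfi (by rw [h, map_intCast])
  have re : ∀ {x : ↥(Zgrp F)}, (∃ g, g * x * g⁻¹ = x⁻¹) → ∃ g, g * jm f x * g⁻¹ = (jm f x)⁻¹ := by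
    rintro x ⟨g, hg⟩
    exact ⟨jm f g, by rw [← map_inv, ← map_mul, ← map_mul, hg, map_inv]⟩
  refine ⟨?_, ?_, ?_, ?_, ?_, ?_, ?_, ?_, ?_, ?_⟩
  · intro hp x hx1 hx
    have h := T.two hp (jm f x) (ne hx1) (by rw [← map_mul, hx, map_one])
    rw [eV1, eL1, trace_V, trace_L] at h
    rcases h with ⟨h1, h2, h3, h4⟩ | ⟨h1, h2, h3, h4⟩
    · left
      refine ⟨h1, h2, ?_, ?_⟩
      · exact_mod_cast ct 3 (by exact_mod_cast h3)
      · exact_mod_cast ct (-2) (by exact_mod_cast h4)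
    · right
      refine ⟨h1, h2, ?_, ?_⟩
      · exact_mod_cast ct (-5) (by exact_mod_cast h3)
      · exact_mod_cast ct 14 (by exact_mod_cast h4)
  · intro hp x hx1 hx
    have h := T.three hp (jm f x) (nead hx1) (po hx)
    rw [eV1, eL1, trace_V, trace_L] at h
    rcases h with ⟨h1, h2, h3, h4⟩ | ⟨h1, h2, h3, h4⟩ | ⟨h1, h2, h3, h4⟩ | ⟨h1, h2, h3, h4⟩
    · left
      refine ⟨h1, h2, ?_, ?_⟩
      · exact_mod_cast ct 9 (by exact_mod_cast h3)
      · exact_mod_cast ct 15 (by exact_mod_cast h4)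
    · right; left
      refine ⟨h1, h2, ?_, ?_⟩
      · exact_mod_cast ct 0 (by exact_mod_cast h3)
      · exact_mod_cast ct 6 (by exact_mod_cast h4)
    · right; right; left
      refine ⟨h1, h2, ?_, ?_⟩
      · exact_mod_cast ct 0 (by exact_mod_cast h3)
      · exact_mod_cast ct (-3) (by exact_mod_cast h4)
    · right; right; right
      refine ⟨h1, h2, ?_, ?_⟩
      · intro h5
        apply h3
        rw [h5]
        exact map_ofNat f 9
      · exact_mod_cast ct 15 (by exact_mod_cast h4)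
  · intro hp x hx1 hx hr
    have h := T.three_real hp (jm f x) (nead hx1) (po hx) (re hr)
    rwa [eV1] at h
  · intro hp x hx1 hx
    have h := T.four hp (jm f x) (by rw [← map_mul]; exact ne hx1) (po hx)
    rw [← map_mul, eV1, eL1, eV1, eVn, eL1, eLn] at h
    exact h
  · intro hp x hx1 hx hr
    have h := T.four_real hp (jm f x) (by rw [← map_mul]; exact ne hx1) (po hx) (re hr)
    rw [← map_mul, eV1, eV1, eL1, trace_V, trace_L] at h
    rcases h with ⟨h1, h2, h3, h4, h5⟩ | ⟨h1, h2, h3, h4, h5⟩ | ⟨h1, h2, h3, h4, h5⟩ | ⟨h1, h2, h3, h4, h5⟩ |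
      ⟨h1, h2, h3, h4, h5⟩
    · left
      refine ⟨h1, h2, h3, ?_, ?_⟩
      · exact_mod_cast ct 15 (by exact_mod_cast h4)
      · exact_mod_cast ct 34 (by exact_mod_cast h5)
    · right; left
      refine ⟨h1, h2, h3, ?_, ?_⟩
      · exact_mod_cast ct 7 (by exact_mod_cast h4)
      · exact_mod_cast ct 14 (by exact_mod_cast h5)
    · right; right; left
      refine ⟨h1, h2, h3, ?_, ?_⟩
      · exact_mod_cast ct 3 (by exact_mod_cast h4)
      · exact_mod_cast ct 2 (by exact_mod_cast h5)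
    · right; right; right; left
      refine ⟨h1, h2, h3, ?_, ?_⟩
      · exact_mod_cast ct (-1) (by exact_mod_cast h4)
      · exact_mod_cast ct 2 (by exact_mod_cast h5)
    · right; right; right; right
      refine ⟨h1, h2, h3, ?_, ?_⟩
      · exact_mod_cast ct (-1) (by exact_mod_cast h4)
      · exact_mod_cast ct (-2) (by exact_mod_cast h5)
  · intro hp x hx hr i hi
    have h := T.four_i hp (jm f x) (po hx) (re hr) (f i) (by rw [← map_mul, hi, map_neg, map_one])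
    rw [← map_neg, ev_V, ev_V] at h
    exact h
  · intro hp x hx1 hx hr
    have h := T.five hp (jm f x) (ne hx1) (po hx) (re hr)
    rw [eV1, eL1] at h
    exact h
  · intro hp x hx hr μ hμ1 hμ5
    have h := T.five_eig hp (jm f x) (po hx) (re hr) (f μ) (fun h => hμ1 (hfi (by rw [h, map_one])))
      (by rw [← map_pow, hμ5, map_one])
    rw [← map_pow, ev_V, ev_V, ev_L, ev_L, eV1, eL1] at h
    exact h
  · rintro hp x hx1 hx ⟨g, hg⟩
    have h := T.five_rat hp (jm f x) (ne hx1) (po hx) ⟨jm f g, by rw [← map_inv, ← map_mul, ← map_mul, hg, map_pow]⟩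
    rw [eV1, eL1, trace_V, trace_L] at h
    obtain ⟨h1, h2, h3, h4⟩ := h
    refine ⟨h1, h2, ?_, ?_⟩
    · exact_mod_cast ct 2 (by exact_mod_cast h3)
    · exact_mod_cast ct 3 (by exact_mod_cast h4)
  · rintro hp x hx1 hx ⟨g, hg⟩
    have h := T.seven_rat hp (jm f x) (ne hx1) (po hx) ⟨jm f g, by rw [← map_inv, ← map_mul, ← map_mul, hg, map_pow]⟩
    rw [eV1, eL1, trace_V, trace_L] at h
    rcases h with ⟨h1, h2, h3, h4⟩ | ⟨h1, h2, h3, h4⟩ | ⟨h1, h2, h4⟩
    · left
      refine ⟨h1, h2, ?_, ?_⟩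
      · exact_mod_cast ct 6 (by exact_mod_cast h3)
      · exact_mod_cast ct 8 (by exact_mod_cast h4)
    · right; left
      refine ⟨h1, h2, ?_, ?_⟩
      · exact_mod_cast ct (-1) (by exact_mod_cast h3)
      · exact_mod_cast ct 1 (by exact_mod_cast h4)
    · right; right
      refine ⟨h1, h2, ?_⟩
      exact_mod_cast ct 22 (by exact_mod_cast h4)

end chg

end Cfsg.Agent.H944.E6T

namespace Cfsg.Agent.H163.E6.Tor

open Cfsg Cfsg.Lie Module
open Cfsg.Agent.BpExc.TorAll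

universe u

theorem tab_closed (p : ℕ) [Fact p.Prime] {F : Type u} [Field F] [Finite F] [CharP F p] :
    Tab p (AlgebraicClosure F) := by
  have hch : CharP (AlgebraicClosure F) p := charP_of_injective_algebraMap
    (algebraMap F (AlgebraicClosure F)).injective p
  have hK : HAlg p (AlgebraicClosure F) := Cfsg.Agent.H944.RootVals.hAlg_closure p F
  exact H944.E6T.tab_of p hK

theorem tab (p : ℕ) [Fact p.Prime] {F : Type u} [Field F] [Finite F] [CharP F p] : Tab p F :=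
  H944.E6T.tab_descend (algebraMap F (AlgebraicClosure F)) p (tab_closed p)

end Cfsg.Agent.H163.E6.Tor
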