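import Mathlib
import Cfsg.Agent.H944.RootVals

/-!
# Kac coordinates (helper944)

`D` one of the tabulated types of rank `l`. A property of the vectors `Fin l → ZMod N` of root values invariant under the
simple reflections and true somewhere is true for the residues of a vector `y` of natural numbers with `θ y ≤ N`,
`θ` the highest root (`exists_alcove`).
-/

set_option autoImplicit false
set_option linter.unusedSectionVars false

namespace Cfsg.Agent.H944.Kac

open Cfsg.Agent.ChevalleyStructure.CoxeterGeom Cfsg.Agent.Tits.Roots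
  Cfsg.Agent.Nodes.RGDChev
open Cfsg.Lie Cfsg.Agent.ChevalleyStructure Cfsg.Agent.ChevalleyStructure.Elts
  Cfsg.Agent.ChevalleyStructure.RootVec Cfsg.Agent.ChevalleyStructure.RootVecTab
  Cfsg.Agent.ChevalleyStructure.NPerm Cfsg.Agent.ChevalleyStructure.CoxeterGeomTypes
open Cfsg.Agent.H944.RootVals

variable {D : ChevalleyDatum} {l : ℕ} {M : CoxeterMatrix (Fin l)} (hp : IsType D l M)

/-- The value of the root `s` on the vector `v`. -/
def rv (D : ChevalleyDatum) (l : ℕ) {R : Type*} [CommRing R] (v : Fin l → R) (s : ℕ) : R :=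
  ∑ i, (vec D l s i : R) * v i

theorem ms_eq {R : Type*} [CommRing R] (v : Fin l → R) :
    ms D l v = (Finset.univ : Finset (Fin D.nroots)).val.map fun s : Fin D.nroots => rv D l v s := rfl

/-- The simple reflections on the vectors of values on the simple roots. -/
def srefl (D : ChevalleyDatum) (l : ℕ) {R : Type*} [CommRing R] (j : Fin l) (v : Fin l → R) : Fin l → R :=
  fun i => v i - (cartanOf D l j i : R) * v j

include hp in
theorem vec_reflect (j : Fin l) {r : ℕ} (hr : r < D.nroots) (i : Fin l) :
    vec D l (D.reflectRoot j r) i = vec D l r i - pairing (cartanOf D l) j (vec D l r) * (sr j : Fin l → ℤ) i := by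
  rw [pairing_vec hp j hr, vec_apply, vec_apply, (reflectRoot_rt hp.checked (lt_rank hp j) hr).2]
  by_cases hj : i = j
  · subst hj; rw [sr_self, if_pos rfl, mul_one]
  · rw [sr_ne hj, if_neg (fun h => hj (Fin.ext h)), mul_zero]

include hp in
theorem rv_srefl {R : Type*} [CommRing R] (j : Fin l) (v : Fin l → R) {r : ℕ} (hr : r < D.nroots) :
    rv D l (srefl D l j v) r = rv D l v (D.reflectRoot j r) := by
  unfold rv srefl
  have h1 : ∀ i, ((vec D l (D.reflectRoot j r) i : ℤ) : R) * v i = (vec D l r i : R) * v i -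
      ((pairing (cartanOf D l) j (vec D l r) : ℤ) : R) * (((sr j : Fin l → ℤ) i : R) * v i) := by
    intro i
    rw [vec_reflect hp j hr]
    push_cast
    ring
  simp only [h1, mul_sub]
  rw [Finset.sum_sub_distrib, Finset.sum_sub_distrib, ← Finset.mul_sum]
  congr 1
  rw [Finset.sum_eq_single (f := fun i => (((sr j : Fin l → ℤ) i : ℤ) : R) * v i) j
    (fun i _ hij => by rw [sr_ne hij, Int.cast_zero, zero_mul])
    (fun h => absurd (Finset.mem_univ j) h), sr_self, Int.cast_one, one_mul]
  unfold pairing
  push_cast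
  rw [Finset.sum_mul]
  refine Finset.sum_congr rfl fun i _ => ?_
  ring

include hp in
/-- the permutation of the roots given by a simple reflection -/
theorem reflect_bij (j : Fin l) : Function.Bijective
    (fun s : Fin D.nroots => (⟨D.reflectRoot j s, reflectRoot_lt hp.inList (lt_rank hp j) s.2⟩ : Fin D.nroots)) := by
  rw [Finite.injective_iff_bijective.symm]
  intro s t hst
  have h0 : D.reflectRoot j s = D.reflectRoot j t := congrArg Fin.val hst
  have hpr : ∀ s : Fin D.nroots, pairing (cartanOf D l) j (vec D l (D.reflectRoot j s)) =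
      - pairing (cartanOf D l) j (vec D l s) := by
    intro s
    have h1 : ∀ k, cartanOf D l j k * vec D l (D.reflectRoot j s) k = cartanOf D l j k * vec D l s k -
        pairing (cartanOf D l) j (vec D l s) * (cartanOf D l j k * (sr j : Fin l → ℤ) k) := by
      intro k
      rw [vec_reflect hp j s.2]
      ring
    conv_lhs => unfold pairing
    simp only [h1]
    rw [Finset.sum_sub_distrib, ← Finset.mul_sum,
      Finset.sum_eq_single (f := fun k => cartanOf D l j k * (sr j : Fin l → ℤ) k) j
      (fun i _ hij => by rw [sr_ne hij, mul_zero])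
      (fun h => absurd (Finset.mem_univ j) h), sr_self, hp.isCartan.diag]
    have h2 : ∑ k, cartanOf D l j k * vec D l s k = pairing (cartanOf D l) j (vec D l s) := rfl
    rw [h2]
    ring
  have h2 : pairing (cartanOf D l) j (vec D l s) = pairing (cartanOf D l) j (vec D l t) := by
    have := hpr s
    rw [h0, hpr t] at this
    linarith
  apply Fin.ext
  refine vec_inj hp s.2 t.2 ?_
  funext i
  have h3 := vec_reflect hp j s.2 i
  rw [h0, vec_reflect hp j t.2 i, h2] at h3
  linarith

include hp in
/-- the multiset of root values is invariant under the simple reflections -/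
theorem ms_srefl {R : Type*} [CommRing R] (j : Fin l) (v : Fin l → R) :
    ms D l (srefl D l j v) = ms D l v := by
  rw [ms_eq, ms_eq]
  have h1 := Multiset.map_univ_val_equiv (Equiv.ofBijective _ (reflect_bij hp j))
  conv_rhs => rw [← h1, Multiset.map_map]
  refine Multiset.map_congr rfl fun s _ => ?_
  rw [rv_srefl hp j v s.2]
  rfl

/-- The sum of the squares of the root values. -/
def sq (D : ChevalleyDatum) (l : ℕ) (y : Fin l → ℤ) : ℤ := ∑ s : Fin D.nroots, rv D l y s ^ 2

theorem sq_eq (y : Fin l → ℤ) : sq D l y = ((ms D l y).map (fun a => a ^ 2)).sum := by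
  rw [ms_eq, Multiset.map_map]
  rfl

theorem sq_nonneg' (y : Fin l → ℤ) : 0 ≤ sq D l y := Finset.sum_nonneg fun _ _ => sq_nonneg _

theorem rv_cast {N : ℕ} (y : Fin l → ℤ) (s : ℕ) :
    rv D l (fun i => ((y i : ℤ) : ZMod N)) s = ((rv D l y s : ℤ) : ZMod N) := by
  unfold rv
  push_cast
  rfl

theorem srefl_cast {N : ℕ} (y : Fin l → ℤ) (j : Fin l) :
    srefl D l j (fun i => ((y i : ℤ) : ZMod N)) = fun i => ((srefl D l j y i : ℤ) : ZMod N) := by
  funext i
  unfold srefl
  push_cast
  rfl

include hp in
/-- **Kac coordinates.** -/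
theorem exists_alcove {N : ℕ} (hN : 0 < N) (θ a : Fin l → ℤ) (κ : ℤ) (hκ : 0 < κ)
    (hθ : ∀ i, ∑ s : Fin D.nroots, (∑ k, vec D l s k * a k) * vec D l s i = κ * θ i)
    (hθ2 : ∑ i, θ i * a i = 2) (S : Finset (Fin D.nroots))
    (hS : ∀ j, 0 < ∑ i, cartanOf D l j i * ∑ s ∈ S, vec D l s i)
    (P : (Fin l → ZMod N) → Prop) (hP : ∀ v j, P v → P (srefl D l j v)) {v₀ : Fin l → ZMod N} (h0 : P v₀) :
    ∃ y : Fin l → ℕ, P (fun i => (y i : ZMod N)) ∧ ∑ i, θ i * (y i : ℤ) ≤ N := by
  classical
  have : NeZero N := ⟨hN.ne'⟩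
  let Q : (Fin l → ℤ) → Prop := fun y => P (fun i => ((y i : ℤ) : ZMod N))
  have hQ0 : ∃ y, Q y := by
    refine ⟨fun i => ((v₀ i).val : ℤ), ?_⟩
    show P _
    convert h0 using 2 with i
    push_cast
    exact ZMod.natCast_zmod_val _
  -- first minimum
  have h1 : ∃ m : ℕ, ∃ y, Q y ∧ sq D l y = m := by
    obtain ⟨y, hy⟩ := hQ0
    exact ⟨(sq D l y).toNat, y, hy, (Int.toNat_of_nonneg (sq_nonneg' y)).symm⟩
  let m := Nat.find h1
  have hm : ∃ y, Q y ∧ sq D l y = m := Nat.find_spec h1
  have hmin : ∀ y, Q y → (m : ℤ) ≤ sq D l y := by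
    intro y hy
    have h2 : m ≤ (sq D l y).toNat := Nat.find_min' h1 ⟨y, hy, (Int.toNat_of_nonneg (sq_nonneg' y)).symm⟩
    have h3 := Int.toNat_of_nonneg (sq_nonneg' (D := D) y)
    omega
  let L : (Fin l → ℤ) → ℤ := fun y => ∑ s ∈ S, rv D l y s
  have hL : ∀ y, L y ≤ sq D l y := by
    intro y
    calc L y ≤ ∑ s ∈ S, rv D l y s ^ 2 := Finset.sum_le_sum fun s _ => Int.le_self_sq _
      _ ≤ ∑ s : Fin D.nroots, rv D l y s ^ 2 :=
        Finset.sum_le_sum_of_subset_of_nonneg (Finset.subset_univ S) fun s _ _ => sq_nonneg _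
  have h2 : ∃ n : ℕ, ∃ y, Q y ∧ sq D l y = m ∧ (m : ℤ) - L y = n := by
    obtain ⟨y, hy, hy2⟩ := hm
    have := hL y
    refine ⟨((m : ℤ) - L y).toNat, y, hy, hy2, (Int.toNat_of_nonneg ?_).symm⟩
    omega
  let n := Nat.find h2
  obtain ⟨y, hyQ, hym, hyn⟩ : ∃ y, Q y ∧ sq D l y = m ∧ (m : ℤ) - L y = n := Nat.find_spec h2
  have hmin2 : ∀ y', Q y' → sq D l y' = m → L y' ≤ L y := by
    intro y' hy' hy2
    have h3 := hL y'
    have h4 : n ≤ ((m : ℤ) - L y').toNat :=
      Nat.find_min' h2 ⟨y', hy', hy2, (Int.toNat_of_nonneg (by omega)).symm⟩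
    omega
  -- dominance
  have hdom : ∀ j, 0 ≤ y j := by
    intro j
    have hQ' : Q (srefl D l j y) := by
      have := hP _ j hyQ
      rw [srefl_cast] at this
      exact this
    have hsq' : sq D l (srefl D l j y) = m := by rw [sq_eq, ms_srefl hp, ← sq_eq, hym]
    have h3 := hmin2 _ hQ' hsq'
    have h4 : L (srefl D l j y) = L y - (∑ i, cartanOf D l j i * ∑ s ∈ S, vec D l s i) * y j := by
      show ∑ s ∈ S, rv D l (srefl D l j y) s = ∑ s ∈ S, rv D l y s - _
      have h5 : ∀ s ∈ S, rv D l (srefl D l j y) s = rv D l y s - (∑ i, cartanOf D l j i * vec D l s i) * y j := by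
        intro s _
        unfold rv srefl
        simp only [Int.cast_id, mul_sub]
        rw [Finset.sum_sub_distrib, Finset.sum_mul]
        congr 1
        refine Finset.sum_congr rfl fun i _ => ?_
        ring
      rw [Finset.sum_congr rfl h5, Finset.sum_sub_distrib, ← Finset.sum_mul]
      congr 2
      rw [Finset.sum_comm]
      refine Finset.sum_congr rfl fun i _ => ?_
      rw [Finset.mul_sum]
    rw [h4] at h3
    have h6 := hS j
    by_contra hneg
    push Not at hneg
    nlinarith
  -- the highest root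
  have hhigh : ∑ i, θ i * y i ≤ N := by
    let y' : Fin l → ℤ := fun i => y i - N * a i
    have hQ' : Q y' := by
      show P _
      convert hyQ using 2 with i
      show (((y i - N * a i : ℤ)) : ZMod N) = _
      push_cast
      rw [ZMod.natCast_self, zero_mul, sub_zero]
    have h3 := hmin _ hQ'
    have h4 : sq D l y' = sq D l y - 2 * N * κ * (∑ i, θ i * y i) + N ^ 2 * κ * 2 := by
      have h5 : ∀ s : Fin D.nroots, rv D l y' s ^ 2 = rv D l y s ^ 2 - 2 * N * (rv D l a s * rv D l y s) +
          N ^ 2 * (rv D l a s * rv D l a s) := by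
        intro s
        have h6 : rv D l y' s = rv D l y s - N * rv D l a s := by
          unfold rv
          rw [Finset.mul_sum, ← Finset.sum_sub_distrib]
          refine Finset.sum_congr rfl fun i _ => ?_
          show _ * (y i - N * a i) = _
          ring
        rw [h6]
        ring
      have h7 : ∀ z : Fin l → ℤ, ∑ s : Fin D.nroots, rv D l a s * rv D l z s = κ * ∑ i, θ i * z i := by
        intro z
        have h8 : ∀ s : Fin D.nroots, rv D l a s * rv D l z s =
            ∑ i, ((∑ k, vec D l s k * a k) * vec D l s i) * z i := by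
          intro s
          unfold rv
          simp only [Int.cast_id]
          rw [Finset.mul_sum]
          refine Finset.sum_congr rfl fun i _ => ?_
          ring
        simp only [h8]
        rw [Finset.sum_comm, Finset.mul_sum]
        refine Finset.sum_congr rfl fun i _ => ?_
        rw [← Finset.sum_mul, hθ]
        ring
      unfold sq
      simp only [h5]
      rw [Finset.sum_add_distrib, Finset.sum_sub_distrib, ← Finset.mul_sum, ← Finset.mul_sum, h7, h7, hθ2]
      ring
    rw [h4, hym] at h3
    have hN' : (0 : ℤ) < N := by exact_mod_cast hN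
    have h9 : (0 : ℤ) < N * κ := mul_pos hN' hκ
    by_contra hneg
    push Not at hneg
    nlinarith
  refine ⟨fun i => (y i).toNat, ?_, ?_⟩
  · convert hyQ using 2 with i
    have := Int.toNat_of_nonneg (hdom i)
    conv_rhs => rw [← this]
    push_cast
    rfl
  · convert hhigh using 2 with i
    congr 1
    exact Int.toNat_of_nonneg (hdom _)

theorem srefl_map {R S : Type*} [CommRing R] [CommRing S] (f : R →+* S) (j : Fin l) (v : Fin l → R) :
    srefl D l j (fun i => f (v i)) = fun i => f (srefl D l j v i) := by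
  funext i
  unfold srefl
  rw [map_sub, map_mul, map_intCast]

theorem rv_map {R S : Type*} [CommRing R] [CommRing S] (f : R →+* S) (v : Fin l → R) (s : ℕ) :
    rv D l (fun i => f (v i)) s = f (rv D l v s) := by
  unfold rv
  rw [map_sum]
  refine Finset.sum_congr rfl fun i _ => ?_
  rw [map_mul, map_intCast]

theorem ms_map {R S : Type*} [CommRing R] [CommRing S] (f : R →+* S) (v : Fin l → R) :
    ms D l (fun i => f (v i)) = (ms D l v).map f := by
  rw [ms_eq, ms_eq, Multiset.map_map]
  refine Multiset.map_congr rfl fun s _ => ?_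
  exact rv_map f v s

/-- invariance passes to quotients -/
theorem inv_map {R S : Type*} [CommRing R] [CommRing S] (f : R →+* S) {v : Fin l → R} {q : ℕ}
    (hq : ms D l v = (ms D l v).map (fun a => (q : R) * a)) :
    ms D l (fun i => f (v i)) = (ms D l (fun i => f (v i))).map (fun a => (q : S) * a) := by
  rw [ms_map]
  conv_lhs => rw [hq]
  rw [Multiset.map_map, Multiset.map_map]
  refine Multiset.map_congr rfl fun a _ => ?_
  simp only [Function.comp_apply]
  rw [map_mul, map_natCast]

include hp in
theorem srefl_eq_zero {R : Type*} [CommRing R] {j : Fin l} {v : Fin l → R} (h : srefl D l j v = 0) : v = 0 := by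
  have h1 : v j = 0 := by
    have h2 := congrFun h j
    unfold srefl at h2
    rw [hp.isCartan.diag, Pi.zero_apply] at h2
    push_cast at h2
    linear_combination -h2
  funext i
  have h2 := congrFun h i
  unfold srefl at h2
  rw [h1, mul_zero, sub_zero] at h2
  exact h2

end Cfsg.Agent.H944.Kac
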