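import Mathlib
import Cfsg.Agent.H944.Kac

/-!
# Tables for the computations with Kac coordinates (helper944)

The positive roots of a datum as a list `R` of lists of natural numbers (`chkTab D l R`), the multiset of the root values in
terms of `R` (`sum_ms`), and the enumeration of the vectors `y` with `θ y ≤ N` (`allAlc`).
-/

set_option autoImplicit false
set_option linter.unusedSectionVars false

namespace Cfsg.Agent.H944.Tab

open Cfsg.Agent.ChevalleyStructure.CoxeterGeom Cfsg.Agent.Tits.Roots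
  Cfsg.Agent.Nodes.RGDChev
open Cfsg.Lie Cfsg.Agent.ChevalleyStructure Cfsg.Agent.ChevalleyStructure.Elts
  Cfsg.Agent.ChevalleyStructure.RootVec Cfsg.Agent.ChevalleyStructure.RootVecTab
  Cfsg.Agent.ChevalleyStructure.NPerm Cfsg.Agent.ChevalleyStructure.CoxeterGeomTypes
open Cfsg.Agent.H944.RootVals Cfsg.Agent.H944.Kac

/-! ### lists of natural numbers -/

/-- The scalar product of two lists of natural numbers. -/
def dotN : List ℕ → List ℕ → ℕ
  | a :: as, b :: bs => a * b + dotN as bs
  | _, _ => 0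

theorem dotN_nil_left (L : List ℕ) : dotN [] L = 0 := by
  cases L <;> rfl

theorem dotN_nil_right (L : List ℕ) : dotN L [] = 0 := by
  cases L <;> rfl

theorem dotN_eq (l : ℕ) : ∀ (r V : List ℕ), r.length ≤ l → dotN r V = ∑ i : Fin l, r.getD i 0 * V.getD i 0 := by
  induction l with
  | zero =>
    intro r V hr
    have : r = [] := List.length_eq_zero_iff.1 (by omega)
    subst this
    rw [dotN_nil_left]
    simp
  | succ n ih =>
    intro r V hr
    rw [Fin.sum_univ_succ]
    cases r with
    | nil => rw [dotN_nil_left]; simp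
    | cons a as =>
      cases V with
      | nil => rw [dotN_nil_right]; simp
      | cons b bs =>
        rw [dotN, ih as bs (by simpa using hr)]
        simp

/-- The sum of `h (r · V)`, `r` running over a list. -/
def sumH (h : ℕ → ℕ) : List (List ℕ) → List ℕ → ℕ
  | [], _ => 0
  | r :: rs, V => h (dotN r V) + sumH h rs V

theorem sumH_eq (h : ℕ → ℕ) (R : List (List ℕ)) (V : List ℕ) : sumH h R V = (R.map fun r => h (dotN r V)).sum := by
  induction R with
  | nil => rfl
  | cons r R ih => rw [sumH, ih, List.map_cons, List.sum_cons]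

/-- Every list `y` with `θ · y ≤ N` of the length of `θ` satisfies `p`. -/
def allAlc : List ℕ → ℕ → (List ℕ → Bool) → Bool
  | [], _, p => p []
  | t :: ts, N, p => (List.range (N / t + 1)).all fun x => allAlc ts (N - t * x) fun y => p (x :: y)

theorem allAlc_spec (θ : List ℕ) : ∀ (N : ℕ) (p : List ℕ → Bool), (∀ t ∈ θ, 0 < t) → allAlc θ N p = true →
    ∀ y : List ℕ, y.length = θ.length → dotN θ y ≤ N → p y = true := by
  induction θ with
  | nil =>
    intro N p _ h y hy _
    have : y = [] := List.length_eq_zero_iff.1 (by simpa using hy)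
    subst this
    exact h
  | cons t ts ih =>
    intro N p h0 h y hy hle
    cases y with
    | nil => simp at hy
    | cons x y =>
      rw [dotN] at hle
      rw [allAlc, List.all_eq_true] at h
      have ht : 0 < t := h0 t (by simp)
      have h1 : x ≤ N / t := by
        rw [Nat.le_div_iff_mul_le ht]
        nlinarith
      have h2 := h x (by rw [List.mem_range]; omega)
      exact ih (N - t * x) _ (fun s hs => h0 s (by simp [hs])) h2 y (by simpa using hy) (by omega)

/-- Every list of length `n` of natural numbers less than `m` satisfies `p`. -/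
def allLt (m : ℕ) : ℕ → (List ℕ → Bool) → Bool
  | 0, p => p []
  | n + 1, p => (List.range m).all fun x => allLt m n fun y => p (x :: y)

theorem allLt_spec (m : ℕ) (n : ℕ) : ∀ (p : List ℕ → Bool), allLt m n p = true →
    ∀ y : List ℕ, y.length = n → (∀ x ∈ y, x < m) → p y = true := by
  induction n with
  | zero =>
    intro p h y hy _
    have : y = [] := List.length_eq_zero_iff.1 (by simpa using hy)
    subst this
    exact h
  | succ n ih =>
    intro p h y hy hle
    cases y with
    | nil => simp at hy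
    | cons x y =>
      rw [allLt, List.all_eq_true] at h
      have h2 := h x (by rw [List.mem_range]; exact hle x (by simp))
      exact ih _ h2 y (by simpa using hy) fun z hz => hle z (by simp [hz])

/-! ### the table of the positive roots -/

/-- `R` is the table of the positive roots of `D`, in the order of the indices. -/
def chkTab (D : ChevalleyDatum) (l : ℕ) (R : List (List ℕ)) : Bool :=
  decide ((List.range D.nroots).map (fun s => (List.range l).map fun i => rt D s i) =
    (R.reverse.map (List.map fun a : ℕ => -(a : ℤ))) ++ R.map (List.map fun a : ℕ => (a : ℤ)))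

variable {D : ChevalleyDatum} {l : ℕ}

/-- The value of a list on a vector. -/
def dotF {S : Type*} [CommRing S] (r : List ℕ) (v : Fin l → S) : S := ∑ i : Fin l, ((r.getD i 0 : ℕ) : S) * v i

theorem ms_tab {S : Type*} [CommRing S] {R : List (List ℕ)} (hR : chkTab D l R = true) (v : Fin l → S) :
    ms D l v = ((R.map fun r => dotF r v : List S) : Multiset S) + ((R.map fun r => - dotF r v : List S) : Multiset S) := by
  rw [chkTab, decide_eq_true_iff] at hR
  have h1 : ms D l v = (((List.range D.nroots).map fun s => rv D l v s : List S) : Multiset S) := by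
    rw [ms_eq]
    have h2 : (Finset.univ : Finset (Fin D.nroots)).val = ((List.finRange D.nroots : List (Fin D.nroots)) : Multiset _) := rfl
    rw [h2, Multiset.map_coe]
    congr 1
    rw [← List.map_coe_finRange_eq_range, List.map_map]
    rfl
  have h3 : ∀ s, rv D l v s = ∑ i : Fin l, ((((List.range l).map fun i => rt D s i).getD i 0 : ℤ) : S) * v i := by
    intro s
    unfold rv
    refine Finset.sum_congr rfl fun i _ => ?_
    congr 2
    rw [vec_apply, List.getD_eq_getElem _ _ (by simp)]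
    simp
  have h4 : ((List.range D.nroots).map fun s => rv D l v s) =
      ((List.range D.nroots).map (fun s => (List.range l).map fun i => rt D s i)).map
        (fun t => ∑ i : Fin l, ((t.getD i 0 : ℤ) : S) * v i) := by
    rw [List.map_map]
    exact List.map_congr_left fun s _ => h3 s
  rw [h1, h4, hR, List.map_append, List.map_map, List.map_map, ← Multiset.coe_add, add_comm]
  have h5 : (fun t : List ℤ => ∑ i : Fin l, ((t.getD i 0 : ℤ) : S) * v i) ∘ (List.map fun a : ℕ => (a : ℤ)) =
      fun r => dotF r v := by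
    funext r
    simp only [Function.comp_apply]
    unfold dotF
    refine Finset.sum_congr rfl fun i _ => ?_
    have : (r.map fun a : ℕ => (a : ℤ)).getD i 0 = ((r.getD i 0 : ℕ) : ℤ) := by
      rw [show (0 : ℤ) = ((0 : ℕ) : ℤ) from rfl, List.getD_map]
    rw [this, Int.cast_natCast]
  have h6 : (fun t : List ℤ => ∑ i : Fin l, ((t.getD i 0 : ℤ) : S) * v i) ∘ (List.map fun a : ℕ => -(a : ℤ)) =
      fun r => - dotF r v := by
    funext r
    simp only [Function.comp_apply]
    unfold dotF
    rw [← Finset.sum_neg_distrib]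
    refine Finset.sum_congr rfl fun i _ => ?_
    have : (r.map fun a : ℕ => -(a : ℤ)).getD i 0 = -((r.getD i 0 : ℕ) : ℤ) := by
      rw [show (0 : ℤ) = -((0 : ℕ) : ℤ) from rfl, List.getD_map (f := fun a : ℕ => -(a : ℤ))]
    rw [this]
    push_cast
    ring
  rw [h5, h6, List.map_reverse]
  congr 1
  exact Multiset.coe_eq_coe.2 (List.reverse_perm _)

/-- sums over the multiset of root values -/
theorem sum_ms {S A : Type*} [CommRing S] [AddCommMonoid A] {R : List (List ℕ)} (hR : chkTab D l R = true)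
    (v : Fin l → S) (g : S → A) :
    ((ms D l v).map g).sum = (R.map fun r => g (dotF r v) + g (- dotF r v)).sum := by
  rw [ms_tab hR, Multiset.map_add, Multiset.sum_add, Multiset.map_coe, Multiset.map_coe, Multiset.sum_coe,
    Multiset.sum_coe, List.map_map, List.map_map, ← List.sum_map_add]
  rfl

/-- sums over the root values, for an invariant multiset -/
theorem sum_inv {S A : Type*} [CommRing S] [AddCommMonoid A] {R : List (List ℕ)} (hR : chkTab D l R = true)
    {v : Fin l → S} {q : S} (hq : ms D l v = (ms D l v).map (fun a => q * a)) (g : S → A) :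
    (R.map fun r => g (dotF r v) + g (- dotF r v)).sum =
      (R.map fun r => g (q * dotF r v) + g (- (q * dotF r v))).sum := by
  rw [← sum_ms hR, hq, Multiset.map_map, sum_ms hR]
  congr 1
  refine List.map_congr_left fun r _ => ?_
  simp only [Function.comp_apply, mul_neg]

/-- The code of the pair of values `± t` modulo `N`. -/
def hh (N t : ℕ) : ℕ := 256 ^ (t % N) + 256 ^ ((N - t % N) % N)

/-- Frobenius invariance, as a check. -/
def invB (N q : ℕ) (R : List (List ℕ)) (V : List ℕ) : Bool :=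
  Nat.beq (sumH (hh N) R V) (sumH (fun t => hh N (q * t)) R V)

theorem invB_of {N : ℕ} (hN : 0 < N) {q : ℕ} {R : List (List ℕ)} (hR : chkTab D l R = true)
    (hRl : ∀ r ∈ R, r.length ≤ l) {V : List ℕ}
    (hq : ms D l (fun i => ((V.getD i 0 : ℕ) : ZMod N)) =
      (ms D l (fun i : Fin l => ((V.getD i 0 : ℕ) : ZMod N))).map (fun a => (q : ZMod N) * a)) : invB N q R V = true := by
  have : NeZero N := ⟨hN.ne'⟩
  rw [invB, Nat.beq_eq, sumH_eq, sumH_eq]
  have h1 := sum_inv hR hq (fun c : ZMod N => 256 ^ c.val)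
  have h2 : ∀ t : ℕ, 256 ^ (t : ZMod N).val + 256 ^ (-(t : ZMod N)).val = hh N t := by
    intro t
    rw [hh, ZMod.val_natCast]
    congr 2
    by_cases h0 : t % N = 0
    · have h3 : (t : ZMod N) = 0 := by rw [ZMod.natCast_eq_zero_iff]; exact Nat.dvd_of_mod_eq_zero h0
      rw [h3, neg_zero, ZMod.val_zero, h0, Nat.sub_zero, Nat.mod_self]
    · have h3 : (t : ZMod N) ≠ 0 := by
        intro h4
        rw [ZMod.natCast_eq_zero_iff] at h4
        exact h0 (Nat.mod_eq_zero_of_dvd h4)
      have : NeZero (t : ZMod N) := ⟨h3⟩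
      rw [ZMod.val_neg_of_ne_zero, ZMod.val_natCast]
      refine (Nat.mod_eq_of_lt ?_).symm
      have := Nat.mod_lt t hN
      omega
  have h3 : ∀ r ∈ R, dotF r (fun i : Fin l => ((V.getD i 0 : ℕ) : ZMod N)) = ((dotN r V : ℕ) : ZMod N) := by
    intro r hr
    rw [dotN_eq l r V (hRl r hr)]
    unfold dotF
    push_cast
    rfl
  have h4 : (R.map fun r => hh N (dotN r V)) = R.map fun r => (256 ^ (dotF r (fun i : Fin l => ((V.getD i 0 : ℕ) : ZMod N))).val +
      256 ^ (-(dotF r (fun i : Fin l => ((V.getD i 0 : ℕ) : ZMod N)))).val) := by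
    refine List.map_congr_left fun r hr => ?_
    rw [h3 r hr, h2]
  have h5 : (R.map fun r => hh N (q * dotN r V)) = R.map fun r =>
      (256 ^ ((q : ZMod N) * dotF r (fun i : Fin l => ((V.getD i 0 : ℕ) : ZMod N))).val +
      256 ^ (-((q : ZMod N) * dotF r (fun i : Fin l => ((V.getD i 0 : ℕ) : ZMod N)))).val) := by
    refine List.map_congr_left fun r hr => ?_
    rw [h3 r hr, ← Nat.cast_mul, h2]
  rw [h4, h5]
  exact h1

/-! ### linear conditions -/

/-- The coefficient of the root with value `t` in the sum over the class `c`. -/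
def ee (N c t : ℕ) : ℤ := (if t % N = c then 1 else 0) - (if (N - t % N) % N = c then 1 else 0)

/-- The coefficient of a root in the linear condition of the class `c`. -/
def bb (N q c t : ℕ) : ℤ := ee N c t - q * ee N c (q * t)

/-- The linear condition of the class `c`. -/
def colB (N q c : ℕ) (y : List ℕ) (i : ℕ) : List (List ℕ) → ℤ
  | [] => 0
  | r :: rs => bb N q c (dotN r y) * (r.getD i 0 : ℤ) + colB N q c y i rs

theorem colB_eq (N q c : ℕ) (y : List ℕ) (i : ℕ) (R : List (List ℕ)) :
    colB N q c y i R = (R.map fun r => bb N q c (dotN r y) * (r.getD i 0 : ℤ)).sum := by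
  induction R with
  | nil => rfl
  | cons r R ih => rw [colB, ih, List.map_cons, List.sum_cons]

/-- The check of the linear conditions: `B` is a list of pairs (class, condition). -/
def chkB (N₁ N₂ q l : ℕ) (R : List (List ℕ)) (y : List ℕ) (B : List (ℕ × List ℕ)) : Bool :=
  B.all fun cb => decide (cb.1 < N₁) && decide (cb.2.length ≤ l) &&
    (List.range l).all fun i => decide (colB N₁ q cb.1 y i R % (N₂ : ℤ) = (cb.2.getD i 0 : ℤ) % (N₂ : ℤ))

theorem neg_mod_iff {N : ℕ} (hN : 0 < N) (t : ℕ) {c : ℕ} (hc : c < N) :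
    (-(t : ZMod N) = (c : ZMod N)) ↔ (N - t % N) % N = c := by
  have h1 : (-(t : ZMod N)) = (((N - t % N) % N : ℕ) : ZMod N) := by
    rw [ZMod.natCast_mod, Nat.cast_sub (Nat.mod_lt t hN).le, ZMod.natCast_self, ZMod.natCast_mod, zero_sub]
  rw [h1]
  constructor
  · intro h
    rw [ZMod.natCast_eq_natCast_iff'] at h
    rwa [Nat.mod_mod, Nat.mod_eq_of_lt hc] at h
  · intro h; rw [h]

theorem mod_iff {N : ℕ} (t : ℕ) {c : ℕ} (hc : c < N) :
    ((t : ZMod N) = (c : ZMod N)) ↔ t % N = c := by
  rw [ZMod.natCast_eq_natCast_iff', Nat.mod_eq_of_lt hc]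

theorem sum_map_sub' {α A : Type*} [AddCommGroup A] (f g : α → A) (R : List α) :
    (R.map fun r => f r - g r).sum = (R.map f).sum - (R.map g).sum := by
  induction R with
  | nil => simp
  | cons r R ih =>
    simp only [List.map_cons, List.sum_cons, ih]
    abel

theorem lin_of {N₁ N₂ : ℕ} (hN₁ : 0 < N₁) {q : ℕ} {R : List (List ℕ)} (hR : chkTab D l R = true)
    (hRl : ∀ r ∈ R, r.length ≤ l) {y : List ℕ} {v : Fin l → ZMod (N₁ * N₂)}
    (hq : ms D l v = (ms D l v).map (fun a => (q : ZMod (N₁ * N₂)) * a))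
    (hy : ∀ i : Fin l, ZMod.castHom (Dvd.intro _ rfl) (ZMod N₁) (v i) = (y.getD i 0 : ZMod N₁))
    {B : List (ℕ × List ℕ)} (hB : chkB N₁ N₂ q l R y B = true) :
    ∀ cb ∈ B, ∑ i : Fin l, ((cb.2.getD i 0 : ℕ) : ZMod N₂) *
      ZMod.castHom (Dvd.intro_left _ rfl) (ZMod N₂) (v i) = 0 := by
  classical
  intro cb hcb
  rw [chkB, List.all_eq_true] at hB
  have hB1 := hB cb hcb
  rw [Bool.and_eq_true, Bool.and_eq_true, decide_eq_true_iff, decide_eq_true_iff, List.all_eq_true] at hB1
  obtain ⟨⟨hc, -⟩, hcol⟩ := hB1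
  set c := cb.1 with hcdef
  set b := cb.2 with hbdef
  let p₁ : ZMod (N₁ * N₂) →+* ZMod N₁ := ZMod.castHom (Dvd.intro _ rfl) (ZMod N₁)
  let p₂ : ZMod (N₁ * N₂) →+* ZMod N₂ := ZMod.castHom (Dvd.intro_left _ rfl) (ZMod N₂)
  let u : Fin l → ZMod N₂ := fun i => p₂ (v i)
  have h1 := sum_inv hR hq (fun a => if p₁ a = (c : ZMod N₁) then p₂ a else 0)
  have hd1 : ∀ r ∈ R, p₁ (dotF r v) = ((dotN r y : ℕ) : ZMod N₁) := by
    intro r hr
    rw [dotN_eq l r y (hRl r hr)]
    unfold dotF
    rw [map_sum]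
    push_cast
    refine Finset.sum_congr rfl fun i _ => ?_
    rw [map_mul, map_natCast, ← hy i]
  have hd2 : ∀ r, p₂ (dotF r v) = dotF r u := by
    intro r
    unfold dotF
    rw [map_sum]
    refine Finset.sum_congr rfl fun i _ => ?_
    rw [map_mul, map_natCast]
  have h2 : ∀ r ∈ R, ((if p₁ (dotF r v) = (c : ZMod N₁) then p₂ (dotF r v) else 0) +
      (if p₁ (- dotF r v) = (c : ZMod N₁) then p₂ (- dotF r v) else 0)) =
      ((ee N₁ c (dotN r y) : ℤ) : ZMod N₂) * dotF r u := by
    intro r hr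
    rw [map_neg, map_neg, hd1 r hr, hd2]
    simp only [mod_iff _ hc, neg_mod_iff hN₁ _ hc, ee]
    split_ifs <;> push_cast <;> ring
  have h3 : ∀ r ∈ R, ((if p₁ ((q : ZMod (N₁ * N₂)) * dotF r v) = (c : ZMod N₁) then p₂ ((q : ZMod (N₁ * N₂)) * dotF r v) else 0) +
      (if p₁ (-((q : ZMod (N₁ * N₂)) * dotF r v)) = (c : ZMod N₁) then p₂ (-((q : ZMod (N₁ * N₂)) * dotF r v)) else 0)) =
      (((q : ℤ) * ee N₁ c (q * dotN r y) : ℤ) : ZMod N₂) * dotF r u := by
    intro r hr
    rw [map_neg, map_neg, map_mul, map_mul, map_natCast, map_natCast, hd1 r hr, hd2, ← Nat.cast_mul]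
    simp only [mod_iff _ hc, neg_mod_iff hN₁ _ hc, ee]
    split_ifs <;> push_cast <;> ring
  have h4 : (R.map fun r => ((bb N₁ q c (dotN r y) : ℤ) : ZMod N₂) * dotF r u).sum = 0 := by
    have h5 : (R.map fun r => ((bb N₁ q c (dotN r y) : ℤ) : ZMod N₂) * dotF r u).sum =
        (R.map fun r => ((ee N₁ c (dotN r y) : ℤ) : ZMod N₂) * dotF r u).sum -
        (R.map fun r => (((q : ℤ) * ee N₁ c (q * dotN r y) : ℤ) : ZMod N₂) * dotF r u).sum := by
      rw [← sum_map_sub']
      congr 1
      refine List.map_congr_left fun r _ => ?_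
      rw [bb]
      push_cast
      ring
    rw [h5, sub_eq_zero, ← List.map_congr_left h2, ← List.map_congr_left h3]
    exact h1
  have h6 : (R.map fun r => ((bb N₁ q c (dotN r y) : ℤ) : ZMod N₂) * dotF r u).sum =
      ∑ i : Fin l, ((colB N₁ q c y i R : ℤ) : ZMod N₂) * u i := by
    clear hB hcb hR hRl h1 hd1 hd2 h2 h3 h4 hcol
    induction R with
    | nil => simp [colB]
    | cons r R ih =>
      rw [List.map_cons, List.sum_cons, ih]
      simp only [colB]
      unfold dotF
      rw [Finset.mul_sum, ← Finset.sum_add_distrib]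
      refine Finset.sum_congr rfl fun i _ => ?_
      push_cast
      ring
  rw [h6] at h4
  rw [← h4]
  refine Finset.sum_congr rfl fun i _ => ?_
  congr 1
  have h7 := hcol i (by rw [List.mem_range]; exact i.2)
  rw [decide_eq_true_iff] at h7
  have h8 := (ZMod.intCast_eq_intCast_iff' _ _ N₂).2 h7
  rw [h8, Int.cast_natCast]

/-! ### the search for a second component -/

/-- Chinese remainders. -/
def crt (e₁ e₂ N : ℕ) : List ℕ → List ℕ → List ℕ
  | a :: as, b :: bs => (e₁ * a + e₂ * b) % N :: crt e₁ e₂ N as bs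
  | _, _ => []

theorem crt_length (e₁ e₂ N : ℕ) : ∀ (as bs : List ℕ), as.length = bs.length → (crt e₁ e₂ N as bs).length = as.length
  | [], [], _ => rfl
  | [], _ :: _, h => by simp at h
  | _ :: _, [], h => by simp at h
  | a :: as, b :: bs, h => by
    rw [crt, List.length_cons, crt_length e₁ e₂ N as bs (by simpa using h), List.length_cons]

theorem crt_getD (e₁ e₂ N : ℕ) : ∀ (as bs : List ℕ) (_ : as.length = bs.length) (i : ℕ),
    (crt e₁ e₂ N as bs).getD i 0 = (e₁ * as.getD i 0 + e₂ * bs.getD i 0) % N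
  | [], [], _, i => by simp [crt]
  | [], _ :: _, h, _ => by simp at h
  | _ :: _, [], h, _ => by simp at h
  | a :: as, b :: bs, h, 0 => by simp [crt]
  | a :: as, b :: bs, h, i + 1 => by
    rw [crt, List.getD_cons_succ, List.getD_cons_succ, List.getD_cons_succ,
      crt_getD e₁ e₂ N as bs (by simpa using h) i]

/-- The list is zero. -/
def isZ : List ℕ → Bool
  | [] => true
  | a :: as => Nat.beq a 0 && isZ as

theorem isZ_spec : ∀ (L : List ℕ), isZ L = true → ∀ a ∈ L, a = 0
  | [], _, a, ha => by simp at ha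
  | b :: bs, h, a, ha => by
    rw [isZ, Bool.and_eq_true, Nat.beq_eq] at h
    rcases List.mem_cons.1 ha with rfl | ha
    · exact h.1
    · exact isZ_spec bs h.2 a ha

/-- With first component `y` modulo `N₁` the second component modulo `N₂` is zero. -/
def chkSnd (N₁ N₂ e₁ e₂ q l : ℕ) (R : List (List ℕ)) (y : List ℕ) (B : List (ℕ × List ℕ)) : Bool :=
  allLt N₂ l fun u => bif (B.all fun cb => Nat.beq (dotN cb.2 u % N₂) 0) then
    (bif isZ u then true else !(invB (N₁ * N₂) q R (crt e₁ e₂ (N₁ * N₂) y u))) else true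

theorem snd_zero {N₁ N₂ e₁ e₂ : ℕ} (hN₁ : 0 < N₁) (hN₂ : 0 < N₂) (hco : N₁.Coprime N₂) (he₁ : e₁ % N₁ = 1 % N₁)
    (he₁' : e₁ % N₂ = 0) (he₂ : e₂ % N₂ = 1 % N₂) (he₂' : e₂ % N₁ = 0) {q : ℕ} {R : List (List ℕ)}
    (hR : chkTab D l R = true) (hRl : ∀ r ∈ R, r.length ≤ l) {y : List ℕ} (hyl : y.length = l)
    {v : Fin l → ZMod (N₁ * N₂)} (hq : ms D l v = (ms D l v).map (fun a => (q : ZMod (N₁ * N₂)) * a))
    (hy : ∀ i : Fin l, ZMod.castHom (Dvd.intro _ rfl) (ZMod N₁) (v i) = (y.getD i 0 : ZMod N₁))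
    {B : List (ℕ × List ℕ)} (hB : chkB N₁ N₂ q l R y B = true) (hS : chkSnd N₁ N₂ e₁ e₂ q l R y B = true) :
    ∀ i, ZMod.castHom (Dvd.intro_left _ rfl) (ZMod N₂) (v i) = 0 := by
  have : NeZero N₁ := ⟨hN₁.ne'⟩
  have : NeZero N₂ := ⟨hN₂.ne'⟩
  have hNpos : 0 < N₁ * N₂ := Nat.mul_pos hN₁ hN₂
  have : NeZero (N₁ * N₂) := ⟨hNpos.ne'⟩
  have hlin := lin_of hN₁ hR hRl hq hy hB
  let p₁ : ZMod (N₁ * N₂) →+* ZMod N₁ := ZMod.castHom (Dvd.intro _ rfl) (ZMod N₁)
  let p₂ : ZMod (N₁ * N₂) →+* ZMod N₂ := ZMod.castHom (Dvd.intro_left _ rfl) (ZMod N₂)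
  let U : List ℕ := List.ofFn fun i : Fin l => (p₂ (v i)).val
  have hUl : U.length = l := List.length_ofFn
  have hU : ∀ i : Fin l, U.getD i 0 = (p₂ (v i)).val := by
    intro i
    rw [List.getD_eq_getElem _ _ (by rw [hUl]; exact i.2), List.getElem_ofFn]
  have hU' : ∀ x ∈ U, x < N₂ := by
    intro x hx
    obtain ⟨i, rfl⟩ := (List.mem_ofFn' _ _).1 hx
    exact ZMod.val_lt _
  have hS' := allLt_spec N₂ l _ hS U hUl hU'
  have h1 : (B.all fun cb => Nat.beq (dotN cb.2 U % N₂) 0) = true := by
    rw [List.all_eq_true]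
    intro cb hcb
    rw [Nat.beq_eq]
    have hlen : cb.2.length ≤ l := by
      rw [chkB, List.all_eq_true] at hB
      have hB1 := hB cb hcb
      rw [Bool.and_eq_true, Bool.and_eq_true, decide_eq_true_iff, decide_eq_true_iff] at hB1
      exact hB1.1.2
    have h2 := hlin cb hcb
    refine Nat.mod_eq_zero_of_dvd ((ZMod.natCast_eq_zero_iff _ _).1 ?_)
    rw [dotN_eq l _ _ hlen, ← h2]
    push_cast
    refine Finset.sum_congr rfl fun i _ => ?_
    congr 1
    rw [hU i]
    exact ZMod.natCast_zmod_val _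
  rw [h1, cond_true] at hS'
  have h3 : invB (N₁ * N₂) q R (crt e₁ e₂ (N₁ * N₂) y U) = true := by
    refine invB_of hNpos hR hRl ?_
    have h4 : (fun i : Fin l => (((crt e₁ e₂ (N₁ * N₂) y U).getD i 0 : ℕ) : ZMod (N₁ * N₂))) = v := by
      funext i
      rw [crt_getD e₁ e₂ _ y U (by rw [hyl, hUl]), ZMod.natCast_mod, hU i]
      apply (ZMod.chineseRemainder hco).injective
      have h5 : ∀ z : ZMod (N₁ * N₂), ZMod.chineseRemainder hco z = (p₁ z, p₂ z) := by
        intro z
        apply Prod.ext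
        · exact RingHom.congr_fun (Subsingleton.elim ((RingHom.fst _ _).comp (ZMod.chineseRemainder hco).toRingHom) p₁) z
        · exact RingHom.congr_fun (Subsingleton.elim ((RingHom.snd _ _).comp (ZMod.chineseRemainder hco).toRingHom) p₂) z
      rw [h5, h5]
      have e1 : ((e₁ : ℕ) : ZMod N₁) = 1 := by
        have := (ZMod.natCast_eq_natCast_iff' e₁ 1 N₁).2 he₁
        rw [this, Nat.cast_one]
      have e2 : ((e₂ : ℕ) : ZMod N₁) = 0 := (ZMod.natCast_eq_zero_iff _ _).2 (Nat.dvd_of_mod_eq_zero he₂')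
      have e3 : ((e₁ : ℕ) : ZMod N₂) = 0 := (ZMod.natCast_eq_zero_iff _ _).2 (Nat.dvd_of_mod_eq_zero he₁')
      have e4 : ((e₂ : ℕ) : ZMod N₂) = 1 := by
        have := (ZMod.natCast_eq_natCast_iff' e₂ 1 N₂).2 he₂
        rw [this, Nat.cast_one]
      apply Prod.ext
      · show p₁ _ = p₁ _
        rw [map_natCast]
        push_cast
        rw [e1, e2, zero_mul, add_zero, one_mul]
        exact (hy i).symm
      · show p₂ _ = p₂ _
        rw [map_natCast]
        push_cast
        rw [e3, e4, zero_mul, zero_add, one_mul]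
        exact ZMod.natCast_zmod_val _
    rw [h4]
    exact hq
  rw [h3] at hS'
  have h6 : isZ U = true := by
    cases h : isZ U with
    | true => rfl
    | false => rw [h] at hS'; simp at hS'
  intro i
  have h7 := isZ_spec U h6 ((p₂ (v i)).val) (by
    rw [List.mem_ofFn']
    exact ⟨i, rfl⟩)
  exact (ZMod.val_eq_zero _).1 h7

end Cfsg.Agent.H944.Tab
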