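import Mathlib
import Cfsg.Agent.H944.Tab

/-!
# No element of order 65 in the Chevalley group of type `E₇` over the field of two elements (helper944)
-/

set_option autoImplicit false
set_option linter.unusedSectionVars false
set_option maxRecDepth 100000

namespace Cfsg.Agent.H944.E7Two

open Cfsg.Agent.ChevalleyStructure.CoxeterGeom Cfsg.Agent.Tits.Roots
  Cfsg.Agent.Nodes.RGDChev
open Cfsg.Lie Cfsg.Agent.ChevalleyStructure Cfsg.Agent.ChevalleyStructure.Elts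
  Cfsg.Agent.ChevalleyStructure.RootVec Cfsg.Agent.ChevalleyStructure.RootVecTab
  Cfsg.Agent.ChevalleyStructure.NPerm Cfsg.Agent.ChevalleyStructure.CoxeterGeomTypes
open Cfsg.Agent.H944.RootVals Cfsg.Agent.H944.Kac Cfsg.Agent.H944.Tab

/-- The positive roots of `E₇`. -/
def R7 : List (List ℕ) :=
  [[0, 0, 0, 0, 0, 0, 1], [0, 0, 0, 0, 0, 1, 0], [0, 0, 0, 0, 0, 1, 1], [0, 0, 0, 0, 1, 0, 0], [0, 0, 0, 0, 1,
   1, 0], [0, 0, 0, 0, 1, 1, 1], [0, 0, 0, 1, 0, 0, 0], [0, 0, 0, 1, 1, 0, 0], [0, 0, 0, 1, 1, 1, 0], [0, 0, 0,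
   1, 1, 1, 1], [0, 0, 1, 0, 0, 0, 0], [0, 0, 1, 1, 0, 0, 0], [0, 0, 1, 1, 1, 0, 0], [0, 0, 1, 1, 1, 1, 0], [0,
   0, 1, 1, 1, 1, 1], [0, 1, 0, 0, 0, 0, 0], [0, 1, 0, 1, 0, 0, 0], [0, 1, 0, 1, 1, 0, 0], [0, 1, 0, 1, 1, 1, 0],
   [0, 1, 0, 1, 1, 1, 1], [0, 1, 1, 1, 0, 0, 0], [0, 1, 1, 1, 1, 0, 0], [0, 1, 1, 1, 1, 1, 0], [0, 1, 1, 1, 1, 1,
   1], [0, 1, 1, 2, 1, 0, 0], [0, 1, 1, 2, 1, 1, 0], [0, 1, 1, 2, 1, 1, 1], [0, 1, 1, 2, 2, 1, 0], [0, 1, 1, 2,
   2, 1, 1], [0, 1, 1, 2, 2, 2, 1], [1, 0, 0, 0, 0, 0, 0], [1, 0, 1, 0, 0, 0, 0], [1, 0, 1, 1, 0, 0, 0], [1, 0,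
   1, 1, 1, 0, 0], [1, 0, 1, 1, 1, 1, 0], [1, 0, 1, 1, 1, 1, 1], [1, 1, 1, 1, 0, 0, 0], [1, 1, 1, 1, 1, 0, 0],
   [1, 1, 1, 1, 1, 1, 0], [1, 1, 1, 1, 1, 1, 1], [1, 1, 1, 2, 1, 0, 0], [1, 1, 1, 2, 1, 1, 0], [1, 1, 1, 2, 1, 1,
   1], [1, 1, 1, 2, 2, 1, 0], [1, 1, 1, 2, 2, 1, 1], [1, 1, 1, 2, 2, 2, 1], [1, 1, 2, 2, 1, 0, 0], [1, 1, 2, 2,
   1, 1, 0], [1, 1, 2, 2, 1, 1, 1], [1, 1, 2, 2, 2, 1, 0], [1, 1, 2, 2, 2, 1, 1], [1, 1, 2, 2, 2, 2, 1], [1, 1,
   2, 3, 2, 1, 0], [1, 1, 2, 3, 2, 1, 1], [1, 1, 2, 3, 2, 2, 1], [1, 1, 2, 3, 3, 2, 1], [1, 2, 2, 3, 2, 1, 0],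
   [1, 2, 2, 3, 2, 1, 1], [1, 2, 2, 3, 2, 2, 1], [1, 2, 2, 3, 3, 2, 1], [1, 2, 2, 4, 3, 2, 1], [1, 2, 3, 4, 3, 2,
   1], [2, 2, 3, 4, 3, 2, 1]]

/-- The highest root of `E₇`. -/
def th7 : List ℕ := [2, 2, 3, 4, 3, 2, 1]

theorem tab7 : chkTab chevE7 7 R7 = true := by decide +kernel

theorem len7 : ∀ r ∈ R7, r.length ≤ 7 := by decide +kernel

theorem theta7 : ∀ i : Fin 7, ∑ s : Fin chevE7.nroots, (∑ k, vec chevE7 7 s k * (![1, 0, 0, 0, 0, 0, 0] : Fin 7 → ℤ) k) *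
    vec chevE7 7 s i = 36 * (![2, 2, 3, 4, 3, 2, 1] : Fin 7 → ℤ) i := by decide +kernel

theorem pos7 : ∀ j : Fin 7, 0 < ∑ i, cartanOf chevE7 7 j i *
    ∑ s ∈ (Finset.univ : Finset (Fin chevE7.nroots)).filter (fun s : Fin chevE7.nroots => 63 ≤ (s : ℕ)), vec chevE7 7 s i := by
  decide +kernel

/-- the slices of `check13` (split of the kernel check, helper592) -/
def slc13 (x : ℕ) : Bool :=
  allAlc [2, 3, 4, 3, 2, 1] (13 - 2 * x) fun y => (fun y => bif invB 13 2 R7 y then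
    (y == [1, 0, 0, 1, 1, 1, 2] || y == [1, 0, 1, 1, 0, 1, 0] || y == [0, 0, 0, 0, 0, 0, 0] ||
      y == [0, 0, 0, 0, 0, 0, 13]) else true) (x :: y)

theorem slc13_0 : slc13 0 = true := by decide +kernel

theorem slc13_1 : slc13 1 = true := by decide +kernel

theorem slc13_2 : ([2, 3, 4, 5, 6] : List ℕ).all slc13 = true := by decide +kernel

theorem range13 : List.range (13 / 2 + 1) = 0 :: 1 :: [2, 3, 4, 5, 6] := by decide

theorem check13 : allAlc th7 13 (fun y => bif invB 13 2 R7 y then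
    (y == [1, 0, 0, 1, 1, 1, 2] || y == [1, 0, 1, 1, 0, 1, 0] || y == [0, 0, 0, 0, 0, 0, 0] ||
      y == [0, 0, 0, 0, 0, 0, 13]) else true) = true := by
  have key : (List.range (13 / 2 + 1)).all slc13 = true := by
    rw [range13, List.all_cons, List.all_cons, slc13_0, slc13_1, slc13_2]
    rfl
  exact key

/-- linear conditions for the first exceptional vector modulo 13 -/
def B1 : List (ℕ × List ℕ) :=
  [(1, [0, 4, 4, 3, 3, 2, 3]), (2, [0, 4, 4, 3, 4, 3, 3]), (3, [0, 0, 0, 0, 2, 2, 1]), (5, [0, 0, 0, 0, 3, 4, 0])]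

/-- linear conditions for the second exceptional vector modulo 13 -/
def B2 : List (ℕ × List ℕ) :=
  [(1, [1, 3, 4, 1, 0, 4, 2]), (2, [2, 3, 0, 1, 0, 4, 2]), (3, [0, 3, 4, 1, 2, 3, 4]), (5, [4, 0, 3, 0, 0, 0, 0])]

theorem chkB1 : chkB 13 5 2 7 R7 [1, 0, 0, 1, 1, 1, 2] B1 = true := by decide +kernel

theorem chkB2 : chkB 13 5 2 7 R7 [1, 0, 1, 1, 0, 1, 0] B2 = true := by decide +kernel

/-- the slices of `chkSnd` (split of the kernel check, helper592) -/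
def slS (y : List ℕ) (B : List (ℕ × List ℕ)) (x : ℕ) : Bool :=
  allLt 5 6 fun u => (fun u => bif (B.all fun cb => Nat.beq (dotN cb.2 u % 5) 0) then
    (bif isZ u then true else !(invB (13 * 5) 2 R7 (crt 40 26 (13 * 5) y u))) else true) (x :: u)

theorem range5 : List.range 5 = 0 :: 1 :: 2 :: 3 :: [4] := by decide

theorem slS1_0 : slS [1, 0, 0, 1, 1, 1, 2] B1 0 = true := by decide +kernel
theorem slS1_1 : slS [1, 0, 0, 1, 1, 1, 2] B1 1 = true := by decide +kernel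
theorem slS1_2 : slS [1, 0, 0, 1, 1, 1, 2] B1 2 = true := by decide +kernel
theorem slS1_3 : slS [1, 0, 0, 1, 1, 1, 2] B1 3 = true := by decide +kernel
theorem slS1_4 : slS [1, 0, 0, 1, 1, 1, 2] B1 4 = true := by decide +kernel

theorem slS2_0 : slS [1, 0, 1, 1, 0, 1, 0] B2 0 = true := by decide +kernel
theorem slS2_1 : slS [1, 0, 1, 1, 0, 1, 0] B2 1 = true := by decide +kernel
theorem slS2_2 : slS [1, 0, 1, 1, 0, 1, 0] B2 2 = true := by decide +kernel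
theorem slS2_3 : slS [1, 0, 1, 1, 0, 1, 0] B2 3 = true := by decide +kernel
theorem slS2_4 : slS [1, 0, 1, 1, 0, 1, 0] B2 4 = true := by decide +kernel

theorem chkS1 : chkSnd 13 5 40 26 2 7 R7 [1, 0, 0, 1, 1, 1, 2] B1 = true := by
  have key : (List.range 5).all (slS [1, 0, 0, 1, 1, 1, 2] B1) = true := by
    rw [range5]
    simp only [List.all_cons, slS1_0, slS1_1, slS1_2, slS1_3, slS1_4, List.all_nil, Bool.and_self]
  exact key

theorem chkS2 : chkSnd 13 5 40 26 2 7 R7 [1, 0, 1, 1, 0, 1, 0] B2 = true := by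
  have key : (List.range 5).all (slS [1, 0, 1, 1, 0, 1, 0] B2) = true := by
    rw [range5]
    simp only [List.all_cons, slS2_0, slS2_1, slS2_2, slS2_3, slS2_4, List.all_nil, Bool.and_self]
  exact key

theorem e7T : IsType chevE7 7 CoxeterMatrix.E₇ := by simp [IsType, typeList]

/-- **`E₇(2)` has no element of order 65.** -/
theorem no_order (x : ↥(chevE7.group (ZMod 2))) : orderOf x ≠ 65 := by
  intro hx
  have : Fact (Nat.Prime 2) := ⟨Nat.prime_two⟩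
  have hx65 : x ^ (13 * 5) = 1 := by
    rw [show 13 * 5 = orderOf x by rw [hx]]
    exact pow_orderOf_eq_one x
  obtain ⟨v, hv⟩ := exists_vals e7T 2 (F := ZMod 2) (N := 13 * 5) (by norm_num) (by norm_num) hx65
  have hfrob := hv.frob
  rw [Nat.card_zmod] at hfrob
  let p₁ : ZMod (13 * 5) →+* ZMod 13 := ZMod.castHom (Dvd.intro _ rfl) (ZMod 13)
  let p₂ : ZMod (13 * 5) →+* ZMod 5 := ZMod.castHom (Dvd.intro_left _ rfl) (ZMod 5)
  let P : (Fin 7 → ZMod 13) → Prop := fun w => ∃ v : Fin 7 → ZMod (13 * 5), (fun i => p₁ (v i)) = w ∧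
    ms chevE7 7 v = (ms chevE7 7 v).map (fun a => ((2 : ℕ) : ZMod (13 * 5)) * a) ∧ w ≠ 0 ∧ (fun i => p₂ (v i)) ≠ 0
  have hP0 : P (fun i => p₁ (v i)) := by
    refine ⟨v, rfl, hfrob, ?_, ?_⟩
    · intro h0
      have h1 : ∀ i, ((5 : ℕ) : ZMod (13 * 5)) * v i = 0 := by
        intro i
        have h2 : p₁ (v i) = 0 := congrFun h0 i
        revert h2
        generalize v i = z
        revert z
        show ∀ z : ZMod 65, ZMod.castHom (show 13 ∣ 65 by norm_num) (ZMod 13) z = 0 → ((5 : ℕ) : ZMod 65) * z = 0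
        decide +kernel
      have h3 := (hv.ord 5).1 h1
      have h4 := orderOf_dvd_of_pow_eq_one h3
      rw [hx] at h4
      omega
    · intro h0
      have h1 : ∀ i, ((13 : ℕ) : ZMod (13 * 5)) * v i = 0 := by
        intro i
        have h2 : p₂ (v i) = 0 := congrFun h0 i
        revert h2
        generalize v i = z
        revert z
        show ∀ z : ZMod 65, ZMod.castHom (show 5 ∣ 65 by norm_num) (ZMod 5) z = 0 → ((13 : ℕ) : ZMod 65) * z = 0
        decide +kernel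
      have h3 := (hv.ord 13).1 h1
      have h4 := orderOf_dvd_of_pow_eq_one h3
      rw [hx] at h4
      omega
  have hPs : ∀ w j, P w → P (srefl chevE7 7 j w) := by
    rintro w j ⟨v, hvw, hf, hw0, hv0⟩
    refine ⟨srefl chevE7 7 j v, ?_, ?_, ?_, ?_⟩
    · rw [← srefl_map, hvw]
    · rw [ms_srefl e7T, ← hf]
    · intro h; exact hw0 (srefl_eq_zero e7T h)
    · intro h
      rw [← srefl_map] at h
      exact hv0 (srefl_eq_zero e7T h)
  obtain ⟨y, ⟨v, hvy, hf, hw0, hv0⟩, hθ⟩ := exists_alcove e7T (N := 13) (by norm_num) _ _ 36 (by norm_num) theta7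
    (by decide) _ pos7 P hPs hP0
  let Y : List ℕ := List.ofFn y
  have hY : ∀ i : Fin 7, Y.getD i 0 = y i := by
    intro i
    rw [List.getD_eq_getElem _ _ (by rw [List.length_ofFn]; exact i.2), List.getElem_ofFn]
  have h1 : dotN th7 Y ≤ 13 := by
    rw [dotN_eq 7 th7 Y (by decide)]
    have h2 : ∑ i : Fin 7, th7.getD i 0 * Y.getD i 0 = ∑ i : Fin 7, th7.getD i 0 * y i :=
      Finset.sum_congr rfl fun i _ => by rw [hY]
    rw [h2]
    simp only [Fin.sum_univ_seven, Matrix.cons_val] at hθ ⊢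
    simp only [th7, List.getD_cons_zero, List.getD_cons_succ, Fin.val_zero, Fin.val_one, Fin.val_two] at hθ ⊢
    norm_num at hθ ⊢
    omega
  have h2 := allAlc_spec th7 13 _ (by decide) check13 Y (by simp [Y, th7]) h1
  have h3 : (fun i : Fin 7 => ((Y.getD i 0 : ℕ) : ZMod 13)) = fun i => p₁ (v i) := by
    rw [hvy]
    funext i
    rw [hY]
  have h4 : invB 13 2 R7 Y = true := by
    refine invB_of (by norm_num) tab7 len7 ?_
    rw [h3]
    exact inv_map p₁ hf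
  rw [h4, cond_true] at h2
  simp only [Bool.or_eq_true, beq_iff_eq] at h2
  have hY' : ∀ L : List ℕ, Y = L → ∀ i : Fin 7, p₁ (v i) = ((L.getD i 0 : ℕ) : ZMod 13) := by
    rintro L rfl i
    exact (congrFun h3 i).symm
  rcases h2 with ((h2 | h2) | h2) | h2
  · refine hv0 (funext fun i => ?_)
    exact snd_zero (by norm_num) (by norm_num) (by norm_num) (by norm_num) (by norm_num) (by norm_num) (by norm_num)
      tab7 len7 rfl hf (hY' _ h2) chkB1 chkS1 i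
  · refine hv0 (funext fun i => ?_)
    exact snd_zero (by norm_num) (by norm_num) (by norm_num) (by norm_num) (by norm_num) (by norm_num) (by norm_num)
      tab7 len7 rfl hf (hY' _ h2) chkB2 chkS2 i
  · refine hw0 ?_
    rw [← hvy]
    funext i
    have := hY' _ h2 i
    rw [this]
    fin_cases i <;> rfl
  · refine hw0 ?_
    rw [← hvy]
    funext i
    have := hY' _ h2 i
    rw [this]
    fin_cases i <;> rfl

end Cfsg.Agent.H944.E7Two
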