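import Mathlib
import Cfsg.Agent.H163.E6.Defs
import Cfsg.Agent.H944.E6Tab
import Cfsg.Agent.ChevalleyStructure.TwE6Basic
import Cfsg.Agent.BpExc.EmbInst

/-!
# The 27-dimensional module of `²E₆(q)` (helper944)

`K` a field with `q²` elements, `φ` its automorphism `t ↦ t ^ q`.

* `Q` : a diagonal matrix with entries `± 1`; `sZ φ g = Q⁻¹ gU (φ g) Q` (`gU g = P g⁻ᵀ P`) is the Steinberg endomorphism of
  `Zgrp K` above `TwE6Basic.sg φ`;
* `Gs φ` : its fixed points; they are mapped onto `twistedE6 K q` by `ad K`;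
* `J φ x = Q φ(x)` : a semilinear bijection `V → V'` and `V' → V` commuting with `Gs φ`.
-/

set_option autoImplicit false

namespace Cfsg.Agent.H944.E6Tw

open Cfsg Cfsg.Lie Module
open scoped Matrix
open Cfsg.Agent.ChevalleyStructure
open Cfsg.Agent.ChevalleyStructure.E6Min.Tables Cfsg.Agent.ChevalleyStructure.E6Min.Basic
  Cfsg.Agent.ChevalleyStructure.E6Min.Adjoint Cfsg.Agent.ChevalleyStructure.E6Min.Forms
open Cfsg.Agent.H184.GraphE6 (gU gU_mul gU_gU dual coe_dual dual_dual pi pi_pi PM PM_apply PM_mulVec PM_sq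
  PM_transpose PU coe_PU PU_sq zM_transpose Nm_transpose dual_PU)
open Cfsg.Agent.H944.E6T (gm coe_gm zM_map)
open Cfsg.Agent.ChevalleyStructure.TwE6Basic (rho epsE)

universe u

/-! ### the diagonal matrix -/

/-- the signs -/
def qs : List ℤ := [1, -1, 1, -1, 1, -1, 1, -1, 1, -1, -1, -1, 1, 1, 1, -1, -1, -1, -1, 1, -1, -1, 1, -1, -1, 1, -1]

/-- the sign of a coordinate -/
def qe (x : I27) : ℤ := qs.getD (E6Min.Tables.code x) 0

theorem qe_sq : ∀ x : I27, qe x * qe x = 1 := by decide +kernel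

theorem qe_pi : ∀ x : I27, qe (pi x) = qe x := by decide +kernel

/-- the check of the relation with the graph automorphism -/
theorem rel_all : ∀ (r : Fin 72) (x : I27),
    (sg (71 - r) (pi x) = 0 ∧ sg (rho r) x = 0) ∨
    (-(sg (71 - r) (pi x)) = epsE r * qe x * sg (rho r) x * qe (sr (rho r) x) ∧
      pi (sr (71 - r) (pi x)) = sr (rho r) x) := by decide +kernel

section ring

variable {F : Type*} [CommRing F]

/-- the diagonal matrix -/
def QM (F : Type*) [CommRing F] : Matrix I27 I27 F := Matrix.diagonal fun x => ((qe x : ℤ) : F)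

theorem QM_sq : QM F * QM F = 1 := by
  unfold QM
  rw [Matrix.diagonal_mul_diagonal, ← Matrix.diagonal_one]
  congr 1
  funext x
  rw [← Int.cast_mul, qe_sq, Int.cast_one]

theorem QM_transpose : (QM F)ᵀ = QM F := Matrix.diagonal_transpose _

theorem QM_mulVec (v : I27 → F) (x : I27) : (QM F *ᵥ v) x = ((qe x : ℤ) : F) * v x := by
  unfold QM; rw [Matrix.mulVec_diagonal]

theorem PM_mul (M : Matrix I27 I27 F) (x y : I27) : (PM F * M) x y = M (pi x) y := by
  rw [Matrix.mul_apply]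
  simp only [PM_apply, ite_mul, one_mul, zero_mul, Finset.sum_ite_eq', Finset.mem_univ, if_true]

theorem mul_PM (M : Matrix I27 I27 F) (x y : I27) : (M * PM F) x y = M x (pi y) := by
  have h := congrFun (congrFun (congrArg Matrix.transpose (Matrix.transpose_mul (PM F) Mᵀ)) x) y
  rw [Matrix.transpose_transpose] at h
  have h1 : ((PM F * Mᵀ)ᵀ) x y = (M * PM F) x y := by
    rw [Matrix.transpose_mul, Matrix.transpose_transpose, PM_transpose]
  rw [← h1, Matrix.transpose_apply, PM_mul, Matrix.transpose_apply]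

/-- `P Q P = Q` -/
theorem PQP : PM F * QM F * PM F = QM F := by
  ext x y
  rw [mul_PM, PM_mul]
  unfold QM
  rw [Matrix.diagonal_apply, Matrix.diagonal_apply, qe_pi]
  by_cases h : x = y
  · rw [if_pos h, if_pos (by rw [h])]
  · rw [if_neg h, if_neg (fun h' => h (by rw [← pi_pi x, h', pi_pi]))]

/-- the graph automorphism on the root elements -/
theorem conj_Nm (r : Fin 72) : -(PM F * Nm F (71 - r.val) * PM F) =
    ((epsE r : ℤ) : F) • (QM F * Nm F (rho r).val * QM F) := by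
  ext x y
  rw [Matrix.neg_apply, mul_PM, PM_mul, Matrix.smul_apply, smul_eq_mul]
  unfold QM
  rw [Matrix.mul_diagonal, Matrix.diagonal_mul, Nm_apply, Nm_apply]
  rcases rel_all r x with ⟨h1, h2⟩ | ⟨h1, h2⟩
  · rw [h1, h2]; simp
  · by_cases hy : y = sr (rho r).val x
    · rw [if_pos hy, if_pos (by rw [hy, ← h2, pi_pi]), hy, ← Int.cast_neg, h1]
      push_cast; ring
    · rw [if_neg hy, if_neg (fun h' => hy (by rw [← h2, ← h', pi_pi]))]
      simp

/-- `Q` as an element of the general linear group -/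
def QU (F : Type*) [CommRing F] : GL I27 F := ⟨QM F, QM F, QM_sq, QM_sq⟩

theorem coe_QU : ((QU F : GL I27 F) : Matrix I27 I27 F) = QM F := rfl

theorem QU_sq : QU F * QU F = 1 := Units.ext QM_sq

theorem QU_inv : (QU F)⁻¹ = QU F := inv_eq_of_mul_eq_one_left QU_sq

theorem dual_QU : dual (QU F) = QU F := by
  apply Units.ext
  rw [coe_dual, QU_inv]
  exact QM_transpose

end ring

section field

variable {F : Type*} [Field F]

theorem gU_QU : gU (QU F) = QU F := by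
  unfold gU
  rw [dual_QU]
  exact Units.ext PQP

theorem dual_zU {r : ℕ} (hr : r < 72) (t : F) : dual (zU r t) = zU (71 - r) (-t) := by
  apply Units.ext
  rw [coe_dual, coe_zU (by omega)]
  have h3 : (((zU r t : GL I27 F)⁻¹ : GL I27 F) : Matrix I27 I27 F) = zM r (-t) := by
    unfold zU
    rw [dif_pos hr]
    rfl
  rw [h3, zM_transpose hr]

/-- the graph automorphism on the root elements -/
theorem gU_zU (r : Fin 72) (t : F) : QU F * gU (zU r.val t) * QU F = zU (rho r).val (((epsE r : ℤ) : F) * t) := by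
  unfold gU
  rw [dual_zU r.isLt]
  apply Units.ext
  simp only [Units.val_mul, coe_PU, coe_QU]
  rw [coe_zU (by omega), coe_zU (rho r).isLt, zM_def, zM_def]
  have h := conj_Nm (F := F) r
  have h1 : PM F * (1 + -t • Nm F (71 - r.val)) * PM F = 1 + t • -(PM F * Nm F (71 - r.val) * PM F) := by
    rw [mul_add, add_mul, mul_one, PM_sq, mul_smul_comm, smul_mul_assoc, neg_smul, smul_neg]
  rw [h1, h, mul_add, add_mul, mul_one, QM_sq, mul_smul_comm, smul_mul_assoc, mul_smul_comm, smul_mul_assoc,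
    ← mul_assoc, ← mul_assoc, QM_sq, one_mul, mul_assoc (Nm F _), QM_sq, mul_one, smul_smul, mul_comm t]

theorem gm_gU (φ : F →+* F) (g : GL I27 F) : gm φ (gU g) = gU (gm φ g) := by
  have h1 : gm φ (PU F) = PU F := by
    apply Units.ext
    rw [coe_gm, coe_PU]
    ext x y
    rw [Matrix.map_apply, PM_apply, apply_ite φ, map_one, map_zero]
  have h2 : gm φ (dual g) = dual (gm φ g) := by
    apply Units.ext
    rw [coe_gm, coe_dual, coe_dual, ← map_inv, coe_gm, Matrix.transpose_map]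
  unfold gU
  rw [map_mul, map_mul, h1, h2]

theorem gm_QU (φ : F →+* F) : gm φ (QU F) = QU F := by
  apply Units.ext
  rw [coe_gm, coe_QU]
  unfold QM
  rw [Matrix.diagonal_map (map_zero φ)]
  congr 1
  funext x
  exact map_intCast φ _

variable (φ : F →+* F)

/-- **The Steinberg endomorphism** on the general linear group. -/
def sZ : GL I27 F →* GL I27 F := MonoidHom.mk' (fun g => QU F * gU (gm φ g) * QU F) (by
  intro a b
  rw [map_mul, gU_mul]
  calc QU F * (gU (gm φ a) * gU (gm φ b)) * QU F =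
      QU F * gU (gm φ a) * 1 * gU (gm φ b) * QU F := by group
    _ = _ := by rw [← QU_sq]; group)

theorem sZ_apply (g : GL I27 F) : sZ φ g = QU F * gU (gm φ g) * QU F := rfl

theorem sZ_zU (r : Fin 72) (t : F) : sZ φ (zU r.val t) = zU (rho r).val (((epsE r : ℤ) : F) * φ t) := by
  rw [sZ_apply, ← gU_zU r (φ t)]
  congr 3
  apply Units.ext
  rw [coe_gm, coe_zU r.isLt, coe_zU r.isLt, zM_map]

theorem gm_gm (hφ : ∀ t, φ (φ t) = t) (g : GL I27 F) : gm φ (gm φ g) = g := by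
  apply Units.ext
  rw [coe_gm, coe_gm]
  ext x y
  rw [Matrix.map_apply, Matrix.map_apply, hφ]

theorem sZ_sZ (hφ : ∀ t, φ (φ t) = t) (g : GL I27 F) : sZ φ (sZ φ g) = g := by
  rw [sZ_apply, sZ_apply, map_mul, map_mul, gm_QU, gm_gU, gm_gm φ hφ, gU_mul, gU_mul, gU_gU, gU_QU]
  calc QU F * (QU F * g * QU F) * QU F = (QU F * QU F) * g * (QU F * QU F) := by group
    _ = g := by rw [QU_sq, one_mul, mul_one]

theorem sZ_mem {g : GL I27 F} (hg : g ∈ Zgrp F) : sZ φ g ∈ Zgrp F := by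
  have h : Zgrp F ≤ (Zgrp F).comap (sZ φ) := by
    conv_lhs => unfold Zgrp
    rw [Subgroup.closure_le]
    rintro g ⟨r, t, hr, hg⟩
    show sZ φ g ∈ Zgrp F
    have h1 : g = zU r t := Units.ext (by rw [hg, coe_zU hr])
    rw [h1]
    have h2 := sZ_zU φ ⟨r, hr⟩ t
    simp only at h2
    rw [h2]
    exact zU_mem _ _
  exact h hg

/-- **The Steinberg endomorphism.** -/
def sE : ↥(Zgrp F) →* ↥(Zgrp F) := ((sZ φ).comp (Zgrp F).subtype).codRestrict (Zgrp F) fun g => sZ_mem φ g.2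

theorem coe_sE (g : ↥(Zgrp F)) : ((sE φ g : ↥(Zgrp F)) : GL I27 F) = sZ φ g := rfl

theorem sE_sE (hφ : ∀ t, φ (φ t) = t) (g : ↥(Zgrp F)) : sE φ (sE φ g) = g := Subtype.ext (sZ_sZ φ hφ g)

end field

/-! ### the map to the adjoint group -/

section adj

variable {F : Type u} [Field F] (φ : F →+* F)

theorem ad_zU (r : Fin 72) (t : F) :
    ((ad F ⟨zU r.val t, zU_mem _ _⟩ : ↥(chevE6.group F)) : GL chevE6.Idx F) = TwE6Basic.x r.val t := by
  apply Units.ext
  refine P_unique (g := zU r.val t) (ad_P ⟨zU r.val t, zU_mem _ _⟩) ?_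
  rw [coe_zU r.isLt]
  have h : ((TwE6Basic.x r.val t : GL chevE6.Idx F) : Matrix chevE6.Idx chevE6.Idx F) = chevE6.xMat F r t :=
    Elts.x_of_lt r.isLt t
  rw [h]
  exact P_root r t

/-- two homomorphisms on `Zgrp F` which agree on the root elements are equal -/
theorem hom_ext {M : Type*} [Group M] {f g : ↥(Zgrp F) →* M}
    (h : ∀ (r : Fin 72) (t : F), f ⟨zU r.val t, zU_mem _ _⟩ = g ⟨zU r.val t, zU_mem _ _⟩) : f = g := by
  have h1 : Zgrp F ≤ (f.eqLocus g).map (Zgrp F).subtype := by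
    conv_lhs => unfold Zgrp
    rw [Subgroup.closure_le]
    rintro y ⟨r, t, hr, hy⟩
    have h2 : y = zU r t := Units.ext (by rw [hy, coe_zU hr])
    exact ⟨⟨zU r t, zU_mem _ _⟩, h ⟨r, hr⟩ t, h2.symm⟩
  ext y
  obtain ⟨y', hy', e⟩ := h1 y.2
  have h2 : y' = y := Subtype.ext e
  rw [h2] at hy'
  exact hy'

theorem ad_sE (g : ↥(Zgrp F)) : ((ad F (sE φ g) : ↥(chevE6.group F)) : GL chevE6.Idx F) =
    TwE6Basic.sg φ ((ad F g : ↥(chevE6.group F)) : GL chevE6.Idx F) := by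
  have h : ((chevE6.group F).subtype.comp (ad F)).comp (sE φ) =
      (TwE6Basic.sg φ).comp ((chevE6.group F).subtype.comp (ad F)) := by
    apply hom_ext
    intro r t
    show ((ad F (sE φ ⟨zU r.val t, zU_mem _ _⟩) : ↥(chevE6.group F)) : GL chevE6.Idx F) =
      TwE6Basic.sg φ ((ad F ⟨zU r.val t, zU_mem _ _⟩ : ↥(chevE6.group F)) : GL chevE6.Idx F)
    have h1 : sE φ ⟨zU r.val t, zU_mem _ _⟩ = ⟨zU (rho r).val (((epsE r : ℤ) : F) * φ t), zU_mem _ _⟩ :=
      Subtype.ext (sZ_zU φ r t)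
    rw [h1, ad_zU, ad_zU, TwE6Basic.sg_x]
    rfl
  exact DFunLike.congr_fun h g

/-- **The fixed points of the Steinberg endomorphism.** -/
def Gs : Subgroup ↥(Zgrp F) := (sE φ).eqLocus (MonoidHom.id _)

theorem mem_Gs {g : ↥(Zgrp F)} : g ∈ Gs φ ↔ sE φ g = g := Iff.rfl

theorem comm_all : ∀ rs ∈ [(56, 36), (15, 35), (42, 37), (29, 34), (56, 35), (15, 36), (42, 34), (29, 37)],
    rs.2 + rs.1 ≠ 71 ∧ rs.1 < 72 ∧ rs.2 < 72 ∧ kN rs.1 rs.2 = 127 := by decide +kernel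

theorem zU_comm {rs : ℕ × ℕ}
    (h : rs ∈ [(56, 36), (15, 35), (42, 37), (29, 34), (56, 35), (15, 36), (42, 34), (29, 37)]) (t u : F) :
    Commute (zU rs.1 t) (zU rs.2 u) := by
  obtain ⟨h1, h2, h3, h4⟩ := comm_all rs h
  apply Units.ext
  rw [Units.val_mul, Units.val_mul, coe_zU h2, coe_zU h3, zM_def, zM_def]
  have h5 := Nm_comm_of_none (F := F) h2 h3 h1 h4
  simp only [add_mul, mul_add, one_mul, mul_one, smul_mul_assoc, mul_smul_comm, h5]
  module

theorem rho_tab : ∀ rs ∈ [(46, 46), (25, 25), (39, 39), (32, 32), (56, 36), (36, 56), (15, 35), (35, 15), (42, 37), (37, 42),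
    (29, 34), (34, 29)], (rho (Fin.ofNat 72 rs.1)).val = rs.2 ∧ epsE (Fin.ofNat 72 rs.1) = 1 ∧ rs.1 < 72 := by
  decide +kernel

theorem sZ_simple {rs : ℕ × ℕ} (h : rs ∈ [(46, 46), (25, 25), (39, 39), (32, 32), (56, 36), (36, 56), (15, 35), (35, 15),
    (42, 37), (37, 42), (29, 34), (34, 29)]) (t : F) : sZ φ (zU rs.1 t) = zU rs.2 (φ t) := by
  obtain ⟨h1, h2, h3⟩ := rho_tab rs h
  have h4 := sZ_zU φ (Fin.ofNat 72 rs.1) t
  have h5 : (Fin.ofNat 72 rs.1 : Fin 72).val = rs.1 := Nat.mod_eq_of_lt h3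
  rw [h1, h2, Int.cast_one, one_mul, h5] at h4
  exact h4

/-- the preimage of the twisted group -/
noncomputable def Gl (F : Type u) [Field F] (q : ℕ) : Subgroup ↥(Zgrp F) :=
  (twistedE6 F q).comap ((chevE6.group F).subtype.comp (ad F))

theorem mem_Gl {q : ℕ} {g : ↥(Zgrp F)} :
    g ∈ Gl F q ↔ ((ad F g : ↥(chevE6.group F)) : GL chevE6.Idx F) ∈ twistedE6 F q := Iff.rfl

theorem single_mem_Gl {q : ℕ} {t : F} (ht : t ^ q = t) {r : ℕ} (hr : r ∈ [46, 25, 39, 32]) :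
    (⟨zU r t, zU_mem _ _⟩ : ↥(Zgrp F)) ∈ Gl F q := by
  rw [mem_Gl]
  have hr' : r < 72 := by
    simp only [List.mem_cons, List.not_mem_nil, or_false] at hr
    omega
  rw [ad_zU ⟨r, hr'⟩ t]
  exact TwE6Basic.single_mem ht hr

theorem pair_mem_Gl {q : ℕ} (t : F) {rs : ℕ × ℕ} (hr : rs ∈ [(56, 36), (15, 35), (42, 37), (29, 34)]) :
    (⟨zU rs.1 t, zU_mem _ _⟩ * ⟨zU rs.2 (t ^ q), zU_mem _ _⟩ : ↥(Zgrp F)) ∈ Gl F q := by
  rw [mem_Gl, map_mul, Subgroup.coe_mul]
  have hr' : rs.1 < 72 ∧ rs.2 < 72 := by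
    simp only [List.mem_cons, List.not_mem_nil, or_false] at hr
    rcases hr with rfl | rfl | rfl | rfl <;> decide
  rw [ad_zU ⟨rs.1, hr'.1⟩ t, ad_zU ⟨rs.2, hr'.2⟩ (t ^ q)]
  exact TwE6Basic.pair_mem t hr

variable {q : ℕ} (hφ : ∀ t, φ t = t ^ q) (hqq : ∀ t : F, (t ^ q) ^ q = t)

include hφ hqq in
/-- **Every element of the twisted group has a lift in `Gs φ`.** -/
theorem exists_Gs {y : GL chevE6.Idx F} (hy : y ∈ twistedE6 F q) :
    ∃ g ∈ Gs φ, ((ad F g : ↥(chevE6.group F)) : GL chevE6.Idx F) = y := by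
  have h : twistedE6 F q ≤ (Gs φ).map ((chevE6.group F).subtype.comp (ad F)) := by
    rw [TwE6Basic.twisted_le_iff]
    constructor
    · intro t ht r hr
      have hr' : r < 72 ∧ (r, r) ∈ [(46, 46), (25, 25), (39, 39), (32, 32), (56, 36), (36, 56), (15, 35), (35, 15),
          (42, 37), (37, 42), (29, 34), (34, 29)] := by
        simp only [List.mem_cons, List.not_mem_nil, or_false] at hr
        rcases hr with rfl | rfl | rfl | rfl <;> decide
      refine ⟨⟨zU r t, zU_mem _ _⟩, ?_, ad_zU ⟨r, hr'.1⟩ t⟩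
      apply Subtype.ext
      show sZ φ (zU r t) = zU r t
      have := sZ_simple φ hr'.2 t
      simp only at this
      rw [this, hφ, ht]
    · intro t rs hr
      have hr' : rs.1 < 72 ∧ rs.2 < 72 ∧ rs ∈ [(46, 46), (25, 25), (39, 39), (32, 32), (56, 36), (36, 56), (15, 35),
          (35, 15), (42, 37), (37, 42), (29, 34), (34, 29)] ∧ (rs.2, rs.1) ∈ [(46, 46), (25, 25), (39, 39), (32, 32),
          (56, 36), (36, 56), (15, 35), (35, 15), (42, 37), (37, 42), (29, 34), (34, 29)] ∧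
          rs ∈ [(56, 36), (15, 35), (42, 37), (29, 34), (56, 35), (15, 36), (42, 34), (29, 37)] := by
        simp only [List.mem_cons, List.not_mem_nil, or_false] at hr
        rcases hr with rfl | rfl | rfl | rfl <;> decide
      obtain ⟨h1, h2, h3, h4, h5⟩ := hr'
      refine ⟨⟨zU rs.1 t, zU_mem _ _⟩ * ⟨zU rs.2 (t ^ q), zU_mem _ _⟩, ?_, ?_⟩
      · apply Subtype.ext
        show sZ φ (zU rs.1 t * zU rs.2 (t ^ q)) = zU rs.1 t * zU rs.2 (t ^ q)
        have e4 := sZ_simple φ h4 (t ^ q)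
        simp only at e4
        rw [map_mul, sZ_simple φ h3 t, e4, hφ, hφ, hqq]
        exact (zU_comm h5 t (t ^ q)).symm
      · show ((ad F (⟨zU rs.1 t, zU_mem _ _⟩ * ⟨zU rs.2 (t ^ q), zU_mem _ _⟩) : ↥(chevE6.group F)) :
          GL chevE6.Idx F) = _
        rw [map_mul, Subgroup.coe_mul, ad_zU ⟨rs.1, h1⟩ t, ad_zU ⟨rs.2, h2⟩ (t ^ q)]
  obtain ⟨g, hg, e⟩ := h hy
  exact ⟨g, hg, e⟩

/-- a perfect subgroup mapped to fixed points consists of fixed points -/
theorem le_Gs_of_perfect {B : Subgroup ↥(Zgrp F)} (hB : ⁅B, B⁆ = B)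
    (h : ∀ b ∈ B, TwE6Basic.sg φ ((ad F b : ↥(chevE6.group F)) : GL chevE6.Idx F) =
      ((ad F b : ↥(chevE6.group F)) : GL chevE6.Idx F)) : B ≤ Gs φ := by
  have hz : ∀ b ∈ B, b⁻¹ * sE φ b ∈ Subgroup.center ↥(Zgrp F) := by
    intro b hb
    rw [← ker_ad, MonoidHom.mem_ker, map_mul, map_inv, inv_mul_eq_one]
    apply Subtype.ext
    rw [ad_sE, h b hb]
  have hc : ⁅B, B⁆ ≤ Gs φ := by
    rw [Subgroup.commutator_le]
    intro a ha b hb
    rw [mem_Gs, map_commutatorElement]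
    obtain ⟨x, hx⟩ : ∃ x, x = a⁻¹ * sE φ a := ⟨_, rfl⟩
    obtain ⟨y, hy⟩ : ∃ y, y = b⁻¹ * sE φ b := ⟨_, rfl⟩
    have hxc := hz a ha
    have hyc := hz b hb
    rw [← hx] at hxc
    rw [← hy] at hyc
    have e1 : sE φ a = a * x := by rw [hx]; group
    have e2 : sE φ b = b * y := by rw [hy]; group
    rw [Subgroup.mem_center_iff] at hxc hyc
    rw [e1, e2, commutatorElement_def, commutatorElement_def, mul_inv_rev, mul_inv_rev]
    calc a * x * (b * y) * (x⁻¹ * a⁻¹) * (y⁻¹ * b⁻¹) = a * (x * b) * y * x⁻¹ * a⁻¹ * y⁻¹ * b⁻¹ := by group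
      _ = a * b * x * y * x⁻¹ * a⁻¹ * y⁻¹ * b⁻¹ := by rw [← hxc b]; group
      _ = a * b * (y * x) * x⁻¹ * a⁻¹ * y⁻¹ * b⁻¹ := by rw [← hyc x]; group
      _ = a * b * (y * a⁻¹) * y⁻¹ * b⁻¹ := by group
      _ = a * b * (a⁻¹ * y) * y⁻¹ * b⁻¹ := by rw [hyc a⁻¹]
      _ = a * b * a⁻¹ * b⁻¹ := by group
  rwa [hB] at hc

end adj

/-! ### `Gs φ` is mapped into the twisted group -/

section fixed

open Cfsg.Agent.ChevalleyStructure.E6Min.Torus (hU coe_hU sI)

variable {F : Type u} [Field F] (φ : F →+* F)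

/-- a diagonal element of `Zgrp F` fixed by the Steinberg endomorphism -/
theorem diag_fixed {t : GL I27 F} {d : I27 → Fˣ} (hd : (t : Matrix I27 I27 F) = Matrix.diagonal (fun x => (d x : F)))
    (ht : sZ φ t = t) (x : I27) : φ (d x : F) * d (pi x) = 1 := by
  have h1 : (((gm φ t)⁻¹ : GL I27 F) : Matrix I27 I27 F) = Matrix.diagonal (fun x => φ (((d x)⁻¹ : Fˣ) : F)) := by
    have h2 : ((gm φ t : GL I27 F) : Matrix I27 I27 F) * Matrix.diagonal (fun x => φ (((d x)⁻¹ : Fˣ) : F)) = 1 := by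
      rw [coe_gm, hd, Matrix.diagonal_map (map_zero φ), Matrix.diagonal_mul_diagonal, ← Matrix.diagonal_one]
      congr 1
      funext x
      rw [← map_mul, ← Units.val_mul, mul_inv_cancel, Units.val_one, map_one]
    rw [Matrix.coe_units_inv]
    exact Matrix.inv_eq_right_inv h2
  have h3 := congrArg (fun g : GL I27 F => (g : Matrix I27 I27 F) (pi x) (pi x)) ht
  simp only [sZ_apply] at h3
  unfold gU at h3
  simp only [Units.val_mul, coe_PU, coe_QU] at h3
  rw [coe_dual, h1, Matrix.diagonal_transpose, hd, Matrix.diagonal_apply_eq] at h3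
  unfold QM at h3
  rw [Matrix.mul_diagonal, Matrix.diagonal_mul, mul_PM, PM_mul, pi_pi, Matrix.diagonal_apply_eq] at h3
  have h4 : ((qe (pi x) : ℤ) : F) * ((qe (pi x) : ℤ) : F) = 1 := by rw [← Int.cast_mul, qe_sq, Int.cast_one]
  have h5 : φ (((d x)⁻¹ : Fˣ) : F) = (d (pi x) : F) := by
    rw [← h3]
    linear_combination (-φ (((d x)⁻¹ : Fˣ) : F)) * h4
  rw [← h5, ← map_mul, ← Units.val_mul, mul_inv_cancel, Units.val_one, map_one]

/-- the root elements in `Zgrp F` -/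
def zZ (r : ℕ) (t : F) : ↥(Zgrp F) := ⟨zU r t, zU_mem _ _⟩

/-- the torus elements in `Zgrp F` -/
def hZ (i : ℕ) (c : F) : ↥(Zgrp F) := zZ (sI i) c * zZ (71 - sI i) (-c⁻¹) * zZ (sI i) c *
  (zZ (sI i) (-1) * zZ (71 - sI i) 1 * zZ (sI i) (-1))

theorem coe_hZ (i : ℕ) (c : F) : ((hZ i c : ↥(Zgrp F)) : GL I27 F) = hU i c := rfl

variable {q : ℕ} (hφ : ∀ t, φ t = t ^ q)

theorem ad_zZ (r : Fin 72) (t : F) : ((ad F (zZ (r : ℕ) t) : ↥(chevE6.group F)) : GL chevE6.Idx F) =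
    TwE6Basic.x r.val t := by
  rw [zZ, ad_zU r t]

theorem zpair_mem (t : F) {a b : ℕ} (hr : (a, b) ∈ [(56, 36), (15, 35), (42, 37), (29, 34)]) :
    zZ a t * zZ b (t ^ q) ∈ Gl F q := by
  have hr' : a < 72 ∧ b < 72 := by
    simp only [List.mem_cons, List.not_mem_nil, or_false, Prod.mk.injEq] at hr
    omega
  rw [mem_Gl, map_mul, Subgroup.coe_mul, ad_zZ ⟨a, hr'.1⟩ t, ad_zZ ⟨b, hr'.2⟩ (t ^ q)]
  exact TwE6Basic.pair_mem t hr

include hφ in
theorem hU_single {c : F} (hc : φ c = c) {i : ℕ} (hi : i = 1 ∨ i = 3) : hZ i c ∈ Gl F q := by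
  have hr : sI i ∈ [46, 25, 39, 32] ∧ 71 - sI i ∈ [46, 25, 39, 32] := by
    rcases hi with rfl | rfl <;> decide
  have e0 : c ^ q = c := by rw [← hφ, hc]
  have e1 : (-c⁻¹) ^ q = -c⁻¹ := by rw [← hφ, map_neg, map_inv₀, hc]
  have e2 : (1 : F) ^ q = 1 := one_pow q
  have e3 : (-1 : F) ^ q = -1 := by rw [← hφ, map_neg, map_one]
  have m1 : zZ (sI i) c ∈ Gl F q := single_mem_Gl e0 hr.1
  have m2 : zZ (71 - sI i) (-c⁻¹) ∈ Gl F q := single_mem_Gl e1 hr.2
  have m3 : zZ (sI i) (-1 : F) ∈ Gl F q := single_mem_Gl e3 hr.1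
  have m4 : zZ (71 - sI i) (1 : F) ∈ Gl F q := single_mem_Gl e2 hr.2
  unfold hZ
  generalize zZ (sI i) c = A at *
  generalize zZ (71 - sI i) (-c⁻¹) = B at *
  generalize zZ (sI i) (-1 : F) = C at *
  generalize zZ (71 - sI i) (1 : F) = D at *
  exact mul_mem (mul_mem (mul_mem m1 m2) m1) (mul_mem (mul_mem m3 m4) m3)

theorem zZ_comm {rs : ℕ × ℕ}
    (h : rs ∈ [(56, 36), (15, 35), (42, 37), (29, 34), (56, 35), (15, 36), (42, 34), (29, 37)]) (t u : F) :
    zZ rs.1 t * zZ rs.2 u = zZ rs.2 u * zZ rs.1 t := Subtype.ext (zU_comm h t u)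

include hφ in
theorem hU_pair (c : F) {ij : ℕ × ℕ} (hi : ij = (0, 5) ∨ ij = (2, 4)) :
    hZ ij.1 c * hZ ij.2 (φ c) ∈ Gl F q := by
  obtain ⟨a, b, a', b', h1, h2, h3, h4, m1, m2, c1, c2, c3, c4⟩ : ∃ a b a' b' : ℕ, sI ij.1 = a ∧ 71 - sI ij.1 = b ∧
      sI ij.2 = a' ∧ 71 - sI ij.2 = b' ∧ (a, a') ∈ [(56, 36), (15, 35), (42, 37), (29, 34)] ∧
      (b, b') ∈ [(56, 36), (15, 35), (42, 37), (29, 34)] ∧
      (a, a') ∈ [(56, 36), (15, 35), (42, 37), (29, 34), (56, 35), (15, 36), (42, 34), (29, 37)] ∧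
      (a, b') ∈ [(56, 36), (15, 35), (42, 37), (29, 34), (56, 35), (15, 36), (42, 34), (29, 37)] ∧
      (b, a') ∈ [(56, 36), (15, 35), (42, 37), (29, 34), (56, 35), (15, 36), (42, 34), (29, 37)] ∧
      (b, b') ∈ [(56, 36), (15, 35), (42, 37), (29, 34), (56, 35), (15, 36), (42, 34), (29, 37)] := by
    rcases hi with rfl | rfl
    · exact ⟨56, 15, 36, 35, by decide, by decide, by decide, by decide, by decide, by decide, by decide, by decide,
        by decide, by decide⟩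
    · exact ⟨42, 29, 37, 34, by decide, by decide, by decide, by decide, by decide, by decide, by decide, by decide,
        by decide, by decide⟩
  have w1 : ∀ t : F, zZ a t * zZ a' (φ t) ∈ Gl F q := fun t => by rw [hφ]; exact zpair_mem t m1
  have w2 : ∀ t : F, zZ b t * zZ b' (φ t) ∈ Gl F q := fun t => by rw [hφ]; exact zpair_mem t m2
  have k1 : ∀ t u : F, Commute (zZ a t) (zZ a' u) := fun t u => zZ_comm c1 t u
  have k2 : ∀ t u : F, Commute (zZ a t) (zZ b' u) := fun t u => zZ_comm c2 t u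
  have k3 : ∀ t u : F, Commute (zZ b t) (zZ a' u) := fun t u => zZ_comm c3 t u
  have k4 : ∀ t u : F, Commute (zZ b t) (zZ b' u) := fun t u => zZ_comm c4 t u
  have key : hZ ij.1 c * hZ ij.2 (φ c) = (zZ a c * zZ a' (φ c)) * (zZ b (-c⁻¹) * zZ b' (φ (-c⁻¹))) *
      (zZ a c * zZ a' (φ c)) * ((zZ a (-1) * zZ a' (φ (-1))) * (zZ b 1 * zZ b' (φ 1)) *
        (zZ a (-1) * zZ a' (φ (-1)))) := by
    unfold hZ
    rw [h2, h1, h4, h3, map_neg, map_inv₀, map_neg, map_one]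
    have s1 : ∀ u v w u' v' w' : ↥(Zgrp F), Commute u' v → Commute u' w → Commute v' w →
        u * v * w * (u' * v' * w') = (u * u') * (v * v') * (w * w') := by
      intro u v w u' v' w' h1 h2 h3
      calc u * v * w * (u' * v' * w') = u * v * (w * u') * v' * w' := by group
        _ = u * v * (u' * w) * v' * w' := by rw [h2.eq]
        _ = u * (v * u') * (w * v') * w' := by group
        _ = u * (u' * v) * (v' * w) * w' := by rw [h1.eq, h3.eq]
        _ = _ := by group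
    obtain ⟨X, hX⟩ : ∃ X, X = zZ a c * zZ b (-c⁻¹) * zZ a c := ⟨_, rfl⟩
    obtain ⟨Y, hY⟩ : ∃ Y, Y = zZ a (-1 : F) * zZ b 1 * zZ a (-1) := ⟨_, rfl⟩
    obtain ⟨X', hX'⟩ : ∃ X, X = zZ a' (φ c) * zZ b' (-(φ c)⁻¹) * zZ a' (φ c) := ⟨_, rfl⟩
    obtain ⟨Y', hY'⟩ : ∃ Y, Y = zZ a' (-1 : F) * zZ b' 1 * zZ a' (-1) := ⟨_, rfl⟩
    have hc : Commute X' Y := by
      rw [hX', hY]
      refine Commute.mul_left (Commute.mul_left ?_ ?_) ?_
      · exact Commute.mul_right (Commute.mul_right (k1 _ _).symm (k3 _ _).symm) (k1 _ _).symm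
      · exact Commute.mul_right (Commute.mul_right (k2 _ _).symm (k4 _ _).symm) (k2 _ _).symm
      · exact Commute.mul_right (Commute.mul_right (k1 _ _).symm (k3 _ _).symm) (k1 _ _).symm
    rw [← hX, ← hY, ← hX', ← hY']
    calc X * Y * (X' * Y') = X * (Y * X') * Y' := by group
      _ = X * (X' * Y) * Y' := by rw [hc.eq]
      _ = (X * X') * (Y * Y') := by group
      _ = _ := by
        rw [hX, hX', hY, hY', s1 _ _ _ _ _ _ (k3 _ _).symm (k1 _ _).symm (k2 _ _).symm,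
          s1 _ _ _ _ _ _ (k3 _ _).symm (k1 _ _).symm (k2 _ _).symm]
  rw [key]
  exact mul_mem (mul_mem (mul_mem (w1 _) (w2 _)) (w1 _)) (mul_mem (mul_mem (w1 _) (w2 _)) (w1 _))

end fixed

end Cfsg.Agent.H944.E6Tw
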