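import Mathlib
import Cfsg.Agent.H944.E6Tw
import Cfsg.Agent.H65.E6Ext

/-!
# `²E₆(q)` inside `E₆(q²)` (helper944)

`Gs_le_Gl` : the fixed points of the Steinberg endomorphism are mapped into `twistedE6 F q`; `mem_twisted` : the elements of
`chevE6.group F` fixed by `TwE6Basic.sg φ` are the elements of `twistedE6 F q`; `kill` : no one-parameter group
`1 + t a` commutes with a subgroup of `twistedE6 F q` with trivial centralizer.
-/

set_option autoImplicit false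

namespace Cfsg.Agent.H944.E6Tw

open Cfsg Cfsg.Lie Module
open scoped Matrix
open Cfsg.Agent.ChevalleyStructure
open Cfsg.Agent.ChevalleyStructure.E6Min.Tables Cfsg.Agent.ChevalleyStructure.E6Min.Basic
  Cfsg.Agent.ChevalleyStructure.E6Min.Adjoint Cfsg.Agent.ChevalleyStructure.E6Min.Forms
open Cfsg.Agent.H184.GraphE6 (gU gU_mul gU_gU dual coe_dual dual_dual pi pi_pi PM PM_apply PM_mulVec PM_sq
  PM_transpose PU coe_PU PU_sq zM_transpose Nm_transpose dual_PU)
open Cfsg.Agent.H944.E6T (gm coe_gm zM_map)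
open Cfsg.Agent.ChevalleyStructure.TwE6Basic (rho epsE)
open Cfsg.Agent.ChevalleyStructure.E6Min.Torus (hU coe_hU sI hU_e mul_scale prop_spec prop_check diag_rel)
open Cfsg.Agent.ChevalleyStructure.E6Min.Elim (Scales coe_mul_mulVec mem_E6univ_of_mem)


universe u

variable {F : Type u} [Field F] (φ : F →+* F) {q : ℕ} (hφ : ∀ t, φ t = t ^ q)

theorem tri5 : (rel (dec 0) (dec 9) = 2 ∧ th (dec 0) (dec 9) = dec 18) ∧
    (rel (dec 0) (dec 10) = 2 ∧ th (dec 0) (dec 10) = dec 21) ∧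
    (rel (dec 4) (dec 12) = 2 ∧ th (dec 4) (dec 12) = dec 19) ∧
    (rel (dec 8) (dec 15) = 2 ∧ th (dec 8) (dec 15) = dec 20) ∧
    (rel (dec 0) (dec 4) = 2 ∧ th (dec 0) (dec 4) = dec 8) ∧
    pi (dec 9) = dec 18 ∧ pi (dec 10) = dec 21 ∧ pi (dec 12) = dec 19 ∧ pi (dec 15) = dec 20 ∧
    pi (dec 18) = dec 9 ∧ pi (dec 19) = dec 12 := by decide +kernel

theorem wt_tab : (∀ i : Fin 6, wt (dec 9) i.val = ![0, 0, 0, 0, 0, 1] i) ∧
    (∀ i : Fin 6, wt (dec 10) i.val = ![0, -1, 0, 0, 0, 1] i) ∧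
    (∀ i : Fin 6, wt (dec 12) i.val = ![0, 0, 0, 0, 1, -1] i) ∧
    (∀ i : Fin 6, wt (dec 15) i.val = ![0, 0, 0, 1, -1, 0] i) ∧
    (∀ i : Fin 6, wt (dec 18) i.val = ![-1, 0, 0, 0, 0, 0] i) ∧
    (∀ i : Fin 6, wt (dec 19) i.val = ![1, 0, -1, 0, 0, 0] i) := by decide +kernel

include hφ in
/-- diagonal elements fixed by the Steinberg endomorphism are mapped into the twisted group -/
theorem diag_mem_Gl {t : ↥(Zgrp F)} {d : I27 → Fˣ}
    (hd : ((t : GL I27 F) : Matrix I27 I27 F) = Matrix.diagonal (fun x => (d x : F)))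
    (ht : t ∈ Gs φ) : t ∈ Gl F q := by
  have hfix : ∀ x, φ (d x : F) * d (pi x) = 1 := fun x => diag_fixed φ hd
    (by rw [← coe_sE, (mem_Gs φ).1 ht]) x
  have htri : ∀ m k, rel m k = 2 → (d m : F) * d k * d (th m k) = 1 := fun m k h => by
    have := E6T.diag_triad hd h
    have h1 := congrArg (fun u : Fˣ => (u : F)) this
    simpa only [Units.val_mul, Units.val_one] using h1
  obtain ⟨⟨a1, a2⟩, ⟨b1, b2⟩, ⟨c1, c2⟩, ⟨e1, e2⟩, ⟨f1, f2⟩, p9, p10, p12, p15, p18, p19⟩ := tri5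
  have t1 := htri _ _ a1
  rw [a2] at t1
  have t2 := htri _ _ b1
  rw [b2] at t2
  have t3 := htri _ _ c1
  rw [c2] at t3
  have t4 := htri _ _ e1
  rw [e2] at t4
  have t5 := htri _ _ f1
  rw [f2] at t5
  have f9 := hfix (dec 9)
  rw [p9] at f9
  have f10 := hfix (dec 10)
  rw [p10] at f10
  have f12 := hfix (dec 12)
  rw [p12] at f12
  have f15 := hfix (dec 15)
  rw [p15] at f15
  have f18 := hfix (dec 18)
  rw [p18] at f18
  have f19 := hfix (dec 19)
  rw [p19] at f19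
  have n0 : (d (dec 0) : F) ≠ 0 := (d (dec 0)).ne_zero
  have n4 : (d (dec 4) : F) ≠ 0 := (d (dec 4)).ne_zero
  have n8 : (d (dec 8) : F) ≠ 0 := (d (dec 8)).ne_zero
  have n9 : (d (dec 9) : F) ≠ 0 := (d (dec 9)).ne_zero
  have n10 : (d (dec 10) : F) ≠ 0 := (d (dec 10)).ne_zero
  have n12 : (d (dec 12) : F) ≠ 0 := (d (dec 12)).ne_zero
  have n15 : (d (dec 15) : F) ≠ 0 := (d (dec 15)).ne_zero
  have n18 : (d (dec 18) : F) ≠ 0 := (d (dec 18)).ne_zero
  have n19 : (d (dec 19) : F) ≠ 0 := (d (dec 19)).ne_zero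
  have n20 : (d (dec 20) : F) ≠ 0 := (d (dec 20)).ne_zero
  have n21 : (d (dec 21) : F) ≠ 0 := (d (dec 21)).ne_zero
  -- the parameters
  obtain ⟨y1, hy1⟩ : ∃ y : F, y = d (dec 18) := ⟨_, rfl⟩
  obtain ⟨y2, hy2⟩ : ∃ y : F, y = d (dec 10) * (d (dec 9) : F)⁻¹ := ⟨_, rfl⟩
  obtain ⟨y3, hy3⟩ : ∃ y : F, y = d (dec 18) * d (dec 19) := ⟨_, rfl⟩
  obtain ⟨y4, hy4⟩ : ∃ y : F, y = ((d (dec 15) : F) * d (dec 12) * d (dec 9))⁻¹ := ⟨_, rfl⟩
  obtain ⟨y5, hy5⟩ : ∃ y : F, y = ((d (dec 12) : F) * d (dec 9))⁻¹ := ⟨_, rfl⟩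
  obtain ⟨y6, hy6⟩ : ∃ y : F, y = (d (dec 9) : F)⁻¹ := ⟨_, rfl⟩
  have ny1 : y1 ≠ 0 := by rw [hy1]; exact n18
  have ny2 : y2 ≠ 0 := by rw [hy2]; exact mul_ne_zero n10 (inv_ne_zero n9)
  have ny3 : y3 ≠ 0 := by rw [hy3]; exact mul_ne_zero n18 n19
  have ny4 : y4 ≠ 0 := by rw [hy4]; exact inv_ne_zero (mul_ne_zero (mul_ne_zero n15 n12) n9)
  have ny5 : y5 ≠ 0 := by rw [hy5]; exact inv_ne_zero (mul_ne_zero n12 n9)
  have ny6 : y6 ≠ 0 := by rw [hy6]; exact inv_ne_zero n9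
  have g9 : φ (d (dec 9) : F) = (d (dec 18) : F)⁻¹ := eq_inv_of_mul_eq_one_left f9
  have g10 : φ (d (dec 10) : F) = (d (dec 21) : F)⁻¹ := eq_inv_of_mul_eq_one_left f10
  have g12 : φ (d (dec 12) : F) = (d (dec 19) : F)⁻¹ := eq_inv_of_mul_eq_one_left f12
  have g15 : φ (d (dec 15) : F) = (d (dec 20) : F)⁻¹ := eq_inv_of_mul_eq_one_left f15
  have g18 : φ (d (dec 18) : F) = (d (dec 9) : F)⁻¹ := eq_inv_of_mul_eq_one_left f18
  have g19 : φ (d (dec 19) : F) = (d (dec 12) : F)⁻¹ := eq_inv_of_mul_eq_one_left f19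
  have r1 : φ y1 = y6 := by rw [hy1, hy6, g18]
  have r3 : φ y3 = y5 := by rw [hy3, hy5, map_mul, g18, g19, mul_inv, mul_comm]
  have r2 : φ y2 = y2 := by
    rw [hy2, map_mul, map_inv₀, g9, g10, inv_inv]
    have h : (d (dec 18) : F) * d (dec 9) = d (dec 10) * d (dec 21) := by
      apply mul_left_cancel₀ n0
      linear_combination t1 - t2
    field_simp
    linear_combination h
  have r4 : φ y4 = y4 := by
    rw [hy4, map_inv₀, map_mul, map_mul, g9, g12, g15, mul_inv, mul_inv, inv_inv, inv_inv, inv_inv]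
    apply eq_inv_of_mul_eq_one_left
    linear_combination (-((d (dec 9) : F) * d (dec 18) * (d (dec 12) * d (dec 19)) * (d (dec 15) * d (dec 20)))) * t5 +
      ((d (dec 4) : F) * (d (dec 12) * d (dec 19)) * (d (dec 8)) * (d (dec 15) * d (dec 20))) * t1 +
      ((d (dec 8) : F) * (d (dec 15) * d (dec 20))) * t3 + t4
  obtain ⟨z, hz⟩ : ∃ z : ↥(Zgrp F), z = (hZ 0 y1 * hZ 5 y6) * ((hZ 2 y3 * hZ 4 y5) * (hZ 1 y2 * hZ 3 y4)) := ⟨_, rfl⟩
  have hzG : z ∈ Gl F q := by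
    rw [hz, ← r1, ← r3]
    exact mul_mem (hU_pair φ hφ y1 (ij := (0, 5)) (Or.inl rfl)) (mul_mem (hU_pair φ hφ y3 (ij := (2, 4)) (Or.inr rfl))
      (mul_mem (hU_single φ hφ r2 (Or.inl rfl)) (hU_single φ hφ r4 (Or.inr rfl))))
  have hzc : (z : GL I27 F) = (hU 0 y1 * hU 5 y6) * ((hU 2 y3 * hU 4 y5) * (hU 1 y2 * hU 3 y4)) := by
    rw [hz]; rfl
  have hze : ∀ x, (((z : GL I27 F)) : Matrix I27 I27 F) *ᵥ e F x = (y1 ^ (wt x 0) * y6 ^ (wt x 5) *
      (y3 ^ (wt x 2) * y5 ^ (wt x 4) * (y2 ^ (wt x 1) * y4 ^ (wt x 3)))) • e F x := by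
    intro x
    rw [hzc]
    exact mul_scale (mul_scale (hU_e (by norm_num) ny1 x) (hU_e (by norm_num) ny6 x))
      (mul_scale (mul_scale (hU_e (by norm_num) ny3 x) (hU_e (by norm_num) ny5 x))
      (mul_scale (hU_e (by norm_num) ny2 x) (hU_e (by norm_num) ny4 x)))
  have hte : ∀ x, ((t : GL I27 F) : Matrix I27 I27 F) *ᵥ e F x = (d x : F) • e F x := by
    intro x
    rw [hd]
    ext y
    rw [Matrix.mulVec_diagonal, Pi.smul_apply, smul_eq_mul, e_apply]
    by_cases h : y = x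
    · rw [h]
    · rw [if_neg h, mul_zero, mul_zero]
  obtain ⟨δ, hδ⟩ : ∃ δ : I27 → F, δ = fun x => (y1 ^ (wt x 0) * y6 ^ (wt x 5) *
      (y3 ^ (wt x 2) * y5 ^ (wt x 4) * (y2 ^ (wt x 1) * y4 ^ (wt x 3)))) * (d x : F) := ⟨_, rfl⟩
  have hzg : ∀ x, (((z * t : ↥(Zgrp F)) : GL I27 F) : Matrix I27 I27 F) *ᵥ e F x = δ x • e F x := by
    intro x
    rw [hδ]
    exact mul_scale (hze x) (hte x)
  have hmem : ((z * t : ↥(Zgrp F)) : GL I27 F) ∈ E6univ F := mem_E6univ_of_mem (z * t).2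
  have hδ1 : ∀ x, δ x = 1 := by
    refine prop_spec (fun m k h => diag_rel hmem hzg h) _ _ ?_ prop_check
    intro x hx
    have hx' : x = dec (E6Min.Tables.code x) := (dec_code x).symm
    obtain ⟨w9, w10, w12, w15, w18, w19⟩ := wt_tab
    simp only [List.mem_cons, List.not_mem_nil, or_false] at hx
    rcases hx with h | h | h | h | h | h
    · rw [h] at hx'
      rw [hx', hδ]
      have v0 : wt (dec 9) 0 = 0 := w9 0
      have v1 : wt (dec 9) 1 = 0 := w9 1
      have v2 : wt (dec 9) 2 = 0 := w9 2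
      have v3 : wt (dec 9) 3 = 0 := w9 3
      have v4 : wt (dec 9) 4 = 0 := w9 4
      have v5 : wt (dec 9) 5 = 1 := w9 5
      simp only [v0, v1, v2, v3, v4, v5, zpow_zero, zpow_one, one_mul, mul_one]
      rw [hy6]; field_simp
    · rw [h] at hx'
      rw [hx', hδ]
      have v0 : wt (dec 10) 0 = 0 := w10 0
      have v1 : wt (dec 10) 1 = -1 := w10 1
      have v2 : wt (dec 10) 2 = 0 := w10 2
      have v3 : wt (dec 10) 3 = 0 := w10 3
      have v4 : wt (dec 10) 4 = 0 := w10 4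
      have v5 : wt (dec 10) 5 = 1 := w10 5
      simp only [v0, v1, v2, v3, v4, v5, zpow_zero, zpow_one, one_mul, mul_one, zpow_neg]
      rw [hy6, hy2]; field_simp
    · rw [h] at hx'
      rw [hx', hδ]
      have v0 : wt (dec 12) 0 = 0 := w12 0
      have v1 : wt (dec 12) 1 = 0 := w12 1
      have v2 : wt (dec 12) 2 = 0 := w12 2
      have v3 : wt (dec 12) 3 = 0 := w12 3
      have v4 : wt (dec 12) 4 = 1 := w12 4
      have v5 : wt (dec 12) 5 = -1 := w12 5
      simp only [v0, v1, v2, v3, v4, v5, zpow_zero, zpow_one, one_mul, mul_one, zpow_neg]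
      rw [hy6, hy5]; field_simp
    · rw [h] at hx'
      rw [hx', hδ]
      have v0 : wt (dec 15) 0 = 0 := w15 0
      have v1 : wt (dec 15) 1 = 0 := w15 1
      have v2 : wt (dec 15) 2 = 0 := w15 2
      have v3 : wt (dec 15) 3 = 1 := w15 3
      have v4 : wt (dec 15) 4 = -1 := w15 4
      have v5 : wt (dec 15) 5 = 0 := w15 5
      simp only [v0, v1, v2, v3, v4, v5, zpow_zero, zpow_one, one_mul, mul_one, zpow_neg]
      rw [hy4, hy5]; field_simp
    · rw [h] at hx'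
      rw [hx', hδ]
      have v0 : wt (dec 18) 0 = -1 := w18 0
      have v1 : wt (dec 18) 1 = 0 := w18 1
      have v2 : wt (dec 18) 2 = 0 := w18 2
      have v3 : wt (dec 18) 3 = 0 := w18 3
      have v4 : wt (dec 18) 4 = 0 := w18 4
      have v5 : wt (dec 18) 5 = 0 := w18 5
      simp only [v0, v1, v2, v3, v4, v5, zpow_zero, zpow_one, one_mul, mul_one, zpow_neg]
      rw [hy1]; field_simp
    · rw [h] at hx'
      rw [hx', hδ]
      have v0 : wt (dec 19) 0 = 1 := w19 0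
      have v1 : wt (dec 19) 1 = 0 := w19 1
      have v2 : wt (dec 19) 2 = -1 := w19 2
      have v3 : wt (dec 19) 3 = 0 := w19 3
      have v4 : wt (dec 19) 4 = 0 := w19 4
      have v5 : wt (dec 19) 5 = 0 := w19 5
      simp only [v0, v1, v2, v3, v4, v5, zpow_zero, zpow_one, one_mul, mul_one, zpow_neg]
      rw [hy1, hy3]; field_simp
  have h1 : z * t = 1 := by
    apply Subtype.ext
    apply Units.ext
    rw [Subgroup.coe_one, Units.val_one]
    ext x y
    have := congrFun (hzg y) x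
    rw [hδ1 y, one_smul] at this
    unfold e at this
    rw [Matrix.mulVec_single_one] at this
    rw [Matrix.one_apply]
    rw [Matrix.col_apply] at this
    rw [this, Pi.single_apply]
  rw [show t = z⁻¹ from eq_inv_of_mul_eq_one_right h1]
  exact inv_mem hzG

section finite

open Cfsg.Agent.GpExc.Field (glMap coe_glMap)
open Cfsg.Agent.H65.E6Ext (ker_scalar ker_pow mat_key)
open Cfsg.Agent.H163.E6 (V V')

variable {F : Type u} [Field F] [Fintype F] {φ : F →+* F} {q : ℕ}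

/-- **The fixed points of the Steinberg endomorphism are mapped into the twisted group.** -/
theorem Gs_le_Gl (hq : IsPrimePow q) (hF : Fintype.card F = q ^ 2) (hφ : ∀ t, φ t = t ^ q)
    (hqq : ∀ t : F, (t ^ q) ^ q = t) : Gs φ ≤ Gl F q := by
  intro g hg
  have h1 : TwE6Basic.sg φ ((ad F g : ↥(chevE6.group F)) : GL chevE6.Idx F) =
      ((ad F g : ↥(chevE6.group F)) : GL chevE6.Idx F) := by
    rw [← ad_sE, (mem_Gs φ).1 hg]
  obtain ⟨x, hx, t, ht, hxt⟩ := Cfsg.Agent.BpExc.EmbInst.twE6_split (f := RingHom.id F) hq hF hφ (ad F g).2 h1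
  have hid : glMap chevE6 (RingHom.id F) x = x := by
    apply Units.ext
    rw [coe_glMap]
    exact Matrix.map_id _
  rw [hid] at hxt
  obtain ⟨gx, hgx, hgx2⟩ := exists_Gs φ hφ hqq hx
  have h2 : gx⁻¹ * g ∈ Gs φ := mul_mem (inv_mem hgx) hg
  have h3 : ((ad F (gx⁻¹ * g) : ↥(chevE6.group F)) : GL chevE6.Idx F) = t := by
    rw [map_mul, map_inv, Subgroup.coe_mul, Subgroup.coe_inv, hgx2, hxt, inv_mul_cancel_left]
  have h4 : ad F (gx⁻¹ * g) ∈ Cfsg.Agent.KFacts.RgdChevCoord.TT chevE6 F :=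
    Subgroup.mem_subgroupOf.2 (by rw [h3]; exact ht)
  obtain ⟨c, hc⟩ := Cfsg.Agent.H944.RootVals.TT_diag E6T.typeE6 h4
  obtain ⟨d, hd, -⟩ := E6T.diag_of_ad hc
  have h5 := diag_mem_Gl φ hφ hd h2
  have h6 : gx ∈ Gl F q := by rw [mem_Gl, hgx2]; exact hx
  have h7 := mul_mem h6 h5
  rwa [mul_inv_cancel_left] at h7

/-- an element of the simply connected group whose image is fixed has a fixed translate -/
theorem exists_fixed (hφφ : ∀ t : F, φ (φ t) = t) {x : ↥(Zgrp F)} (hx : ad F (sE φ x) = ad F x) :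
    ∃ x' ∈ Gs φ, ad F x' = ad F x := by
  obtain ⟨c, hc⟩ : ∃ c, c = x⁻¹ * sE φ x := ⟨_, rfl⟩
  have hc1 : ad F c = 1 := by rw [hc, map_mul, map_inv, hx, inv_mul_cancel]
  obtain ⟨hc3, hcc⟩ := ker_pow hc1
  have hsx : sE φ x = x * c := by rw [hc, mul_inv_cancel_left]
  have hsc : sE φ c = c⁻¹ := by
    have h2 := sE_sE φ hφφ x
    rw [hsx, map_mul, hsx, mul_assoc] at h2
    have h3 : c * sE φ c = 1 := mul_left_cancel (h2.trans (mul_one x).symm)
    exact (inv_eq_of_mul_eq_one_right h3).symm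
  refine ⟨x * c⁻¹, ?_, by rw [map_mul, map_inv, hc1, inv_one, mul_one]⟩
  rw [mem_Gs, map_mul, map_inv, hsx, hsc, inv_inv, mul_assoc]
  have h5 : c * c = c⁻¹ := by
    rw [eq_inv_iff_mul_eq_one, ← pow_two, ← pow_succ, hc3]
  rw [h5]

theorem ad_eq_iff {x y : ↥(Zgrp F)} : ad F x = ad F y ↔
    ((ad F x : ↥(chevE6.group F)) : GL chevE6.Idx F) = ((ad F y : ↥(chevE6.group F)) : GL chevE6.Idx F) :=
  ⟨fun h => by rw [h], fun h => Subtype.ext h⟩

/-- **The elements of `E₆(q²)` fixed by `σ` belong to `²E₆(q)`.** -/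
theorem mem_twisted (hq : IsPrimePow q) (hF : Fintype.card F = q ^ 2) (hφ : ∀ t, φ t = t ^ q)
    (hqq : ∀ t : F, (t ^ q) ^ q = t) {y : ↥(chevE6.group F)}
    (hy : TwE6Basic.sg φ (y : GL chevE6.Idx F) = y) : (y : GL chevE6.Idx F) ∈ twistedE6 F q := by
  obtain ⟨x, rfl⟩ := ad_surjective (F := F) y
  have hφφ : ∀ t : F, φ (φ t) = t := fun t => by rw [hφ, hφ, hqq]
  have h1 : ad F (sE φ x) = ad F x := ad_eq_iff.2 (by rw [ad_sE, hy])
  obtain ⟨x', h2, h3⟩ := exists_fixed hφφ h1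
  have h4 := Gs_le_Gl hq hF hφ hqq h2
  rw [mem_Gl, h3] at h4
  exact h4

/-- the Steinberg endomorphism on `1 + t N` -/
theorem coe_sE_one_add (g : ↥(Zgrp F)) {N : Matrix I27 I27 F} (hN2 : N * N = 0) {t : F}
    (hg : ((g : GL I27 F) : Matrix I27 I27 F) = 1 + t • N) :
    ((sE φ g : GL I27 F) : Matrix I27 I27 F) =
      1 + φ t • (-(QM F * (PM F * (N.map φ)ᵀ * PM F) * QM F)) := by
  have hm : (1 + t • N).map φ = 1 + φ t • N.map φ := by
    ext i j
    simp only [Matrix.map_apply, Matrix.add_apply, Matrix.smul_apply, smul_eq_mul, map_add, map_mul,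
      Matrix.one_apply, apply_ite φ, map_one, map_zero]
  have hN2' : N.map φ * N.map φ = 0 := by
    rw [← Matrix.map_mul, hN2]
    ext i j
    simp
  have h1 : ((((gm φ (g : GL I27 F))⁻¹ : GL I27 F)) : Matrix I27 I27 F) = 1 - φ t • N.map φ := by
    rw [Matrix.coe_units_inv]
    apply Matrix.inv_eq_right_inv
    rw [coe_gm, hg, hm, add_mul, one_mul, mul_sub, mul_one, smul_mul_smul_comm, hN2', smul_zero]
    abel
  rw [coe_sE, sZ_apply]
  unfold gU
  simp only [Units.val_mul, coe_PU, coe_QU]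
  rw [coe_dual, h1, Matrix.transpose_sub, Matrix.transpose_one, Matrix.transpose_smul]
  have h2 : PM F * (1 : Matrix I27 I27 F) * PM F = 1 := by rw [mul_one, PM_sq]
  have h3 : QM F * (1 : Matrix I27 I27 F) * QM F = 1 := by rw [mul_one, QM_sq]
  rw [mul_sub, sub_mul, mul_sub, sub_mul, h2, h3, mul_smul_comm, smul_mul_assoc, mul_smul_comm, smul_mul_assoc, smul_neg,
    sub_eq_add_neg]

/-- **No one-parameter group `1 + t a` commutes with a subgroup of `²E₆(q)` with trivial centralizer.** -/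
theorem kill (hq : IsPrimePow q) (hF : Fintype.card F = q ^ 2) (hφ : ∀ t, φ t = t ^ q)
    (hqq : ∀ t : F, (t ^ q) ^ q = t) {A : Subgroup ↥(chevE6.group F)}
    (hA : ∀ b ∈ A, (b : GL chevE6.Idx F) ∈ twistedE6 F q)
    (hC : ∀ y : ↥(chevE6.group F), (y : GL chevE6.Idx F) ∈ twistedE6 F q → (∀ b ∈ A, b * y = y * b) → y = 1)
    {a : (I27 → F) →ₗ[F] (I27 → F)} (ha : a ≠ 0) (ha2 : ∀ x, a (a x) = 0)
    (h : ∀ t : F, ∃ g : ↥(Zgrp F), (∀ x, V F g x = x + t • a x) ∧ ∀ b ∈ A, b * ad F g = ad F g * b) : False := by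
  have hφφ : ∀ t : F, φ (φ t) = t := fun t => by rw [hφ, hφ, hqq]
  have hAfix : ∀ b ∈ A, TwE6Basic.sg φ (b : GL chevE6.Idx F) = b := fun b hb =>
    TwE6Basic.twisted_le_fix φ hφ hqq (hA b hb)
  -- the preimage of the centralizer
  let C : Subgroup ↥(Zgrp F) := (Subgroup.centralizer (A : Set ↥(chevE6.group F))).comap (ad F)
  have memC : ∀ x, x ∈ C ↔ ∀ b ∈ A, b * ad F x = ad F x * b := fun x => by
    rw [Subgroup.mem_comap, Subgroup.mem_centralizer_iff]
    rfl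
  have hσC : ∀ x ∈ C, sE φ x ∈ C := by
    intro x hx
    rw [memC] at hx ⊢
    intro b hb
    apply Subtype.ext
    have h1 := congrArg (fun y : ↥(chevE6.group F) => TwE6Basic.sg φ (y : GL chevE6.Idx F)) (hx b hb)
    simp only [Subgroup.coe_mul, map_mul] at h1
    rw [Subgroup.coe_mul, Subgroup.coe_mul, ad_sE]
    rw [hAfix b hb] at h1
    exact h1
  have hfix2 : ∀ x ∈ C, ad F (sE φ x) = ad F x → ad F x = 1 := by
    intro x hx h1
    obtain ⟨x', h2, h3⟩ := exists_fixed hφφ h1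
    have h4 := Gs_le_Gl hq hF hφ hqq h2
    rw [mem_Gl, h3] at h4
    exact hC _ h4 ((memC x).1 hx)
  have hker : ∀ x, ad F x = 1 → ad F (sE φ x) = 1 := by
    intro x hx
    apply Subtype.ext
    rw [ad_sE, hx, Subgroup.coe_one, map_one]
  -- the quotient
  let a' : C →* ↥(chevE6.group F) := (ad F).comp C.subtype
  let ψ : C →* C := ((sE φ).comp C.subtype).codRestrict C fun x => hσC x x.2
  have hK : a'.ker ≤ a'.ker.comap ψ := by
    intro x hx
    rw [Subgroup.mem_comap, MonoidHom.mem_ker]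
    exact hker _ (MonoidHom.mem_ker.1 hx)
  let θ : (C ⧸ a'.ker) →* (C ⧸ a'.ker) := QuotientGroup.map a'.ker a'.ker ψ hK
  have hθ : MonoidHom.FixedPointFree θ := by
    intro c hc
    induction c using QuotientGroup.induction_on with
    | H x =>
      have h1 : (QuotientGroup.mk (ψ x) : C ⧸ a'.ker) = QuotientGroup.mk x := hc
      rw [QuotientGroup.eq] at h1
      have h2 : ad F ((sE φ (x : ↥(Zgrp F)))⁻¹ * x) = 1 := h1
      rw [map_mul, map_inv, inv_mul_eq_one] at h2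
      exact (QuotientGroup.eq_one_iff x).2 (hfix2 x x.2 h2)
  have hθ2 : θ^[2] = _root_.id := by
    funext c
    induction c using QuotientGroup.induction_on with
    | H x =>
      show (QuotientGroup.mk (ψ (ψ x)) : C ⧸ a'.ker) = QuotientGroup.mk x
      congr 1
      exact Subtype.ext (sE_sE φ hφφ x)
  have hfin : Finite ↥(Zgrp F) := inferInstance
  have hfinq : Finite (C ⧸ a'.ker) := inferInstance
  have hinv := hθ.coe_eq_inv_of_sq_eq_one hθ2
  have key : ∀ x ∈ C, ad F (sE φ x * x) = 1 := by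
    intro x hx
    have h1 := congrFun hinv (QuotientGroup.mk (⟨x, hx⟩ : C))
    have h2 : (QuotientGroup.mk (ψ ⟨x, hx⟩) : C ⧸ a'.ker) = (QuotientGroup.mk (⟨x, hx⟩ : C))⁻¹ := h1
    rw [eq_inv_iff_mul_eq_one, ← QuotientGroup.mk_mul] at h2
    exact (QuotientGroup.eq_one_iff (ψ ⟨x, hx⟩ * ⟨x, hx⟩)).1 h2
  -- the one-parameter group
  choose z hzz hzA using h
  let N : Matrix I27 I27 F := LinearMap.toMatrix' a
  have hNn : ∀ x, N.mulVec x = a x := fun x => LinearMap.toMatrix'_mulVec a x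
  have hN0 : N ≠ 0 := fun h0 => ha (LinearMap.toMatrix'.injective (h0.trans (map_zero _).symm))
  have hN2 : N * N = 0 := by
    have h1 : a.comp a = 0 := LinearMap.ext ha2
    have h2 : LinearMap.toMatrix' (a.comp a) = N * N := LinearMap.toMatrix'_comp a a
    rw [← h2, h1, map_zero]
  have hzm : ∀ t, ((z t : GL I27 F) : Matrix I27 I27 F) = 1 + t • N := by
    intro t
    apply Matrix.toLin'.injective
    refine LinearMap.ext fun x => ?_
    rw [Matrix.toLin'_apply, Matrix.toLin'_apply, Matrix.add_mulVec, Matrix.one_mulVec, Matrix.smul_mulVec, hNn]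
    exact hzz t x
  have hzC : ∀ t, z t ∈ C := fun t => (memC _).2 (hzA t)
  obtain ⟨N', hN'⟩ : ∃ N', N' = -(QM F * (PM F * (N.map φ)ᵀ * PM F) * QM F) := ⟨_, rfl⟩
  have hs1 : ∀ t, ((sE φ (z t) : GL I27 F) : Matrix I27 I27 F) = 1 + φ t • N' := fun t => by
    rw [hN']
    exact coe_sE_one_add (z t) hN2 (hzm t)
  have hN2' : N' * N' = 0 := by
    have h1 : N.map φ * N.map φ = 0 := by
      rw [← Matrix.map_mul, hN2]
      ext i j
      simp
    have h2 : (N.map φ)ᵀ * (N.map φ)ᵀ = 0 := by rw [← Matrix.transpose_mul, h1, Matrix.transpose_zero]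
    rw [hN', neg_mul_neg]
    calc QM F * (PM F * (N.map φ)ᵀ * PM F) * QM F * (QM F * (PM F * (N.map φ)ᵀ * PM F) * QM F) =
        QM F * (PM F * ((N.map φ)ᵀ * (PM F * (QM F * QM F) * PM F) * (N.map φ)ᵀ) * PM F) * QM F := by
          simp only [mul_assoc]
      _ = 0 := by rw [QM_sq, mul_one, PM_sq, mul_one, h2, mul_zero, zero_mul, mul_zero, zero_mul]
  have hst : ∀ t, φ t • N' = -(t • N) := by
    intro t
    obtain ⟨c, -, hc⟩ := ker_scalar (key (z t) (hzC t))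
    have h1 : ((sE φ (z t) * z t : ↥(Zgrp F)) : GL I27 F) = (sE φ (z t) : GL I27 F) * (z t : GL I27 F) := rfl
    rw [h1, Units.val_mul, hs1, hzm] at hc
    exact mat_key hN0 hN2 hN2' hc
  have hN'' : N' = -N := by
    have h1 := hst 1
    rwa [map_one, one_smul, one_smul] at h1
  have hsid : ∀ t, φ t = t := by
    intro t
    have h1 := hst t
    rw [hN'', smul_neg, neg_inj] at h1
    have h2 : (φ t - t) • N = 0 := by rw [sub_smul, h1, sub_self]
    exact sub_eq_zero.1 ((smul_eq_zero.1 h2).resolve_right hN0)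
  classical
  have hq1 : 1 < q := hq.one_lt
  have hroots : (Polynomial.X ^ q - Polynomial.X : Polynomial F) ≠ 0 := FiniteField.X_pow_card_sub_X_ne_zero F hq1
  have h1 : Fintype.card F ≤ (Polynomial.X ^ q - Polynomial.X : Polynomial F).natDegree := by
    have h2 : (Finset.univ : Finset F) ⊆ (Polynomial.X ^ q - Polynomial.X : Polynomial F).roots.toFinset := by
      intro t _
      rw [Multiset.mem_toFinset, Polynomial.mem_roots hroots, Polynomial.IsRoot.def, Polynomial.eval_sub,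
        Polynomial.eval_pow, Polynomial.eval_X, ← hφ, hsid, sub_self]
    calc Fintype.card F = (Finset.univ : Finset F).card := (Finset.card_univ).symm
      _ ≤ _ := Finset.card_le_card h2
      _ ≤ _ := Multiset.toFinset_card_le _
      _ ≤ _ := Polynomial.card_roots' _
  rw [FiniteField.X_pow_card_sub_X_natDegree_eq F hq1, hF] at h1
  nlinarith

end finite

end Cfsg.Agent.H944.E6Tw
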