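import Mathlib
import Cfsg.Agent.H944.E6TwB
import Cfsg.Agent.H333.E6Act
import Cfsg.Agent.H163.E6.Sit
import Cfsg.Agent.H952.F4.Jord

/-!
# The semilinear map `J : V → V'` of `²E₆(q)` (helper944)

`J φ x = Q φ(x)`, `J : V → V'` and `V' → V` : commutes with `Gs φ` (`V_J`, `V'_J`), `J (J x) = x`, and is compatible with `sh`,
`cr`, `tf`, `cubicT`. `ev_Gs` : `ev (V g) (μ ^ q) = ev (V g) μ⁻¹`; `Bgrp` is perfect and contained in `Gs φ`; `Tw.twist`.
-/

set_option autoImplicit false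

namespace Cfsg.Agent.H944.E6Tw

open Cfsg Cfsg.Lie Module
open scoped Matrix
open Cfsg.Agent.ChevalleyStructure
open Cfsg.Agent.ChevalleyStructure.E6Min.Tables Cfsg.Agent.ChevalleyStructure.E6Min.Basic
  Cfsg.Agent.ChevalleyStructure.E6Min.Adjoint Cfsg.Agent.ChevalleyStructure.E6Min.Forms
open Cfsg.Agent.H184.GraphE6 (gU gU_mul gU_gU dual coe_dual dual_dual pi pi_pi PM PM_apply PM_mulVec PM_sq
  PM_transpose PU coe_PU PU_sq zM_transpose Nm_transpose dual_PU)
open Cfsg.Agent.H944.E6T (gm coe_gm zM_map)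
open Cfsg.Agent.ChevalleyStructure.TwE6Basic (rho epsE)
open Cfsg.Agent.H163.E6 (V V' V_apply V'_apply)
open Cfsg.Agent.H952.F4 (ev sh cr tf)
open Cfsg.Agent.H952.F4.Jord

universe u

/-! ### the signs and the Jordan structure -/

theorem q000 : qe (0, 0, 0) = 1 := by decide
theorem q001 : qe (0, 0, 1) = -1 := by decide
theorem q002 : qe (0, 0, 2) = 1 := by decide
theorem q010 : qe (0, 1, 0) = -1 := by decide
theorem q011 : qe (0, 1, 1) = 1 := by decide
theorem q012 : qe (0, 1, 2) = -1 := by decide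
theorem q020 : qe (0, 2, 0) = 1 := by decide
theorem q021 : qe (0, 2, 1) = -1 := by decide
theorem q022 : qe (0, 2, 2) = 1 := by decide
theorem q100 : qe (1, 0, 0) = -1 := by decide
theorem q101 : qe (1, 0, 1) = -1 := by decide
theorem q102 : qe (1, 0, 2) = -1 := by decide
theorem q110 : qe (1, 1, 0) = 1 := by decide
theorem q111 : qe (1, 1, 1) = 1 := by decide
theorem q112 : qe (1, 1, 2) = 1 := by decide
theorem q120 : qe (1, 2, 0) = -1 := by decide
theorem q121 : qe (1, 2, 1) = -1 := by decide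
theorem q122 : qe (1, 2, 2) = -1 := by decide
theorem q200 : qe (2, 0, 0) = -1 := by decide
theorem q201 : qe (2, 0, 1) = 1 := by decide
theorem q202 : qe (2, 0, 2) = -1 := by decide
theorem q210 : qe (2, 1, 0) = -1 := by decide
theorem q211 : qe (2, 1, 1) = 1 := by decide
theorem q212 : qe (2, 1, 2) = -1 := by decide
theorem q220 : qe (2, 2, 0) = -1 := by decide
theorem q221 : qe (2, 2, 1) = 1 := by decide
theorem q222 : qe (2, 2, 2) = -1 := by decide

section ring

variable {R : Type u} [CommRing R]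

/-- multiplication with the signs -/
def Qv (x : I27 → R) : I27 → R := fun i => ((qe i : ℤ) : R) * x i

theorem sh_Qv (x : I27 → R) : sh (Qv x) = Qv (sh x) := by
  refine ext27 fun k i j => ?_
  unfold Qv
  fin_cases k <;> fin_cases i <;> fin_cases j <;>
    simp only [Fin.zero_eta, Fin.mk_one, Fin.reduceFinMk,
      sh000, sh001, sh002, sh010, sh011, sh012, sh020, sh021, sh022, sh100, sh101, sh102, sh110, sh111, sh112,
      sh120, sh121, sh122, sh200, sh201, sh202, sh210, sh211, sh212, sh220, sh221, sh222,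
      q000, q001, q002, q010, q011, q012, q020, q021, q022, q100, q101, q102, q110, q111, q112, q120, q121, q122,
      q200, q201, q202, q210, q211, q212, q220, q221, q222, Int.cast_one, Int.cast_neg] <;> ring

theorem Qv_add (x y : I27 → R) : Qv (x + y) = Qv x + Qv y := by
  funext i
  exact mul_add _ _ _

theorem Qv_sub (x y : I27 → R) : Qv (x - y) = Qv x - Qv y := by
  funext i
  exact mul_sub _ _ _

theorem cr_Qv (x y : I27 → R) : cr (Qv x) (Qv y) = Qv (cr x y) := by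
  unfold cr
  rw [← Qv_add, sh_Qv, sh_Qv, sh_Qv, Qv_sub, Qv_sub]

theorem tf_Qv (x y : I27 → R) : tf (Qv x) (Qv y) = tf x y := by
  rw [tf_eq, tf_eq]
  unfold Qv
  simp only [Fin.sum_univ_three,
      q000, q001, q002, q010, q011, q012, q020, q021, q022, q100, q101, q102, q110, q111, q112, q120, q121, q122,
      q200, q201, q202, q210, q211, q212, q220, q221, q222, Int.cast_one, Int.cast_neg]
  ring

theorem cubicT_Qv (x : I27 → R) : cubicT (Qv x) = cubicT x := by
  rw [N_eq, N_eq]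
  unfold Qv
  simp only [Fin.sum_univ_three,
      q000, q001, q002, q010, q011, q012, q020, q021, q022, q100, q101, q102, q110, q111, q112, q120, q121, q122,
      q200, q201, q202, q210, q211, q212, q220, q221, q222, Int.cast_one, Int.cast_neg]
  ring

end ring

/-! ### the semilinear map -/

section field

variable {F : Type u} [Field F] (φ : F →+* F)

/-- **The semilinear map.** -/
def J (x : I27 → F) : I27 → F := Qv fun i => φ (x i)

theorem J_apply (x : I27 → F) (i : I27) : J φ x i = ((qe i : ℤ) : F) * φ (x i) := rfl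

theorem J_eq (x : I27 → F) : J φ x = QM F *ᵥ fun i => φ (x i) := by
  funext i
  rw [QM_mulVec]
  rfl

theorem J_add (x y : I27 → F) : J φ (x + y) = J φ x + J φ y := by
  funext i
  rw [Pi.add_apply, J_apply, J_apply, J_apply, Pi.add_apply, map_add, mul_add]

theorem J_sub (x y : I27 → F) : J φ (x - y) = J φ x - J φ y := by
  funext i
  rw [Pi.sub_apply, J_apply, J_apply, J_apply, Pi.sub_apply, map_sub, mul_sub]

theorem J_smul (c : F) (x : I27 → F) : J φ (c • x) = φ c • J φ x := by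
  funext i
  rw [Pi.smul_apply, J_apply, J_apply, Pi.smul_apply, smul_eq_mul, smul_eq_mul, map_mul]
  ring

theorem J_zero : J φ (0 : I27 → F) = 0 := by
  funext i
  rw [J_apply, Pi.zero_apply, map_zero, mul_zero]

theorem J_J (hφφ : ∀ t : F, φ (φ t) = t) (x : I27 → F) : J φ (J φ x) = x := by
  funext i
  rw [J_apply, J_apply, map_mul, map_intCast, hφφ, ← mul_assoc, ← Int.cast_mul, qe_sq, Int.cast_one, one_mul]

theorem J_eq_zero (hφφ : ∀ t : F, φ (φ t) = t) {x : I27 → F} : J φ x = 0 ↔ x = 0 := by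
  constructor
  · intro h
    rw [← J_J φ hφφ x, h, J_zero]
  · rintro rfl
    exact J_zero φ

theorem sh_J (x : I27 → F) : sh (J φ x) = J φ (sh x) := by
  unfold J
  rw [sh_Qv, Cfsg.Agent.H65.E6Emb.sh_map]

theorem cr_J (x y : I27 → F) : cr (J φ x) (J φ y) = J φ (cr x y) := by
  unfold J
  rw [cr_Qv, Cfsg.Agent.H65.E6Emb.cr_map]

theorem tf_J (x y : I27 → F) : tf (J φ x) (J φ y) = φ (tf x y) := by
  unfold J
  rw [tf_Qv, Cfsg.Agent.H65.E6Emb.tf_map]

theorem cubicT_J (x : I27 → F) : cubicT (J φ x) = φ (cubicT x) := by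
  unfold J
  rw [cubicT_Qv, Cfsg.Agent.H65.E6Emb.cubicT_map]

theorem gm_mulVec (g : GL I27 F) (x : I27 → F) :
    ((gm φ g : GL I27 F) : Matrix I27 I27 F) *ᵥ (fun i => φ (x i)) = fun i => φ (((g : Matrix I27 I27 F) *ᵥ x) i) := by
  rw [coe_gm, Cfsg.Agent.H65.E6Emb.map_mulVec]

/-- `V g J = J V' g` for `g ∈ Gs φ` -/
theorem V_J {g : ↥(Zgrp F)} (hg : g ∈ Gs φ) (x : I27 → F) : V F g (J φ x) = J φ (V' F g x) := by
  have h1 : (g : GL I27 F) = QU F * gU (gm φ (g : GL I27 F)) * QU F := by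
    have h2 := congrArg (fun y : ↥(Zgrp F) => (y : GL I27 F)) ((mem_Gs φ).1 hg)
    exact h2.symm
  rw [V_apply, V'_apply, J_eq, J_eq]
  conv_lhs => rw [h1]
  rw [Units.val_mul, Units.val_mul, coe_QU, ← gm_gU, Matrix.mulVec_mulVec, mul_assoc, QM_sq, mul_one,
    ← Matrix.mulVec_mulVec, gm_mulVec]

/-- `V' g J = J V g` for `g ∈ Gs φ` -/
theorem V'_J {g : ↥(Zgrp F)} (hg : g ∈ Gs φ) (x : I27 → F) : V' F g (J φ x) = J φ (V F g x) := by
  have h1 : gU (g : GL I27 F) = QU F * gm φ (g : GL I27 F) * QU F := by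
    have h2 := congrArg (fun y : ↥(Zgrp F) => gU (y : GL I27 F)) ((mem_Gs φ).1 hg)
    have h3 : gU ((sE φ g : ↥(Zgrp F)) : GL I27 F) = QU F * gm φ (g : GL I27 F) * QU F := by
      rw [coe_sE, sZ_apply, gU_mul, gU_mul, gU_QU, gU_gU]
    rw [← h3]
    exact h2.symm
  rw [V_apply, V'_apply, J_eq, J_eq]
  conv_lhs => rw [h1]
  rw [Units.val_mul, Units.val_mul, coe_QU, Matrix.mulVec_mulVec, mul_assoc, QM_sq, mul_one,
    ← Matrix.mulVec_mulVec, gm_mulVec]

/-- dimensions of eigenspaces under `J` -/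
theorem ev_J [Finite F] (hφφ : ∀ t : F, φ (φ t) = t) {g : ↥(Zgrp F)} (hg : g ∈ Gs φ) (μ : F) :
    ev (V' F g) (φ μ) = ev (V F g) μ := by
  have e : ↥(Module.End.eigenspace (V F g) μ) ≃ ↥(Module.End.eigenspace (V' F g) (φ μ)) :=
    { toFun := fun x => ⟨J φ x.1, by
        have h := Module.End.mem_eigenspace_iff.1 x.2
        rw [Module.End.mem_eigenspace_iff, V'_J φ hg, h, J_smul]⟩
      invFun := fun y => ⟨J φ y.1, by
        have h := Module.End.mem_eigenspace_iff.1 y.2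
        rw [Module.End.mem_eigenspace_iff, V_J φ hg, h, J_smul, hφφ]⟩
      left_inv := fun x => Subtype.ext (J_J φ hφφ x.1)
      right_inv := fun y => Subtype.ext (J_J φ hφφ y.1) }
  have h1 := Nat.card_congr e
  have : Fintype F := Fintype.ofFinite F
  rw [Module.natCard_eq_pow_finrank (K := F) (V := ↥(Module.End.eigenspace (V F g) μ)),
    Module.natCard_eq_pow_finrank (K := F) (V := ↥(Module.End.eigenspace (V' F g) (φ μ)))] at h1
  have h2 : 1 < Nat.card F := by
    rw [Nat.card_eq_fintype_card]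
    exact Fintype.one_lt_card
  exact (Nat.pow_right_injective h2 h1).symm

/-- **`V` twisted by the Frobenius map is the dual of `V`.** -/
theorem ev_Gs [Finite F] (hφφ : ∀ t : F, φ (φ t) = t) {g : ↥(Zgrp F)} (hg : g ∈ Gs φ) {μ : F} (hμ : μ ≠ 0) :
    ev (V F g) (φ μ) = ev (V F g) μ⁻¹ := by
  have h1 := ev_J φ hφφ hg μ⁻¹
  rw [map_inv₀] at h1
  rw [← h1, Cfsg.Agent.H163.E6.Act.ev_dual g (inv_ne_zero ((map_ne_zero φ).2 hμ)), inv_inv]

end field

/-! ### the derived subgroup of the preimage -/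

section perfect

open Cfsg.Agent.H163.E6 (Bgrp Cover Twist scal)

variable {F : Type u} [Field F] {A : Type*} [Group A]

theorem map_Bgrp (hA : commutator A = ⊤) (ψ : A →* ↥(chevE6.group F)) : (Bgrp ψ).map (ad F) = ψ.range := by
  unfold Bgrp
  rw [Subgroup.map_commutator, Subgroup.map_comap_eq_self_of_surjective ad_surjective, MonoidHom.range_eq_map,
    ← Subgroup.map_commutator]
  rw [commutator_def] at hA
  rw [hA]

theorem Bgrp_le (ψ : A →* ↥(chevE6.group F)) : Bgrp ψ ≤ ψ.range.comap (ad F) := by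
  unfold Bgrp
  rw [Subgroup.commutator_le]
  intro a ha b hb
  exact mul_mem (mul_mem (mul_mem ha hb) (inv_mem ha)) (inv_mem hb)

/-- the derived subgroup of the preimage of a perfect group is perfect -/
theorem Bgrp_perfect (hA : commutator A = ⊤) (ψ : A →* ↥(chevE6.group F)) : ⁅Bgrp ψ, Bgrp ψ⁆ = Bgrp ψ := by
  apply le_antisymm
  · rw [Subgroup.commutator_le]
    intro a ha b hb
    exact mul_mem (mul_mem (mul_mem ha hb) (inv_mem ha)) (inv_mem hb)
  · conv_lhs => unfold Bgrp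
    rw [Subgroup.commutator_le]
    have key : ∀ d ∈ ψ.range.comap (ad F), ∃ b ∈ Bgrp ψ, ∃ k : ↥(Zgrp F), d = b * k ∧ ∀ x, x * k = k * x := by
      intro d hd
      have h1 : ad F d ∈ (Bgrp ψ).map (ad F) := by rw [map_Bgrp hA]; exact hd
      obtain ⟨b, hb, h2⟩ := h1
      refine ⟨b, hb, b⁻¹ * d, by rw [mul_inv_cancel_left], ?_⟩
      exact (Cfsg.Agent.H65.E6Ext.ker_pow (by rw [map_mul, map_inv, h2, inv_mul_cancel])).2
    intro d1 h1 d2 h2
    obtain ⟨b1, hb1, k1, rfl, c1⟩ := key d1 h1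
    obtain ⟨b2, hb2, k2, rfl, c2⟩ := key d2 h2
    rw [commutatorElement_def]
    have h3 : b1 * k1 * (b2 * k2) * (b1 * k1)⁻¹ * (b2 * k2)⁻¹ = b1 * b2 * b1⁻¹ * b2⁻¹ := by
      rw [mul_inv_rev, mul_inv_rev]
      calc b1 * k1 * (b2 * k2) * (k1⁻¹ * b1⁻¹) * (k2⁻¹ * b2⁻¹)
          = b1 * (k1 * (b2 * k2)) * k1⁻¹ * b1⁻¹ * k2⁻¹ * b2⁻¹ := by group
        _ = b1 * ((b2 * k2) * k1) * k1⁻¹ * b1⁻¹ * k2⁻¹ * b2⁻¹ := by rw [c1 (b2 * k2)]
        _ = b1 * b2 * (k2 * b1⁻¹) * k2⁻¹ * b2⁻¹ := by group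
        _ = b1 * b2 * (b1⁻¹ * k2) * k2⁻¹ * b2⁻¹ := by rw [c2 b1⁻¹]
        _ = b1 * b2 * b1⁻¹ * b2⁻¹ := by group
    rw [h3]
    exact Subgroup.commutator_mem_commutator hb1 hb2

end perfect

end Cfsg.Agent.H944.E6Tw

namespace Cfsg.Agent.H163.E6.Tw

open Cfsg Cfsg.Lie Module
open scoped Matrix
open Cfsg.Agent.ChevalleyStructure
open Cfsg.Agent.ChevalleyStructure.E6Min.Tables Cfsg.Agent.ChevalleyStructure.E6Min.Basic
  Cfsg.Agent.ChevalleyStructure.E6Min.Adjoint
open Cfsg.Agent.H184.GraphE6 (gU)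
open Cfsg.Agent.H952.F4 (ev sh cr tf)
open Cfsg.Agent.H944.E6Tw

universe u

theorem le (K : Type u) [Field K] (q : ℕ) : Cfsg.Lie.twistedE6 K q ≤ chevE6.group K := by
  have h : ∀ r < 72, ∀ t : K, TwE6Basic.x r t ∈ chevE6.group K := by
    intro r hr t
    rw [← ad_zU (⟨r, hr⟩ : Fin 72) t]
    exact (ad K _).2
  rw [TwE6Basic.twisted_le_iff]
  constructor
  · intro t _ r hr
    refine h r ?_ t
    simp only [List.mem_cons, List.not_mem_nil, or_false] at hr
    omega
  · intro t rs hrs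
    have h1 : rs.1 < 72 ∧ rs.2 < 72 := by
      simp only [List.mem_cons, List.not_mem_nil, or_false] at hrs
      rcases hrs with rfl | rfl | rfl | rfl <;> decide
    exact mul_mem (h _ h1.1 _) (h _ h1.2 _)

/-- the inclusion -/
noncomputable def incl (K : Type u) [Field K] (q : ℕ) : ↥(Cfsg.Lie.twistedE6 K q) →* ↥(chevE6.group K) :=
  Subgroup.inclusion (le K q)

theorem coe_incl {K : Type u} [Field K] {q : ℕ} (x : ↥(Cfsg.Lie.twistedE6 K q)) :
    ((incl K q x : ↥(chevE6.group K)) : GL chevE6.Idx K) = x := rfl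

theorem incl_injective (K : Type u) [Field K] (q : ℕ) : Function.Injective (incl K q) :=
  Subgroup.inclusion_injective (le K q)

theorem mem_map_incl {K : Type u} [Field K] {q : ℕ} {H : Subgroup ↥(Cfsg.Lie.twistedE6 K q)} {y : ↥(chevE6.group K)}
    (hy : (y : GL chevE6.Idx K) ∈ Cfsg.Lie.twistedE6 K q) : y ∈ H.map (incl K q) ↔ (⟨y, hy⟩ : ↥(twistedE6 K q)) ∈ H := by
  constructor
  · rintro ⟨x, hx, rfl⟩
    exact hx
  · intro h
    exact ⟨_, h, Subtype.ext rfl⟩

variable {K : Type u} [Field K] [Fintype K] {q : ℕ}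

/-- the perfect preimage consists of fixed points of the Steinberg endomorphism -/
theorem Bgrp_le_Gs {φ : K →+* K} (hφ : ∀ t, φ t = t ^ q) (hqq : ∀ t : K, (t ^ q) ^ q = t) {A : Type*} [Group A]
    (hA : commutator A = ⊤) (ψ : A →* ↥(Cfsg.Lie.twistedE6 K q)) : Bgrp ((incl K q).comp ψ) ≤ Gs φ := by
  refine le_Gs_of_perfect φ (Bgrp_perfect hA _) fun b hb => ?_
  obtain ⟨a, ha⟩ := Bgrp_le _ hb
  rw [← ha]
  exact TwE6Basic.twisted_le_fix φ hφ hqq (ψ a).2

/-- **The additional facts for `²E₆(q)`.** -/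
theorem twist (hq : IsPrimePow q) (hK : Fintype.card K = q ^ 2) {A : Type*} [Group A] (hA : commutator A = ⊤)
    (ψ : A →* ↥(Cfsg.Lie.twistedE6 K q)) : Twist q ((incl K q).comp ψ) := by
  obtain ⟨φ, hφ, hqq⟩ := TwE6Basic.exists_frob hq hK
  have hB := Bgrp_le_Gs hφ hqq hA ψ
  have hφφ : ∀ t : K, φ (φ t) = t := fun t => by rw [hφ, hφ, hqq]
  refine ⟨by rw [Nat.card_eq_fintype_card, hK], ?_, ?_⟩
  · rintro ω ⟨-, -, z, hz, hzB⟩
    have h1 : z ∈ Gs φ := hB hzB
    have h2 : ∀ x : I27 → K, V K z x = (ω : K) • x := by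
      intro x
      rw [V_apply, hz, Act.coe_scal, Matrix.smul_mulVec, Matrix.one_mulVec]
    have h0 : (ω : K) ≠ 0 := ω.ne_zero
    have h3 : ∀ x : I27 → K, V' K z x = ((ω : K)⁻¹) • x := by
      intro x
      have h4 : (ω : K) • V' K z x - x = 0 := by
        apply Cfsg.Agent.H952.F4.Jord.tf_nondeg
        intro y
        have h5 := Act.tf_act z y x
        rw [h2, Cfsg.Agent.H952.F4.Jord.tf_smul_left] at h5
        rw [Cfsg.Agent.H952.F4.Jord.tf_comm, sub_eq_add_neg, Cfsg.Agent.H952.F4.Jord.tf_add_right,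
          Cfsg.Agent.H952.F4.Jord.tf_smul_right, h5]
        have h6 := Cfsg.Agent.H952.F4.Jord.tf_smul_right (-1 : K) y x
        rw [neg_one_smul] at h6
        rw [h6]
        ring
      rw [sub_eq_zero] at h4
      rw [← h4, smul_smul, inv_mul_cancel₀ h0, one_smul, h4]
    have h4 := V_J φ h1 (Cfsg.Agent.H952.F4.u0 K)
    rw [h2, h3, J_smul] at h4
    have h5 : J φ (Cfsg.Agent.H952.F4.u0 K) ≠ 0 := by
      intro h
      rw [J_eq_zero φ hφφ] at h
      have h6 := Act.cubicT_u0 (F := K)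
      rw [h] at h6
      have h7 := Cfsg.Agent.H952.F4.Jord.N_smul (0 : K) (0 : I27 → K)
      rw [zero_smul, h6] at h7
      simp at h7
    have h6 : (ω : K) = φ (ω : K)⁻¹ := by
      by_contra hne
      apply h5
      have h7 : ((ω : K) - φ (ω : K)⁻¹) • J φ (Cfsg.Agent.H952.F4.u0 K) = 0 := by rw [sub_smul, h4, sub_self]
      rcases smul_eq_zero.1 h7 with h8 | h8
      · exact absurd (sub_eq_zero.1 h8) hne
      · exact h8
    have h7 : φ (ω : K) * φ (ω : K)⁻¹ = 1 := by rw [← map_mul, mul_inv_cancel₀ h0, map_one]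
    rw [← h6, hφ, ← pow_succ] at h7
    exact Units.ext (by rw [Units.val_pow_eq_pow_val, Units.val_one]; exact h7)
  · intro g hg μ hμ
    rw [← hφ, ev_Gs φ hφφ (hB hg) hμ]

end Cfsg.Agent.H163.E6.Tw
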